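import Cfsg.Agent.Lib.OrthExtOdd.Elements
import Mathlib.FieldTheory.Finite.Basic
import Mathlib.RingTheory.Trace.Basic

/-!
Two fields of self-adjoint operators both commuting with a large subgroup of the unipotent group of a frame differ by
an isometry which is trivial on the layers of the frame.
Owner: helper93.
-/

set_option autoImplicit false
set_option linter.unusedSectionVars false
set_option linter.style.haveILetI false

namespace Cfsg.Agent.Lib.OrthExtOdd

open scoped commutatorElement

open Matrix Module Cfsg.Agent.Lib.Subspaces.Transvection Cfsg.Agent.Lib.Subspaces.FormVec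
  Cfsg.Agent.Lib.Subspaces.OrthForm Cfsg.Agent.Lib.Subspaces.OmegaGL Cfsg.Agent.Lib.K41.ExtForm

variable {ι : Type} [Fintype ι] [DecidableEq ι] {F K : Type*} [Field F] [Field K] [Algebra F K]
  [Module K (ι → F)] [IsScalarTower F K (ι → F)] [Finite F] [Finite K]

/-- Multiplication by the scalars of `K`. -/
noncomputable def mul' : K →ₐ[F] Module.End F (ι → F) := Algebra.lsmul F F (ι → F)

theorem mul'_apply (c : K) (x : ι → F) : mul' (F := F) c x = c • x := rfl

theorem eq_smul_of_commute (hr : (finrank F K).Prime) (P : K →ₗ[F] K) {μ : K} (hμF : ∀ a : F, μ ≠ algebraMap F K a)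
    (hμ : ∀ x, P (μ * x) = μ * P x) (x : K) : P x = x * P 1 := by
  let T : Subalgebra F K :=
    { carrier := {c | ∀ x, P (c * x) = c * P x}
      mul_mem' := fun {a b} ha hb x => by rw [mul_assoc, ha, hb, mul_assoc]
      one_mem' := fun x => by simp
      add_mem' := fun {a b} ha hb x => by rw [add_mul, map_add, ha, hb, add_mul]
      zero_mem' := fun x => by simp
      algebraMap_mem' := fun t x => by rw [← Algebra.smul_def, map_smul, ← Algebra.smul_def] }
  have hT : T = ⊤ := by
    haveI := Subalgebra.isSimpleOrder_of_finrank_prime F K hr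
    rcases eq_bot_or_eq_top T with e | e
    · have hμT : μ ∈ T := hμ
      rw [e] at hμT
      obtain ⟨a, ha⟩ := Algebra.mem_bot.1 hμT
      exact absurd ha.symm (hμF a)
    · exact e
  have h : x ∈ T := by rw [hT]; trivial
  simpa using h 1

namespace Setting

variable {S : Setting F K ι} {u u' : ι → F}

/-- Operators lowering the layers of `u`. -/
def Low (S : Setting F K ι) (u : ι → F) (A : Module.End F (ι → F)) : Prop :=
  (∀ x, S.h (A x) u = 0) ∧ (∀ z, S.h z u = 0 → ∃ c : K, A z = c • u) ∧ ∀ c : K, A (c • u) = 0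

theorem low_zero : S.Low u 0 := ⟨fun x => by simp, fun z _ => ⟨0, by simp⟩, fun c => rfl⟩

theorem low_add {A B : Module.End F (ι → F)} (hA : S.Low u A) (hB : S.Low u B) : S.Low u (A + B) :=
  ⟨fun x => by simp [hA.1, hB.1], fun z hz => by
    obtain ⟨a, ha⟩ := hA.2.1 z hz
    obtain ⟨b, hb⟩ := hB.2.1 z hz
    exact ⟨a + b, by simp [ha, hb, add_smul]⟩, fun c => by simp [hA.2.2, hB.2.2]⟩

theorem low_sum {α : Type*} (t : Finset α) {A : α → Module.End F (ι → F)} (hA : ∀ i ∈ t, S.Low u (A i)) :
    S.Low u (∑ i ∈ t, A i) :=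
  Finset.sum_induction A (S.Low u) (fun _ _ => low_add) low_zero hA

theorem low_mul {A B : Module.End F (ι → F)} (hA : S.Low u A) (hB : S.Low u B) : S.Low u (A * B) :=
  ⟨fun x => hA.1 _, fun z hz => ⟨0, by
    obtain ⟨b, hb⟩ := hB.2.1 z hz
    rw [Module.End.mul_apply, hb, hA.2.2, zero_smul]⟩, fun c => by rw [Module.End.mul_apply, hB.2.2, map_zero]⟩

theorem low_mul_scalar {A : Module.End F (ι → F)} (hA : S.Low u A) (c : K) : S.Low u (A * mul' c) :=
  ⟨fun x => hA.1 _, fun z hz => hA.2.1 _ (by simp [mul'_apply, hz]), fun b => by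
    rw [Module.End.mul_apply, mul'_apply, smul_smul, hA.2.2]⟩

theorem scalar_mul_low {A : Module.End F (ι → F)} (hA : S.Low u A) (c : K) : S.Low u (mul' c * A) :=
  ⟨fun x => by simp [mul'_apply, hA.1], fun z hz => by
    obtain ⟨a, ha⟩ := hA.2.1 z hz
    exact ⟨c * a, by rw [Module.End.mul_apply, ha, mul'_apply, mul_smul]⟩, fun b => by
      rw [Module.End.mul_apply, hA.2.2, map_zero]⟩

theorem low_cube {A B C : Module.End F (ι → F)} (hA : S.Low u A) (hB : S.Low u B) (hC : S.Low u C) :
    A * B * C = 0 := LinearMap.ext fun x => by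
  obtain ⟨b, hb⟩ := hB.2.1 (C x) (hC.1 x)
  show A (B (C x)) = 0
  rw [hb, hA.2.2]

theorem low_pow {A : Module.End F (ι → F)} (hA : S.Low u (A - 1)) (m : ℕ) : S.Low u (A ^ m - 1) := by
  induction m with
  | zero => simpa using low_zero
  | succ m ih =>
    have e : A ^ (m + 1) - 1 = (A ^ m - 1) * (A - 1) + ((A ^ m - 1) + (A - 1)) := by simp only [pow_succ, mul_sub, sub_mul, mul_one, one_mul]; abel
    rw [e]
    exact low_add (low_mul ih hA) (low_add ih hA)

/-- The middle space has dimension two less than the whole. -/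
theorem Frame.finrank_mid (P : S.Frame u u') : finrank K (S.mid u u') + 2 = finrank K (ι → F) := by
  haveI : FiniteDimensional K (ι → F) := Module.Finite.of_finite
  let φ : (K × K) × (S.mid u u') →ₗ[K] (ι → F) :=
    ((LinearMap.id.smulRight u).coprod (LinearMap.id.smulRight u')).coprod (S.mid u u').subtype
  have hφ : ∀ p, φ p = p.1.1 • u + p.1.2 • u' + p.2 := fun p => rfl
  have hb : Function.Bijective φ := by
    refine ⟨(injective_iff_map_eq_zero φ).2 fun p hp => ?_, fun x => ?_⟩
    · rw [hφ] at hp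
      have h1 := congrArg (fun y => S.h y u') hp
      have h2 := congrArg (fun y => S.h y u) hp
      simp [P.pair, P.uu', p.2.2.2] at h1
      simp [P.pair', P.uu, p.2.2.1] at h2
      rw [h1, h2, zero_smul, zero_smul, zero_add, zero_add] at hp
      exact Prod.ext (Prod.ext h1 h2) (Subtype.ext hp)
    · refine ⟨((S.h x u', S.h x u), ⟨_, P.proj_mem x⟩), ?_⟩
      rw [hφ]
      conv_rhs => rw [decomp (S := S) (u := u) (u' := u') x]
      abel
  have h := (LinearEquiv.ofBijective φ hb).finrank_eq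
  rw [Module.finrank_prod, Module.finrank_prod, Module.finrank_self] at h
  omega

/-- An operator commuting with many unipotent elements of the frame is scalar on the layers. -/
theorem Frame.layers (P : S.Frame u u') {C : AddSubgroup (S.mid u u')}
    (hspan : Submodule.span K ((fun w : S.mid u u' => (w : ι → F)) '' C) = S.mid u u')
    {w₁ w₂ w₃ w₄ : S.mid u u'} (h1 : w₁ ∈ C) (h2 : w₂ ∈ C) (h3 : w₃ ∈ C) (h4 : w₄ ∈ C)
    (h0 : S.h (w₁ : ι → F) w₂ ≠ 0)
    (hF : ∀ a : F, S.h (w₃ : ι → F) w₄ / S.h (w₁ : ι → F) w₂ ≠ algebraMap F K a)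
    (A : Module.End F (ι → F))
    (hA : ∀ w ∈ C, ∀ x, A ((S.E u (w : ι → F) : Matrix ι ι F) *ᵥ x) = (S.E u (w : ι → F) : Matrix ι ι F) *ᵥ A x) :
    ∃ a : K, S.Low u (A - mul' a) := by
  let Sw : (ι → F) → (ι → F) → (ι → F) := fun w x => S.h x u • w - (S.h x w + S.h w w / 2 * S.h x u) • u
  have hSw : ∀ w ∈ C, ∀ x, A (Sw (w : S.mid u u') x) = Sw w (A x) := by
    intro w hw x
    have h := hA w hw x
    rw [E_mulVec P.uu w.2.1, E_mulVec P.uu w.2.1, add_sub_assoc, add_sub_assoc, map_add] at h
    exact add_left_cancel h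
  have hprod : ∀ w v : S.mid u u', ∀ x, Sw w (Sw v x) = -(S.h (v : ι → F) w * S.h x u) • u := by
    intro w v x
    simp only [Sw, map_sub, map_smul, LinearMap.sub_apply, LinearMap.smul_apply, smul_eq_mul, v.2.1, P.uu,
      (S.symm u (w : ι → F)).trans w.2.1]
    module
  -- products of two
  let lam := fun w v : S.mid u u' => S.h (v : ι → F) w
  have hpr : ∀ w v : S.mid u u', w ∈ C → v ∈ C → ∀ x,
      A ((lam w v * S.h x u) • u) = (lam w v * S.h (A x) u) • u := by
    intro w v hw hv x
    have e := (hSw w hw (Sw v x)).trans (congrArg (Sw w) (hSw v hv x))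
    rw [hprod, hprod, neg_smul, neg_smul, map_neg, neg_inj] at e
    exact e
  set l := S.h (w₁ : ι → F) w₂ with hl
  set μ := S.h (w₃ : ι → F) w₄ / l with hμ
  let Pm : K →ₗ[F] K :=
    { toFun := fun c => S.h (A (c • u)) u'
      map_add' := fun a b => by simp [add_smul]
      map_smul' := fun t c => by
        rw [smul_assoc, map_smul, ← algebraMap_smul K t (A _), map_smul, LinearMap.smul_apply, smul_eq_mul,
          RingHom.id_apply, Algebra.smul_def] }
  have hval : ∀ (w v : S.mid u u') (y : K), w ∈ C → v ∈ C →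
      A ((lam w v * y) • u) = (lam w v * S.h (A (y • u')) u) • u := by
    intro w v y hw hv
    have h := hpr w v hw hv (y • u')
    simp only [map_smul, LinearMap.smul_apply, smul_eq_mul, P.pair', mul_one] at h
    exact h
  have hPu : ∀ c : K, A (c • u) = Pm c • u := by
    intro c
    have h := hval w₂ w₁ (c / l) h2 h1
    rw [show lam w₂ w₁ = l from rfl, mul_div_cancel₀ _ h0] at h
    show _ = S.h (A (c • u)) u' • u
    rw [h]
    simp [P.pair]
  have hrel : ∀ (w v : S.mid u u') (y : K), w ∈ C → v ∈ C →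
      Pm (lam w v * y) = lam w v * S.h (A (y • u')) u := by
    intro w v y hw hv
    show S.h (A _) u' = _
    rw [hval w v y hw hv]
    simp [P.pair]
  have hμP : ∀ x, Pm (μ * x) = μ * Pm x := by
    intro x
    have e1 := hrel w₄ w₃ (x / l) h4 h3
    have e2 := hrel w₂ w₁ (x / l) h2 h1
    rw [show lam w₂ w₁ = l from rfl, mul_div_cancel₀ _ h0] at e2
    rw [show lam w₄ w₃ = S.h (w₃ : ι → F) w₄ from rfl] at e1
    rw [show μ * x = S.h (w₃ : ι → F) w₄ * (x / l) by rw [hμ]; field_simp, e1, e2, hμ]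
    field_simp
  refine ⟨Pm 1, ?_⟩
  set a := Pm 1
  have hP : ∀ x, Pm x = x * a := eq_smul_of_commute S.prime Pm hF hμP
  have htop : ∀ x, S.h (A x) u = a * S.h x u := by
    intro x
    have h := hpr w₂ w₁ h2 h1 x
    rw [hPu, hP] at h
    have := smul_left_injective K P.ne_zero h
    refine mul_left_cancel₀ h0 ?_
    show l * _ = l * _
    rw [← this]
    show l * _ * a = _
    ring
  refine ⟨fun x => by simp [mul'_apply, htop], fun z hz => ?_, fun c => by
    rw [LinearMap.sub_apply, hPu, hP, mul'_apply, smul_smul, mul_comm, sub_self]⟩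
  set y := (A - (mul' a : Module.End F (ι → F))) z with hy
  refine ⟨S.h y u', ?_⟩
  have hyu : S.h y u = 0 := by simp [hy, mul'_apply, htop, hz]
  have hyC : ∀ w ∈ C, S.h y (w : S.mid u u') = 0 := by
    intro w hw
    have h := hSw w hw z
    simp only [Sw, hz, htop, mul_zero, zero_smul, zero_sub, add_zero] at h
    rw [← neg_smul, hPu, hP, ← neg_smul] at h
    have e := smul_left_injective K P.ne_zero h
    simp only [hy, LinearMap.sub_apply, mul'_apply, map_sub, map_smul, LinearMap.smul_apply, smul_eq_mul]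
    linear_combination e
  have hymid : ∀ m ∈ S.mid u u', S.h y m = 0 := by
    intro m hm
    rw [← hspan] at hm
    induction hm using Submodule.span_induction with
    | mem m hm => obtain ⟨w, hw, rfl⟩ := hm; exact hyC w hw
    | zero => exact map_zero _
    | add a b _ _ ha hb => rw [map_add, ha, hb, add_zero]
    | smul c a _ ha => rw [map_smul, ha, smul_zero]
  have hpy : S.proj u u' y = 0 := P.mid_nondeg (P.proj_mem y) fun m hm => by
    rw [proj, hyu, zero_smul, sub_zero, map_sub, map_smul, LinearMap.sub_apply, LinearMap.smul_apply,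
      hymid m hm, S.symm u m, hm.1, smul_zero, sub_zero]
  conv_lhs => rw [decomp (S := S) (u := u) (u' := u') y, hyu, hpy, zero_smul, add_zero, add_zero]

/-- Conjugation of an element of `Ω` by an isometry. -/
theorem conj_mem_omega {t l : GL ι F} (ht : t ∈ Cfsg.isometryGroup F S.Q) (hl : l ∈ Cfsg.Geo.omegaGL S.Q) :
    t * l * t⁻¹ ∈ Cfsg.Geo.omegaGL S.Q := by
  obtain ⟨l₀, hl₀, rfl⟩ := hl
  refine ⟨⟨t, ht⟩ * l₀ * ⟨t, ht⟩⁻¹, ?_, by simp⟩
  exact (inferInstance : (commutator (Cfsg.isometryGroup F S.Q)).Normal).conj_mem l₀ hl₀ _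

theorem mem_iso {t : GL ι F} (h : ∀ x, S.Q ((t : Matrix ι ι F) *ᵥ x) = S.Q x) :
    t ∈ Cfsg.isometryGroup F S.Q := fun x _ => by simpa [Units.coeHom_apply] using h x

/-- An element conjugating many unipotent elements to linear maps is a linear-preserving map times a layer-trivial
isometry. -/
theorem Frame.exists_unip (P : S.Frame u u') {M : Subgroup (GL ι F)} (hM : S.Over M) {p : ℕ} [Fact p.Prime]
    [CharP F p] {g : GL ι F} (hg : g ∈ M) (hns : ¬ Semi K g) {C : AddSubgroup (S.mid u u')}
    (hlin : ∀ w ∈ C, Lin K (g⁻¹ * S.E u (w : ι → F) * g))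
    (hspan : Submodule.span K ((fun w : S.mid u u' => (w : ι → F)) '' C) = S.mid u u')
    {w₁ w₂ w₃ w₄ : S.mid u u'} (h1 : w₁ ∈ C) (h2 : w₂ ∈ C) (h3 : w₃ ∈ C) (h4 : w₄ ∈ C)
    (h0 : S.h (w₁ : ι → F) w₂ ≠ 0)
    (hF : ∀ a : F, S.h (w₃ : ι → F) w₄ / S.h (w₁ : ι → F) w₂ ≠ algebraMap F K a) :
    ∃ n : GL ι F, n ∈ Cfsg.isometryGroup F S.Q ∧ ¬ Semi K n ∧ S.Low u ((n : Matrix ι ι F).mulVecLin - 1) ∧
      ∀ l ∈ Cfsg.Geo.omegaGL S.Q, Lin K l → n * l * n⁻¹ ∈ M := by
  classical
  haveI : FiniteDimensional F K := Module.Finite.of_finite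
  have hiso := omega_isometry S.hQ (hM.le hg)
  have hb := S.hQ.polar_bilinear
  -- the conjugate field
  let conj : K →ₐ[F] Module.End F (ι → F) :=
    ((glEquiv g).conjAlgEquiv F).toAlgHom.comp mul'
  have hconj : ∀ (c : K) x, conj c x = (g : Matrix ι ι F) *ᵥ (c • (((g⁻¹ : GL ι F) : Matrix ι ι F) *ᵥ x)) :=
    fun c x => by
      show glEquiv g (c • (glEquiv g).symm x) = _
      rw [show (glEquiv g).symm x = glEquiv g⁻¹ x by rw [map_inv]; rfl]
      rfl
  have hcomm : ∀ (c : K), ∀ w ∈ C, ∀ x, conj c ((S.E u (w : ι → F) : Matrix ι ι F) *ᵥ x) =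
      (S.E u (w : ι → F) : Matrix ι ι F) *ᵥ conj c x := by
    intro c w hw x
    have h := hlin w hw c (((g⁻¹ : GL ι F) : Matrix ι ι F) *ᵥ x)
    simp only [gl_mul_mulVec, gl_mulVec_inv] at h
    rw [hconj, hconj, ← h, gl_mulVec_inv]
  choose a ha using fun c => P.layers hspan h1 h2 h3 h4 h0 hF (conj c) (hcomm c)
  have hau : ∀ c, conj c u = a c • u := fun c => by
    have := (ha c).2.2 1
    rw [one_smul, LinearMap.sub_apply, sub_eq_zero] at this
    exact this
  have hau' : ∀ c d, conj c (d • u) = (a c * d) • u := fun c d => by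
    have := (ha c).2.2 d
    rw [LinearMap.sub_apply, sub_eq_zero] at this
    rw [this, mul'_apply, smul_smul]
  let σ₀ : K →ₐ[F] K := AlgHom.ofLinearMap
    { toFun := a
      map_add' := fun c d => smul_left_injective K P.ne_zero (by
        show a (c + d) • u = (a c + a d) • u
        rw [← hau, add_smul, ← hau, ← hau, map_add, LinearMap.add_apply])
      map_smul' := fun t c => smul_left_injective K P.ne_zero (by
        show a (t • c) • u = (t • a c) • u
        rw [← hau, smul_assoc, ← hau, map_smul, LinearMap.smul_apply]) }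
    (smul_left_injective K P.ne_zero (by
      show a 1 • u = (1 : K) • u
      rw [← hau, map_one, one_smul]; rfl))
    (fun c d => smul_left_injective K P.ne_zero (by
      show a (c * d) • u = (a c * a d) • u
      rw [← hau, map_mul, Module.End.mul_apply, hau d, hau']))
  let σ : K ≃ₐ[F] K := AlgEquiv.ofBijective σ₀
    (Finite.injective_iff_bijective.1 σ₀.toRingHom.injective)
  let ι₁ : K →ₐ[F] Module.End F (ι → F) := conj.comp σ.symm.toAlgHom
  have hι₁ : ∀ c, S.Low u (ι₁ c - mul' c) := fun c => by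
    have := ha (σ.symm c)
    rwa [show a (σ.symm c) = c from σ.apply_symm_apply c] at this
  have hsa₁ : ∀ c x y, QuadraticMap.polar S.Q (ι₁ c x) y = QuadraticMap.polar S.Q x (ι₁ c y) := by
    intro c x y
    show QuadraticMap.polar S.Q (conj _ x) y = QuadraticMap.polar S.Q x (conj _ y)
    rw [hconj, hconj]
    conv_lhs => rw [← gl_mulVec_inv g y, B_map hiso]
    conv_rhs => rw [← gl_mulVec_inv g x, B_map hiso]
    rw [← S.trace, ← S.trace, map_smul, map_smul, LinearMap.smul_apply]
  have hsa₀ : ∀ (c : K) x y, QuadraticMap.polar S.Q (mul' c x) y = QuadraticMap.polar S.Q x (mul' c y) := by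
    intro c x y
    rw [mul'_apply, mul'_apply, ← S.trace, ← S.trace, map_smul, map_smul, LinearMap.smul_apply]
  -- dual bases
  let b := Module.finBasis F K
  let b' := LinearMap.BilinForm.dualBasis (Algebra.traceForm F K) (traceForm_nondegenerate F K) b
  have hrep' : ∀ v, v = ∑ i, Algebra.trace F K (v * b i) • b' i := fun v => by
    conv_lhs => rw [← b'.sum_repr v]
    simp only [b', LinearMap.BilinForm.dualBasis_repr_apply, Algebra.traceForm_apply]
  have hrep : ∀ v, v = ∑ i, Algebra.trace F K (b' i * v) • b i := fun v => by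
    conv_lhs => rw [← b.sum_repr v]
    refine Finset.sum_congr rfl fun i _ => congrArg (· • b i) ?_
    have e : ∀ j, Algebra.trace F K (b' i * b j) = if j = i then 1 else 0 := fun j => by
      rw [← Algebra.traceForm_apply]
      exact LinearMap.BilinForm.apply_dualBasis_left _ b i j
    conv_rhs => rw [← b.sum_repr v, Finset.mul_sum, map_sum]
    simp [mul_smul_comm, e]
  have hone : ∑ i, b' i * b i = 1 := trace_ext (F := F) fun c => by
    rw [mul_one, Algebra.trace_eq_matrix_trace b' c, Matrix.trace, Finset.mul_sum, map_sum]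
    refine Finset.sum_congr rfl fun i _ => ?_
    rw [Matrix.diag_apply, Algebra.leftMulMatrix_eq_repr_mul]
    rw [LinearMap.BilinForm.dualBasis_repr_apply, Algebra.traceForm_apply, mul_assoc]
  set n₀ : Module.End F (ι → F) := ∑ i, ι₁ (b' i) * mul' (b i) with hn₀
  set n₁ : Module.End F (ι → F) := ∑ i, mul' (b i) * ι₁ (b' i) with hn₁
  have hn₀c : ∀ c, n₀ * mul' c = ι₁ c * n₀ := by
    intro c
    calc n₀ * mul' c = ∑ i, ι₁ (b' i) * mul' (b i * c) := by
          rw [hn₀, Finset.sum_mul]
          simp only [map_mul, mul_assoc]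
      _ = ∑ i, ∑ j, ι₁ (Algebra.trace F K (b' j * (b i * c)) • b' i) * mul' (b j) := by
          refine Finset.sum_congr rfl fun i _ => ?_
          conv_lhs => rw [hrep (b i * c), map_sum, Finset.mul_sum]
          refine Finset.sum_congr rfl fun j _ => ?_
          rw [map_smul, map_smul, mul_smul_comm, smul_mul_assoc]
      _ = ∑ j, ι₁ (c * b' j) * mul' (b j) := by
          rw [Finset.sum_comm]
          refine Finset.sum_congr rfl fun j _ => ?_
          rw [← Finset.sum_mul, ← map_sum]
          congr 2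
          conv_rhs => rw [hrep' (c * b' j)]
          exact Finset.sum_congr rfl fun i _ => congrArg (fun z => Algebra.trace F K z • b' i) (by ring)
      _ = ι₁ c * n₀ := by rw [hn₀, Finset.mul_sum]; simp only [map_mul, mul_assoc]
  have hn₁c : ∀ c, n₁ * ι₁ c = mul' c * n₁ := by
    intro c
    calc n₁ * ι₁ c = ∑ i, mul' (b i) * ι₁ (b' i * c) := by
          rw [hn₁, Finset.sum_mul]
          simp only [map_mul, mul_assoc]
      _ = ∑ i, ∑ j, mul' (Algebra.trace F K (b' i * c * b j) • b i) * ι₁ (b' j) := by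
          refine Finset.sum_congr rfl fun i _ => ?_
          conv_lhs => rw [hrep' (b' i * c), map_sum, Finset.mul_sum]
          refine Finset.sum_congr rfl fun j _ => ?_
          rw [map_smul, map_smul, mul_smul_comm, smul_mul_assoc]
      _ = ∑ j, mul' (c * b j) * ι₁ (b' j) := by
          rw [Finset.sum_comm]
          refine Finset.sum_congr rfl fun j _ => ?_
          rw [← Finset.sum_mul, ← map_sum]
          congr 2
          conv_rhs => rw [hrep (c * b j)]
          exact Finset.sum_congr rfl fun i _ => congrArg (fun z => Algebra.trace F K z • b i) (by ring)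
      _ = mul' c * n₁ := by rw [hn₁, Finset.mul_sum]; simp only [map_mul, mul_assoc]
  have hlow₀ : S.Low u (n₀ - 1) := by
    have e : n₀ - 1 = ∑ i, (ι₁ (b' i) - mul' (b' i)) * mul' (b i) := by
      simp only [sub_mul, Finset.sum_sub_distrib, ← map_mul]
      rw [← map_sum (mul' (F := F) (ι := ι)) (fun i => b' i * b i), hone, map_one]
    rw [e]
    exact low_sum _ fun i _ => low_mul_scalar (hι₁ _) _
  have hlow₁ : S.Low u (n₁ - 1) := by
    have e : n₁ - 1 = ∑ i, mul' (b i) * (ι₁ (b' i) - mul' (b' i)) := by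
      simp only [mul_sub, Finset.sum_sub_distrib, ← map_mul]
      rw [← map_sum (mul' (F := F) (ι := ι)) (fun i => b i * b' i)]
      simp only [mul_comm (b _)]
      rw [hone, map_one]
    rw [e]
    exact low_sum _ fun i _ => scalar_mul_low (hι₁ _) _
  have hadj : ∀ x y, QuadraticMap.polar S.Q (n₀ x) y = QuadraticMap.polar S.Q x (n₁ y) := by
    intro x y
    simp only [← S.trace, hn₀, hn₁, LinearMap.sum_apply, map_sum]
    refine Finset.sum_congr rfl fun i _ => ?_
    rw [S.trace, S.trace, Module.End.mul_apply, Module.End.mul_apply, hsa₁, hsa₀]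
  -- symmetrise
  set s := n₁ * n₀ with hs
  have hsc : ∀ c, s * mul' c = mul' c * s := fun c => by
    rw [hs, mul_assoc, hn₀c, ← mul_assoc, hn₁c, mul_assoc]
  have hslow : S.Low u (s - 1) := by
    have e : s - 1 = (n₁ - 1) * (n₀ - 1) + ((n₁ - 1) + (n₀ - 1)) := by
      rw [hs]; simp only [mul_sub, sub_mul, mul_one, one_mul]; abel
    rw [e]
    exact low_add (low_mul hlow₁ hlow₀) (low_add hlow₁ hlow₀)
  haveI : Nonempty ι := ⟨Classical.choice (by
    by_contra hι
    rw [not_nonempty_iff] at hι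
    exact P.ne_zero (funext fun i => isEmptyElim i))⟩
  haveI : CharP (Module.End F (ι → F)) p :=
    charP_of_injective_algebraMap (algebraMap F _).injective p
  have hp3 : 3 ≤ p := by
    have h2 := (Fact.out : p.Prime).two_le
    rcases Nat.lt_or_ge p 3 with h | h
    · obtain rfl : p = 2 := by omega
      exact absurd (by simpa using CharP.cast_eq_zero F 2) S.two
    · exact h
  have hsp : s ^ p = 1 := by
    have h3 : (s - 1) ^ 3 = 0 := by
      rw [pow_succ, pow_two]; exact low_cube hslow hslow hslow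
    have h := sub_pow_char_of_commute (p := p) (Commute.one_right s)
    rw [one_pow, pow_eq_zero_of_le hp3 h3] at h
    exact sub_eq_zero.1 h.symm
  obtain ⟨m, hm⟩ := (Fact.out : p.Prime).odd_of_ne_two (by omega)
  set N := n₀ * s ^ m with hN
  have hssa : ∀ (k : ℕ) x y, QuadraticMap.polar S.Q ((s ^ k) x) y = QuadraticMap.polar S.Q x ((s ^ k) y) := by
    intro k
    induction k with
    | zero => simp
    | succ k ih =>
      intro x y
      conv_lhs => rw [pow_succ, Module.End.mul_apply, ih]
      conv_rhs => rw [pow_succ', Module.End.mul_apply]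
      rw [hs, Module.End.mul_apply, Module.End.mul_apply, B_comm, ← hadj, B_comm, hadj]
  have hNiso : ∀ x y, QuadraticMap.polar S.Q (N x) (N y) = QuadraticMap.polar S.Q x y := by
    intro x y
    rw [hN, Module.End.mul_apply, Module.End.mul_apply, hadj, hssa]
    simp only [← Module.End.mul_apply]
    rw [show s ^ m * (n₁ * (n₀ * s ^ m)) = 1 by
      rw [← mul_assoc n₁, ← hs, ← pow_succ', ← pow_add]
      convert hsp using 2
      omega, Module.End.one_apply]
  have hNinj : Function.Injective N := by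
    rw [injective_iff_map_eq_zero]
    intro x hx
    exact S.B_nondeg fun y => by rw [← hNiso, hx, form_zero_left (bil S.hQ)]
  let n : GL ι F := ofEquiv (LinearEquiv.ofInjectiveEndo N hNinj)
  have hn : ∀ x, (n : Matrix ι ι F) *ᵥ x = N x := fun x => ofEquiv_mulVec _ x
  have hnI : n ∈ Cfsg.isometryGroup F S.Q := mem_iso fun x => by
    refine mul_left_cancel₀ S.two ?_
    rw [← B_self S.hQ, ← B_self S.hQ, hn, hNiso]
  have hsig : ∀ (c : K) x, (g : Matrix ι ι F) *ᵥ (c • x) = ι₁ (σ c) ((g : Matrix ι ι F) *ᵥ x) := fun c x => by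
    show _ = conj (σ.symm (σ c)) _
    rw [σ.symm_apply_apply, hconj, gl_inv_mulVec]
  have hNc : ∀ (c : K) x, (n : Matrix ι ι F) *ᵥ (c • x) = ι₁ c ((n : Matrix ι ι F) *ᵥ x) := fun c x => by
    have h : N * mul' c = ι₁ c * N := by
      rw [hN, mul_assoc, (Commute.pow_left (hsc c : Commute s (mul' c)) m).eq, ← mul_assoc, hn₀c, mul_assoc]
    rw [hn, hn]
    exact LinearMap.congr_fun h x
  have ht : ∀ (c : K) x, ((n⁻¹ * g : GL ι F) : Matrix ι ι F) *ᵥ (c • x) =
      σ c • ((n⁻¹ * g : GL ι F) : Matrix ι ι F) *ᵥ x := fun c x => by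
    rw [gl_mul_mulVec, gl_mul_mulVec]
    refine gl_mulVec_injective n ?_
    show (n : Matrix ι ι F) *ᵥ _ = (n : Matrix ι ι F) *ᵥ _
    rw [gl_mulVec_inv, hsig, hNc, gl_mulVec_inv]
  refine ⟨n, hnI, fun hnsemi => hns ?_, ?_, fun l hl hll => ?_⟩
  · intro c
    obtain ⟨d, hd⟩ := hnsemi (σ c)
    refine ⟨d, fun x => ?_⟩
    have key : ∀ y, (g : Matrix ι ι F) *ᵥ y =
        (n : Matrix ι ι F) *ᵥ (((n⁻¹ * g : GL ι F) : Matrix ι ι F) *ᵥ y) := fun y => by
      rw [gl_mul_mulVec, gl_mulVec_inv]
    rw [key, key, ht, hd]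
  · have e : (n : Matrix ι ι F).mulVecLin - 1 =
        (n₀ - 1) * (s ^ m - 1) + ((n₀ - 1) + (s ^ m - 1)) := by
      rw [show (n : Matrix ι ι F).mulVecLin = N from LinearMap.ext hn, hN]
      simp only [mul_sub, sub_mul, mul_one, one_mul]; abel
    rw [e]
    exact low_add (low_mul hlow₀ (low_pow hslow m)) (low_add hlow₀ (low_pow hslow m))
  · set t := n⁻¹ * g
    have htI : t ∈ Cfsg.isometryGroup F S.Q := mul_mem (inv_mem hnI) (mem_iso hiso)
    have hl' : t⁻¹ * l * t⁻¹⁻¹ ∈ Cfsg.Geo.omegaGL S.Q := conj_mem_omega (inv_mem htI) hl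
    have hll' : Lin K (t⁻¹ * l * t⁻¹⁻¹) := by
      intro c x
      simp only [inv_inv, gl_mul_mulVec]
      rw [ht, hll]
      refine gl_mulVec_injective t ?_
      show (t : Matrix ι ι F) *ᵥ _ = (t : Matrix ι ι F) *ᵥ _
      rw [gl_mulVec_inv, ht, gl_mulVec_inv]
    have := M.mul_mem (M.mul_mem hg (hM.lin _ hl' hll')) (M.inv_mem hg)
    convert this using 1
    simp only [t]
    group

end Setting

end Cfsg.Agent.Lib.OrthExtOdd
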