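import Mathlib.Algebra.Group.ForwardDiff
import Mathlib.LinearAlgebra.Multilinear.Curry
import Mathlib.Algebra.BigOperators.Fin
import Mathlib.Algebra.CharP.Lemmas
import Mathlib.GroupTheory.Coset.Card
import Mathlib.Data.ZMod.QuotientGroup
import Mathlib.Data.Nat.Choose.Dvd

/-!
Functions of bounded degree on abelian groups of exponent `p`, with values in characteristic `p`: products add
degrees, and the sum over a group of order at least `p ^ k` vanishes below degree `k (p - 1)`.
Owner: helper93.
-/

set_option autoImplicit false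

namespace Cfsg.Agent.Lib.OrthExtOdd.DegSum

variable {C D A A' : Type*} [AddCommGroup C] [AddCommGroup D] [AddCommGroup A] [AddCommGroup A']

/-- All `n + 1`-fold differences of `f` vanish. -/
def Deg : ℕ → (C → A) → Prop
  | 0, f => ∀ x y, f x = f y
  | n + 1, f => ∀ a, Deg n fun x => f (x + a) - f x

theorem deg_const (n : ℕ) (c : A) : Deg (C := C) n fun _ => c := by
  induction n generalizing c with
  | zero => exact fun _ _ => rfl
  | succ n ih =>
    intro a
    exact ih (c - c)

theorem deg_succ {n : ℕ} {f : C → A} (h : Deg n f) : Deg (n + 1) f := by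
  induction n generalizing f with
  | zero =>
    intro a x y
    show f (x + a) - f x = f (y + a) - f y
    rw [h (x + a) (y + a), h x y]
  | succ n ih => exact fun a => ih (h a)

theorem deg_mono {m n : ℕ} (hmn : m ≤ n) {f : C → A} (h : Deg m f) : Deg n f := by
  induction hmn with
  | refl => exact h
  | step _ ih => exact deg_succ ih

theorem deg_shift {n : ℕ} {f : C → A} (h : Deg n f) (a : C) : Deg n fun x => f (x + a) := by
  induction n generalizing f with
  | zero => exact fun x y => h _ _
  | succ n ih =>
    intro b
    have := ih (h b)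
    simpa only [add_right_comm _ b a] using this

theorem deg_add {n : ℕ} {f g : C → A} (hf : Deg n f) (hg : Deg n g) :
    Deg n fun x => f x + g x := by
  induction n generalizing f g with
  | zero => intro x y; simp [hf x y, hg x y]
  | succ n ih =>
    intro a
    have := ih (hf a) (hg a)
    simpa only [add_sub_add_comm] using this

/-- An affine map has degree one. -/
theorem deg_affine (φ : C →+ A) (c : A) : Deg 1 fun x => φ x + c := by
  intro a x y
  simp [map_add]

theorem deg_comp {n : ℕ} {f : C → A} (ψ : A →+ A') (hf : Deg n f) : Deg n fun x => ψ (f x) := by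
  induction n generalizing f with
  | zero => intro x y; simp [hf x y]
  | succ n ih =>
    intro a
    have := ih (hf a)
    simpa only [map_sub] using this

theorem deg_pull {n : ℕ} {f : C → A} (φ : D →+ C) (hf : Deg n f) : Deg n fun x => f (φ x) := by
  induction n generalizing f with
  | zero => exact fun x y => hf _ _
  | succ n ih =>
    intro a
    have := ih (hf (φ a))
    simpa only [map_add] using this

theorem deg_of_surjective {n : ℕ} {f : C → A} (φ : D →+ C) (hφ : Function.Surjective φ)
    (hf : Deg n fun x => f (φ x)) : Deg n f := by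
  induction n generalizing f with
  | zero =>
    intro x y
    obtain ⟨x, rfl⟩ := hφ x
    obtain ⟨y, rfl⟩ := hφ y
    exact hf x y
  | succ n ih =>
    intro a
    obtain ⟨a, rfl⟩ := hφ a
    refine ih ?_
    have := hf a
    simpa only [map_add] using this

theorem deg_bilin {B : Type*} [AddCommGroup B] (Φ : A →+ B →+ A') {i j : ℕ} {f : C → A} {g : C → B}
    (hf : Deg i f) (hg : Deg j g) : Deg (i + j) fun x => Φ (f x) (g x) := by
  suffices ∀ t i j (f : C → A) (g : C → B), i + j = t → Deg i f → Deg j g →
      Deg t fun x => Φ (f x) (g x) from this _ i j f g rfl hf hg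
  intro t
  induction t with
  | zero =>
    intro i j f g h hf hg
    obtain ⟨rfl, rfl⟩ := Nat.add_eq_zero_iff.1 h
    intro x y
    simp [hf x y, hg x y]
  | succ t ih =>
    intro i j f g h hf hg a
    have key : (fun x => Φ (f (x + a)) (g (x + a)) - Φ (f x) (g x)) =
        fun x => Φ (f (x + a) - f x) (g (x + a)) + Φ (f x) (g (x + a) - g x) := by
      funext x
      simp only [map_sub, AddMonoidHom.sub_apply]
      abel
    show Deg t fun x => Φ (f (x + a)) (g (x + a)) - Φ (f x) (g x)
    rw [key]
    have h0 : Deg t fun _ : C => (0 : A') := deg_const t 0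
    refine deg_add ?_ ?_
    · rcases Nat.eq_zero_or_pos i with rfl | hi
      · have e : (fun x => Φ (f (x + a) - f x) (g (x + a))) = fun _ => 0 := by
          funext x; rw [hf (x + a) x, sub_self, map_zero, AddMonoidHom.zero_apply]
        rwa [e]
      · obtain ⟨i, rfl⟩ := Nat.exists_eq_succ_of_ne_zero hi.ne'
        exact ih i j _ _ (by omega) (hf a) (deg_shift hg a)
    · rcases Nat.eq_zero_or_pos j with rfl | hj
      · have e : (fun x => Φ (f x) (g (x + a) - g x)) = fun _ => 0 := by
          funext x; rw [hg (x + a) x, sub_self, map_zero]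
        rwa [e]
      · obtain ⟨j, rfl⟩ := Nat.exists_eq_succ_of_ne_zero hj.ne'
        exact ih i j _ _ (by omega) hf (hg a)

theorem deg_multilinear_aux {R : Type*} [CommRing R] {V : Type*} [AddCommGroup V] [Module R V] {M : Type*}
    [AddCommGroup M] [Module R M] : ∀ {s d : ℕ} (f : C → MultilinearMap R (fun _ : Fin s => V) M)
    (x : C → Fin s → V) (δ : Fin s → ℕ), Deg d f → (∀ i, Deg (δ i) fun c => x c i) →
    Deg (d + ∑ i, δ i) fun c => f c (x c) := by
  intro s
  induction s with
  | zero =>
    intro d f x δ hf _
    rw [Fin.sum_univ_zero, Nat.add_zero]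
    have h := deg_comp (AddMonoidHom.mk' (fun g : MultilinearMap R (fun _ : Fin 0 => V) M => g fun i => i.elim0)
      fun _ _ => rfl) hf
    have e : (fun c => f c (x c)) = fun c => f c fun i => i.elim0 := by
      funext c; exact congrArg (f c) (funext fun i => i.elim0)
    rw [e]
    exact h
  | succ s ih =>
    intro d f x δ hf hx
    rw [Fin.sum_univ_succ, ← Nat.add_assoc]
    let Φ : MultilinearMap R (fun _ : Fin (s + 1) => V) M →+ V →+ MultilinearMap R (fun _ : Fin s => V) M :=
      AddMonoidHom.mk' (fun g => g.curryLeft.toAddMonoidHom) fun g g' => by ext; simp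
    have h := ih (fun c => Φ (f c) (x c 0)) (fun c i => x c i.succ) _ (deg_bilin Φ hf (hx 0))
      fun i => hx i.succ
    have e : (fun c => f c (x c)) = fun c => Φ (f c) (x c 0) fun i => x c i.succ := by
      funext c
      exact congrArg (f c) (Fin.cons_self_tail (x c)).symm
    rw [e]
    exact h

/-- A multilinear expression in functions of bounded degree. -/
theorem deg_multilinear {R : Type*} [CommRing R] {V : Type*} [AddCommGroup V] [Module R V] {M : Type*}
    [AddCommGroup M] [Module R M] {s : ℕ} (f : MultilinearMap R (fun _ : Fin s => V) M) (x : C → Fin s → V)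
    (δ : Fin s → ℕ) (hx : ∀ i, Deg (δ i) fun c => x c i) : Deg (∑ i, δ i) fun c => f (x c) := by
  simpa using deg_multilinear_aux (d := 0) (fun _ => f) x δ (deg_const 0 f) hx

theorem iterate_eq_zero {n m : ℕ} (hnm : n < m) {f : C → A} (hf : Deg n f) (a : C) :
    (fwdDiff a)^[m] f = 0 := by
  induction n generalizing f m with
  | zero =>
    obtain ⟨m, rfl⟩ := Nat.exists_eq_succ_of_ne_zero (by omega : m ≠ 0)
    have e : fwdDiff a f = 0 := funext fun x => sub_eq_zero.2 (hf _ _)
    rw [Function.iterate_succ_apply, e]
    clear hnm e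
    induction m with
    | zero => rfl
    | succ m ih =>
      rw [Function.iterate_succ_apply', ih]
      exact funext fun x => sub_self _
  | succ n ih =>
    obtain ⟨m, rfl⟩ := Nat.exists_eq_succ_of_ne_zero (by omega : m ≠ 0)
    rw [Function.iterate_succ_apply]
    exact ih (by omega) (hf a)

theorem deg_iterate {n : ℕ} : ∀ {m : ℕ}, m ≤ n → ∀ {f : C → A}, Deg n f → ∀ a : C,
    Deg (n - m) ((fwdDiff a)^[m] f) := by
  intro m
  induction m generalizing n with
  | zero => intro _ f hf a; simpa using hf
  | succ m ih =>
    intro h f hf a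
    obtain ⟨n, rfl⟩ := Nat.exists_eq_succ_of_ne_zero (by omega : n ≠ 0)
    rw [Function.iterate_succ_apply, Nat.succ_sub_succ]
    exact ih (by omega) (hf a) a

variable {R : Type*} [CommRing R] {p : ℕ} [hp : Fact p.Prime] [CharP R p]

theorem choose_pred_eq : ∀ {k : ℕ}, k < p → ((p - 1).choose k : R) = (-1) ^ k := by
  intro k
  induction k with
  | zero => simp
  | succ k ih =>
    intro hk
    have h1 : (p.choose (k + 1) : R) = 0 := by
      rw [CharP.cast_eq_zero_iff R p]
      exact Nat.Prime.dvd_choose_self hp.out (by omega) hk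
    have h2 := hp.out.one_lt
    obtain ⟨p', hp'⟩ : ∃ p', p = p' + 1 := ⟨p - 1, by omega⟩
    rw [hp', Nat.choose_succ_succ', Nat.cast_add] at h1
    rw [hp', Nat.add_sub_cancel] at ih ⊢
    rw [pow_succ, mul_neg_one, ← ih (by omega)]
    exact eq_neg_of_add_eq_zero_right h1

/-- The sum along a line is the top difference. -/
theorem iterate_pred_eq (f : C → R) (a x : C) :
    (fwdDiff a)^[p - 1] f x = ∑ j ∈ Finset.range p, f (x + j • a) := by
  have h2 := hp.out.one_lt
  rw [fwdDiff_iter_eq_sum_shift, Nat.sub_add_cancel h2.le]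
  refine Finset.sum_congr rfl fun k hk => ?_
  rw [Finset.mem_range] at hk
  rw [zsmul_eq_mul, Int.cast_mul, Int.cast_pow, Int.cast_neg, Int.cast_one, Int.cast_natCast,
    choose_pred_eq hk, ← pow_add, Nat.sub_add_cancel (by omega)]
  have : ((-1 : R) ^ (p - 1)) = 1 := by
    rw [← choose_pred_eq (R := R) (p := p) (k := p - 1) (by omega), Nat.choose_self, Nat.cast_one]
  rw [this, one_mul]

/-- A function of small degree sums to zero. -/
theorem sum_eq_zero {k n : ℕ} (hn : n < k * (p - 1)) [Fintype C] (hC : ∀ c : C, p • c = 0)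
    (hcard : p ^ k ≤ Fintype.card C) {f : C → R} (hf : Deg n f) : ∑ c, f c = 0 := by
  classical
  induction k generalizing C n with
  | zero => simp at hn
  | succ k ih =>
    have h2 := hp.out.one_lt
    have h1 : p ≤ p ^ (k + 1) := Nat.le_self_pow (by omega) p
    obtain ⟨a, ha⟩ := Fintype.exists_ne_of_one_lt_card (by omega : 1 < Fintype.card C) 0
    have horder : addOrderOf a = p := addOrderOf_eq_prime (hC a) ha
    set Z := AddSubgroup.zmultiples a
    let _ : Fintype (C ⧸ Z) := Fintype.ofFinite _
    set F : C → R := (fwdDiff a)^[p - 1] f with hF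
    have hFsum : ∀ x, F x = ∑ j ∈ Finset.range p, f (x + j • a) := fun x => iterate_pred_eq f a x
    have hfib : ∀ b : C ⧸ Z, ∑ c ∈ Finset.univ.filter (fun c : C => (c : C ⧸ Z) = b), f c =
        F b.out := by
      intro b
      rw [hFsum]
      refine (Finset.sum_bij (fun j _ => b.out + j • a) (fun j _ => ?_) (fun i hi j hj e => ?_)
        (fun c hc => ?_) fun j _ => rfl).symm
      · rw [Finset.mem_filter]
        refine ⟨Finset.mem_univ _, ?_⟩
        conv_rhs => rw [← QuotientAddGroup.out_eq' b]
        rw [QuotientAddGroup.eq, neg_add_rev, neg_add_cancel_right]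
        exact neg_mem (AddSubgroup.nsmul_mem_zmultiples a j)
      · rw [Finset.mem_range] at hi hj
        exact nsmul_injOn_Iio_addOrderOf (by simpa [horder] using hi) (by simpa [horder] using hj)
          (add_left_cancel e)
      · rw [Finset.mem_filter] at hc
        have h : (b.out : C ⧸ Z) = (c : C ⧸ Z) := (QuotientAddGroup.out_eq' b).trans hc.2.symm
        rw [QuotientAddGroup.eq] at h
        obtain ⟨z, hz⟩ := AddSubgroup.mem_zmultiples_iff.1 h
        refine ⟨(z % p).toNat, Finset.mem_range.2 ?_, ?_⟩
        · have := Int.emod_lt_of_pos z (by exact_mod_cast hp.out.pos : (0 : ℤ) < p)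
          have := Int.emod_nonneg z (by exact_mod_cast hp.out.ne_zero : (p : ℤ) ≠ 0)
          omega
        · rw [← natCast_zsmul, Int.toNat_of_nonneg (Int.emod_nonneg z (by exact_mod_cast hp.out.ne_zero)),
            ← horder, mod_addOrderOf_zsmul, hz, add_neg_cancel_left]
    rw [← Finset.sum_fiberwise Finset.univ (fun c : C => (c : C ⧸ Z)) f]
    simp only [hfib]
    rcases Nat.lt_or_ge n (p - 1) with hlt | hge
    · simp [hF, iterate_eq_zero hlt hf a]
    · refine ih (C := C ⧸ Z) (n := n - (p - 1)) (f := fun b : C ⧸ Z => F b.out) ?_ ?_ ?_ ?_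
      · rw [Nat.succ_mul] at hn
        omega
      · intro c
        induction c using QuotientAddGroup.induction_on with
        | H z => rw [← QuotientAddGroup.mk_nsmul, hC z, QuotientAddGroup.mk_zero]
      · have h := AddSubgroup.card_eq_card_quotient_mul_card_addSubgroup Z
        rw [Nat.card_zmultiples, horder, Nat.card_eq_fintype_card, Nat.card_eq_fintype_card] at h
        rw [h, pow_succ] at hcard
        exact Nat.le_of_mul_le_mul_right hcard hp.out.pos
      · refine deg_of_surjective (QuotientAddGroup.mk' Z) (QuotientAddGroup.mk'_surjective Z) ?_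
        convert deg_iterate hge hf a using 2 with x
        show F (QuotientAddGroup.mk' Z x : C ⧸ Z).out = _
        obtain ⟨⟨z, hz⟩, he⟩ := QuotientAddGroup.mk_out_eq_add Z x
        rw [QuotientAddGroup.mk'_apply, he, hFsum]
        rw [AddSubgroup.mem_zmultiples_iff] at hz
        obtain ⟨i, rfl⟩ := hz
        show _ = F x
        rw [hFsum]
        refine Finset.sum_bij' (fun j _ => ((j + i) % p : ℤ).toNat) (fun j _ => ((j - i) % p : ℤ).toNat)
          ?_ ?_ ?_ ?_ ?_
        all_goals intro j hj
        all_goals rw [Finset.mem_range] at hj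
        all_goals have hp0 : (p : ℤ) ≠ 0 := by exact_mod_cast hp.out.ne_zero
        · rw [Finset.mem_range, Int.toNat_lt (Int.emod_nonneg _ hp0)]
          exact Int.emod_lt_of_pos _ (by exact_mod_cast hp.out.pos)
        · rw [Finset.mem_range, Int.toNat_lt (Int.emod_nonneg _ hp0)]
          exact Int.emod_lt_of_pos _ (by exact_mod_cast hp.out.pos)
        · rw [Int.toNat_of_nonneg (Int.emod_nonneg _ hp0), Int.emod_sub_emod, add_sub_cancel_right,
            Int.emod_eq_of_lt (by omega) (by omega), Int.toNat_natCast]
        · rw [Int.toNat_of_nonneg (Int.emod_nonneg _ hp0), Int.emod_add_emod, sub_add_cancel,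
            Int.emod_eq_of_lt (by omega) (by omega), Int.toNat_natCast]
        · congr 1
          rw [← natCast_zsmul, ← natCast_zsmul, Int.toNat_of_nonneg (Int.emod_nonneg _ hp0), add_assoc,
            ← horder, mod_addOrderOf_zsmul, ← add_zsmul]
          congr 2
          ring

end Cfsg.Agent.Lib.OrthExtOdd.DegSum
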