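import Cfsg.Agent.Lib.OrthExtOdd.Elements
import Cfsg.Agent.Lib.OrthExtOdd.DegSum
import Mathlib.GroupTheory.GroupAction.Quotient

/-!
A multilinear form which the semilinear elements of an overgroup `M` fix but `M` does not yields an element `g` of
`M`, not semilinear, conjugating a subgroup of small index of a unipotent group of the frame to semilinear maps:
otherwise the sum of the translates of the form over the cosets would be the form itself.
Owner: helper93.
-/

set_option autoImplicit false
set_option linter.unusedSectionVars false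
set_option linter.style.haveILetI false

namespace Cfsg.Agent.Lib.OrthExtOdd

open Matrix Module Cfsg.Agent.Lib.Subspaces.Transvection Cfsg.Agent.Lib.Subspaces.FormVec
  Cfsg.Agent.Lib.Subspaces.OrthForm Cfsg.Agent.Lib.Subspaces.OmegaGL Cfsg.Agent.Lib.K41.ExtForm DegSum

variable {ι : Type} [Fintype ι] [DecidableEq ι] {F K : Type*} [Field F] [Field K] [Algebra F K]
  [Module K (ι → F)] [IsScalarTower F K (ι → F)] [Finite F] [Finite K]

theorem semi_mul {a b : GL ι F} (ha : Semi K a) (hb : Semi K b) : Semi K (a * b) := by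
  intro c
  obtain ⟨d, hd⟩ := hb c
  obtain ⟨e, he⟩ := ha d
  exact ⟨e, fun x => by rw [gl_mul_mulVec, gl_mul_mulVec, hd, he]⟩

/-- The semilinear maps. -/
def semiGroup (K : Type*) [Field K] [Module K (ι → F)] : Subgroup (GL ι F) :=
  let N : Submonoid (GL ι F) :=
    { carrier := {g | Semi K g}
      one_mem' := fun c => ⟨c, fun x => by simp⟩
      mul_mem' := fun {a b} ha hb => by
        intro c
        obtain ⟨d, hd⟩ := hb c
        obtain ⟨e, he⟩ := ha d
        exact ⟨e, fun x => by rw [gl_mul_mulVec, gl_mul_mulVec, hd, he]⟩ }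
  { N with
    inv_mem' := fun {g} hg => by
      have h : g⁻¹ = g ^ (orderOf g - 1) := by
        refine inv_eq_of_mul_eq_one_right ?_
        rw [← pow_succ', Nat.sub_add_cancel (orderOf_pos g), pow_orderOf_eq_one]
      show g⁻¹ ∈ N
      rw [h]
      exact pow_mem hg _ }

theorem mem_semiGroup {g : GL ι F} : g ∈ semiGroup K ↔ Semi K g := Iff.rfl

/-- Invariance of a form under a matrix. -/
def Fixes {s : ℕ} (f : MultilinearMap F (fun _ : Fin s => ι → F) F) (g : GL ι F) : Prop :=
  ∀ x : Fin s → ι → F, f (fun i => (g : Matrix ι ι F) *ᵥ x i) = f x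

namespace Setting

variable {S : Setting F K ι} {u u' : ι → F} {M : Subgroup (GL ι F)}

/-- The weight of a component. -/
def comp (S : Setting F K ι) (u u' : ι → F) : Fin 3 → (ι → F) → (ι → F) :=
  fun j x => ![S.h x u' • u, S.proj u u' x, S.h x u • u'] j

theorem Frame.exists_bad (P : S.Frame u u') (hM : S.Over M) {p : ℕ} [Fact p.Prime] [CharP F p] {s : ℕ}
    (f : MultilinearMap F (fun _ : Fin s => ι → F) F) (hf : ∀ g ∈ M, Semi K g → Fixes f g)
    (hnot : ∃ g ∈ M, ¬ Fixes f g) :
    ∃ g ∈ M, ¬ Semi K g ∧ ∃ C : AddSubgroup (S.mid u u'),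
      (∀ k, p ^ k ≤ Nat.card (S.mid u u' ⧸ C) → k * (p - 1) ≤ s) ∧
      ∀ w ∈ C, Semi K (g⁻¹ * S.E u (w : ι → F) * g) := by
  classical
  by_contra hcon
  push Not at hcon
  let N : Subgroup M := (semiGroup K).subgroupOf M
  haveI : Finite (GL ι F) := inferInstance
  letI : Fintype (M ⧸ N) := Fintype.ofFinite _
  haveI : Finite (S.mid u u') := Finite.of_injective _ Subtype.val_injective
  -- the action of the middle space
  let φ : S.mid u u' → M := fun w => ⟨S.E u (w : ι → F), hM.lin _ (P.E_mem w.2) (E_lin _ _)⟩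
  have hφ : ∀ v w : S.mid u u', φ v * φ w = φ (v + w) := fun v w => Subtype.ext (E_add P.uu v.2.1 w.2.1)
  have hφ0 : φ 0 = 1 := Subtype.ext (E_zero P.uu)
  letI : AddAction (S.mid u u') (M ⧸ N) :=
    { vadd := fun w q => φ w • q
      zero_vadd := fun q => by show φ 0 • q = q; rw [hφ0, one_smul]
      add_vadd := fun v w q => by show φ (v + w) • q = φ v • φ w • q; rw [← hφ, mul_smul] }
  -- translates
  let tr : M → MultilinearMap F (fun _ : Fin s => ι → F) F := fun g =>
    f.compLinearMap fun _ => Matrix.mulVecLin (((g : GL ι F)⁻¹ : GL ι F) : Matrix ι ι F)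
  have htr : ∀ (g : M) x, tr g x = f fun i => (((g : GL ι F)⁻¹ : GL ι F) : Matrix ι ι F) *ᵥ x i := fun g x => rfl
  have hwell : ∀ g g' : M, (g : M ⧸ N) = (g' : M ⧸ N) → tr g = tr g' := by
    intro g g' e
    rw [QuotientGroup.eq] at e
    refine MultilinearMap.ext fun x => ?_
    rw [htr, htr, ← hf _ (g⁻¹ * g').2 e fun i => (((g' : GL ι F)⁻¹ : GL ι F) : Matrix ι ι F) *ᵥ x i]
    congr 1
    funext i
    rw [← gl_mul_mulVec]
    congr 2
    simp [mul_assoc]
  set T : MultilinearMap F (fun _ : Fin s => ι → F) F := ∑ q : M ⧸ N, tr q.out with hT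
  have hTinv : ∀ g ∈ M, Fixes T g := by
    intro g hg x
    simp only [hT, MultilinearMap.sum_apply]
    refine (Fintype.sum_equiv (MulAction.toPerm (⟨g, hg⟩ : M)⁻¹) _ _ fun q => ?_)
    rw [MulAction.toPerm_apply]
    conv_lhs => rw [htr]
    rw [hwell ((⟨g, hg⟩ : M)⁻¹ • q).out ((⟨g, hg⟩ : M)⁻¹ * q.out) (by
      rw [QuotientGroup.out_eq']
      conv_lhs => rw [← QuotientGroup.out_eq' q]
      rfl), htr]
    congr 1
    funext i
    rw [← gl_mul_mulVec]
    congr 2
  -- the difference dies on components of small degree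
  set D := T - f with hD
  have hlow : ∀ (x : Fin s → ι → F) (j : Fin s → Fin 3), (∑ i, (j i : ℕ)) ≤ s →
      D (fun i => comp S u u' (j i) (x i)) = 0 := by
    intro x j hj
    set y : Fin s → ι → F := fun i => comp S u u' (j i) (x i) with hy
    let Ω := Quotient (AddAction.orbitRel (S.mid u u') (M ⧸ N))
    letI : Fintype Ω := Fintype.ofFinite _
    letI : ∀ q : M ⧸ N, Fintype (S.mid u u' ⧸ AddAction.stabilizer (S.mid u u') q) := fun _ => Fintype.ofFinite _
    have hsum : T y = ∑ ω : Ω, ∑ b : S.mid u u' ⧸ AddAction.stabilizer (S.mid u u') ω.out,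
        tr ((AddAction.selfEquivSigmaOrbitsQuotientStabilizer (S.mid u u') (M ⧸ N)).symm ⟨ω, b⟩).out y := by
      rw [hT, MultilinearMap.sum_apply, ← Equiv.sum_comp (AddAction.selfEquivSigmaOrbitsQuotientStabilizer
        (S.mid u u') (M ⧸ N)).symm, Fintype.sum_sigma]
    have hrep : ∀ (ω : Ω) (w : S.mid u u'),
        (AddAction.selfEquivSigmaOrbitsQuotientStabilizer (S.mid u u') (M ⧸ N)).symm
          ⟨ω, (w : S.mid u u' ⧸ AddAction.stabilizer (S.mid u u') ω.out)⟩ = w +ᵥ ω.out := fun ω w => by
      simp [AddAction.selfEquivSigmaOrbitsQuotientStabilizer, AddAction.selfEquivSigmaOrbitsQuotientStabilizer',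
        AddAction.selfEquivSigmaOrbits', AddAction.orbitEquivQuotientStabilizer]
      rfl
    set q₁ : M ⧸ N := ((1 : M) : M ⧸ N)
    have hq₁ : ∀ w : S.mid u u', w +ᵥ q₁ = q₁ := fun w => by
      show φ w • ((1 : M) : M ⧸ N) = ((1 : M) : M ⧸ N)
      rw [MulAction.Quotient.smul_mk, smul_eq_mul, mul_one, QuotientGroup.eq, mul_one]
      exact inv_mem (E_lin _ _).semi
    set ω₁ : Ω := Quotient.mk _ q₁
    have hω₁ : ω₁.out = q₁ := by
      obtain ⟨w, hw⟩ : ω₁.out ∈ AddAction.orbit (S.mid u u') q₁ :=
        AddAction.orbitRel_apply.1 (Quotient.exact (Quotient.out_eq ω₁))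
      exact hw.symm.trans (hq₁ w)
    have hone : ∀ x, tr q₁.out x = f x := fun x => by
      rw [hwell q₁.out 1 (QuotientGroup.out_eq' _), htr]
      simp
    rw [hD, MultilinearMap.sub_apply, sub_eq_zero, hsum, Finset.sum_eq_single_of_mem ω₁ (Finset.mem_univ _)]
    · haveI : Subsingleton (S.mid u u' ⧸ AddAction.stabilizer (S.mid u u') ω₁.out) := by
        rw [hω₁]
        refine QuotientAddGroup.subsingleton_iff.2 ?_
        exact eq_top_iff.2 fun w _ => hq₁ w
      rw [Fintype.sum_subsingleton _ (((0 : S.mid u u') : S.mid u u' ⧸ AddAction.stabilizer (S.mid u u') ω₁.out)),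
        hrep, hω₁, hq₁, hone]
    intro ω _ hω
    set g : M := ω.out.out
    have hgns : ¬ Semi K (g : GL ι F) := fun hg => hω <| by
      have e : ω.out = q₁ := by
        rw [← QuotientGroup.out_eq' ω.out, QuotientGroup.eq, mul_one]
        exact inv_mem hg
      rw [← Quotient.out_eq ω, e]
    set C := AddAction.stabilizer (S.mid u u') ω.out
    obtain ⟨k, hk, hks⟩ : ∃ k, p ^ k ≤ Nat.card (S.mid u u' ⧸ C) ∧ s < k * (p - 1) := by
      by_contra hno
      push Not at hno
      obtain ⟨w, hw, hbad⟩ := hcon _ g.2 hgns C hno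
      have e : φ w • (g : M ⧸ N) = (g : M ⧸ N) := by
        rw [show (g : M ⧸ N) = ω.out from QuotientGroup.out_eq' _]; exact hw
      rw [MulAction.Quotient.smul_mk, smul_eq_mul, QuotientGroup.eq] at e
      refine hbad ?_
      have e' := inv_mem e
      rw [Subgroup.mem_subgroupOf] at e'
      simpa [mul_assoc, mem_semiGroup] using e'
    letI : Fintype (S.mid u u' ⧸ C) := Fintype.ofFinite _
    rw [Nat.card_eq_fintype_card] at hk
    refine sum_eq_zero (lt_of_le_of_lt hj hks) (fun c => ?_) hk (deg_of_surjective (QuotientAddGroup.mk' C)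
      (QuotientAddGroup.mk'_surjective C) ?_)
    · induction c using QuotientAddGroup.induction_on with
      | H z =>
        rw [← QuotientAddGroup.mk_nsmul]
        have hz : p • z = 0 := by
          refine Subtype.ext ?_
          rw [Submodule.coe_smul_of_tower, ZeroMemClass.coe_zero, ← Nat.cast_smul_eq_nsmul F,
            CharP.cast_eq_zero, zero_smul]
        rw [hz, QuotientAddGroup.mk_zero]
    have hval : ∀ w : S.mid u u',
        tr ((AddAction.selfEquivSigmaOrbitsQuotientStabilizer (S.mid u u') (M ⧸ N)).symm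
          ⟨ω, QuotientAddGroup.mk' C w⟩).out y =
        tr g fun i => (S.E u (-(w : ι → F)) : Matrix ι ι F) *ᵥ y i := by
      intro w
      rw [QuotientAddGroup.mk'_apply, hrep, hwell (w +ᵥ ω.out).out (φ w * g) (by
        rw [QuotientGroup.out_eq']
        show φ w • ω.out = _
        conv_lhs => rw [← QuotientGroup.out_eq' ω.out]
        rfl), htr, htr]
      congr 1
      funext i
      rw [← E_neg P.uu w.2.1, ← gl_mul_mulVec]
      congr 2
    simp only [hval]
    refine deg_mono le_rfl (deg_multilinear (tr g) _ (fun i => (j i : ℕ)) fun i => ?_)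
    let neg : S.mid u u' →+ (ι → F) := AddMonoidHom.mk' (fun w => -(w : ι → F)) fun a b => by simp [add_comm]
    have hE : ∀ (w : S.mid u u') x, (S.E u (-(w : ι → F)) : Matrix ι ι F) *ᵥ x =
        x + S.h x u • (-(w : ι → F)) - (S.h x (-(w : ι → F)) +
          S.h (-(w : ι → F)) (-(w : ι → F)) / 2 * S.h x u) • u :=
      fun w x => E_mulVec P.uu (by simp [w.2.1]) x
    have hp' := P.proj_mem (x i)
    rcases (show j i = 0 ∨ j i = 1 ∨ j i = 2 by omega) with e | e | e
    · have e' : (fun w : S.mid u u' => (S.E u (-(w : ι → F)) : Matrix ι ι F) *ᵥ y i) = fun _ => y i := by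
        funext w
        rw [hE]
        simp [hy, e, comp, P.uu, (S.symm u (w : ι → F)).trans w.2.1]
      rw [e']
      exact deg_const _ _
    · rw [e]
      have e' : (fun w : S.mid u u' => (S.E u (-(w : ι → F)) : Matrix ι ι F) *ᵥ y i) =
          fun w => ((smulAddHom K (ι → F)).flip u).comp
            ((S.h (S.proj u u' (x i))).toAddMonoidHom.comp (S.mid u u').subtype.toAddMonoidHom) w +
            S.proj u u' (x i) := by
        funext w
        rw [hE]
        simp [hy, e, comp, hp'.1]
        abel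
      rw [e']
      exact deg_affine _ _
    · rw [e]
      set a := S.h (x i) u with ha
      let Φ : (ι → F) →+ (ι → F) →+ (ι → F) := AddMonoidHom.mk' (fun v =>
        AddMonoidHom.mk' (fun z => (-(a / 2) * S.h v z) • u) fun z z' => by rw [map_add, mul_add, add_smul])
        fun v v' => AddMonoidHom.ext fun z => by simp [mul_add, add_smul]
      have e' : (fun w : S.mid u u' => (S.E u (-(w : ι → F)) : Matrix ι ι F) *ᵥ y i) =
          fun w => (AddMonoidHom.mk' (fun z : ι → F => a • z) (smul_add a)).comp neg w + a • u' +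
            Φ (neg w + 0) (neg w + 0) := by
        funext w
        rw [hE]
        simp only [hy, e, comp, Matrix.cons_val, map_smul, LinearMap.smul_apply, smul_eq_mul, P.pair',
          map_neg, (S.symm u' (w : ι → F)).trans w.2.2, ← ha, Φ, neg, AddMonoidHom.mk'_apply,
          AddMonoidHom.comp_apply, AddMonoidHom.neg_apply, LinearMap.neg_apply, add_zero]
        module
      rw [e']
      exact deg_add (deg_succ (deg_affine _ _)) (deg_bilin Φ (deg_affine neg 0) (deg_affine neg 0))
  -- exchanging the lines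
  obtain ⟨d, hdO, hdl, ⟨c, hc, hdu⟩, ⟨c', hc', hdu'⟩, hdm⟩ := P.exists_weyl
  have hdM := hM.lin d hdO hdl
  have hDd : Fixes D d := fun x => by
    simp only [hD, MultilinearMap.sub_apply, hTinv d hdM x, hf d hdM hdl.semi x]
  have hcd : ∀ (j : Fin 3) (x : ι → F), ∃ z, (d : Matrix ι ι F) *ᵥ comp S u u' j x = comp S u u' j.rev z := by
    intro j x
    have hp' := P.proj_mem x
    rcases (show j = 0 ∨ j = 1 ∨ j = 2 by omega) with rfl | rfl | rfl
    · refine ⟨(S.h x u' * c) • u', ?_⟩
      simp [comp, hdl _ u, hdu, smul_smul, P.pair']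
    · refine ⟨(d : Matrix ι ι F) *ᵥ S.proj u u' x, ?_⟩
      have hm := hdm _ hp'
      show _ = S.proj u u' _
      conv_rhs => rw [proj, hm.1, hm.2, zero_smul, zero_smul, sub_zero, sub_zero]
      rfl
    · refine ⟨(S.h x u * c') • u, ?_⟩
      simp [comp, hdl _ u', hdu', smul_smul, P.pair]
  have hD0 : D = 0 := by
    refine MultilinearMap.ext fun x => ?_
    have e : x = fun i => ∑ j, comp S u u' j (x i) := by
      funext i
      rw [Fin.sum_univ_three]
      exact decomp (S := S) (u := u) (u' := u') (x i)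
    rw [MultilinearMap.zero_apply, e, MultilinearMap.map_sum]
    refine Finset.sum_eq_zero fun j _ => ?_
    by_cases hj : (∑ i, (j i : ℕ)) ≤ s
    · exact hlow x j hj
    · rw [← hDd]
      choose z hz using fun i => hcd (j i) (x i)
      simp only [hz]
      refine hlow z _ ?_
      have h2 : (∑ i, ((j i : ℕ) + ((j i).rev : ℕ))) = 2 * s := by
        rw [Finset.sum_congr rfl fun i _ => show (j i : ℕ) + ((j i).rev : ℕ) = 2 by
          rw [Fin.val_rev]; omega]
        simp [mul_comm]
      rw [Finset.sum_add_distrib] at h2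
      omega
  obtain ⟨g, hg, hgf⟩ := hnot
  have hTf : T = f := sub_eq_zero.1 hD0
  exact hgf (hTf ▸ hTinv g hg)

end Setting

end Cfsg.Agent.Lib.OrthExtOdd
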