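import Cfsg.Agent.Lib.OrthExtOdd.Full

/-!
Two by two matrices of `F`-endomorphisms of `K` act on the plane of a frame; the root elements of its two lines are
the unitriangular ones.
Owner: helper93.
-/

set_option autoImplicit false
set_option linter.unusedSectionVars false

namespace Cfsg.Agent.Lib.OrthExtOdd

open Matrix Module Cfsg.Agent.Lib.Subspaces.Transvection

variable {ι : Type} [Fintype ι] [DecidableEq ι] {F K : Type*} [Field F] [Field K] [Algebra F K]
  [Module K (ι → F)] [IsScalarTower F K (ι → F)] [Finite F] [Finite K]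

namespace Setting

variable {S : Setting F K ι} {u u' : ι → F}

local notation "V" => (ι → F)
local notation "E₂" => Matrix (Fin 2) (Fin 2) (Module.End F K)

/-- The action of a matrix of endomorphisms. -/
noncomputable def blkLin (S : Setting F K ι) (u u' : ι → F) (G : E₂) : Module.End F V where
  toFun x := S.proj u u' x + (G 0 0 (S.h x u') + G 0 1 (S.h x u)) • u + (G 1 0 (S.h x u') + G 1 1 (S.h x u)) • u'
  map_add' x y := by simp only [proj, map_add, LinearMap.add_apply, add_smul]; abel
  map_smul' t x := by
    simp only [proj, LinearMap.map_smul_of_tower, LinearMap.smul_apply, map_smul, ← smul_add, ← smul_sub,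
      smul_assoc, RingHom.id_apply]

theorem blkLin_apply (G : E₂) (x : V) : S.blkLin u u' G x = S.proj u u' x +
    (G 0 0 (S.h x u') + G 0 1 (S.h x u)) • u + (G 1 0 (S.h x u') + G 1 1 (S.h x u)) • u' := rfl

/-- The monoid map. -/
noncomputable def Frame.blk (P : S.Frame u u') : E₂ →* Matrix ι ι F where
  toFun G := LinearMap.toMatrix' (S.blkLin u u' G)
  map_one' := by
    rw [← LinearMap.toMatrix'_one]
    congr 1
    refine LinearMap.ext fun x => ?_
    simp only [blkLin_apply, Matrix.one_apply_eq, Matrix.one_apply_ne (zero_ne_one : (0 : Fin 2) ≠ 1),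
      Matrix.one_apply_ne (one_ne_zero : (1 : Fin 2) ≠ 0), Module.End.one_apply, LinearMap.zero_apply, add_zero,
      zero_add, proj]
    abel
  map_mul' G G' := by
    rw [← LinearMap.toMatrix'_mul]
    congr 1
    refine LinearMap.ext fun x => ?_
    rw [Module.End.mul_apply, blkLin_apply (x := S.blkLin u u' G' x), blkLin_apply G', blkLin_apply]
    have hm := P.proj_mem x
    simp only [proj, map_add, map_sub, map_smul, LinearMap.add_apply, LinearMap.sub_apply, LinearMap.smul_apply,
      smul_eq_mul, P.uu, P.uu', P.pair, P.pair', Matrix.mul_apply, Fin.sum_univ_two, Module.End.mul_apply] at hm ⊢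
    simp only [mul_zero, mul_one, sub_zero, sub_self, add_zero, zero_add, map_add]
    module

/-- A representation on the plane of the frame. -/
noncomputable def Frame.hom (P : S.Frame u u') {G : Type*} [Group G] (ψ : G →* E₂) : G →* GL ι F :=
  (P.blk.comp ψ).toHomUnits

theorem Frame.hom_mulVec (P : S.Frame u u') {G : Type*} [Group G] (ψ : G →* E₂) (g : G) (x : V) :
    (P.hom ψ g : Matrix ι ι F) *ᵥ x = S.blkLin u u' (ψ g) x := by
  simp only [Frame.hom, MonoidHom.coe_toHomUnits, MonoidHom.comp_apply, Frame.blk, MonoidHom.coe_mk, OneHom.coe_mk]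
  exact LinearMap.toMatrix'_mulVec _ _

theorem Frame.hom_upper (P : S.Frame u u') {G : Type*} [Group G] (ψ : G →* E₂) {g : G} {τ : Module.End F K}
    (h : ψ g = !![1, τ; 0, 1]) : P.hom ψ g = S.rt u τ := gl_ext fun x => by
  rw [P.hom_mulVec, rt_mulVec P.uu, h, blkLin_apply]
  simp only [Matrix.of_apply, Matrix.cons_val', Matrix.cons_val_zero, Matrix.cons_val_one, Matrix.cons_val_fin_one,
    Module.End.one_apply, LinearMap.zero_apply, zero_add, proj]
  module

theorem Frame.hom_lower (P : S.Frame u u') {G : Type*} [Group G] (ψ : G →* E₂) {g : G} {τ : Module.End F K}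
    (h : ψ g = !![1, 0; τ, 1]) : P.hom ψ g = S.rt u' τ := gl_ext fun x => by
  rw [P.hom_mulVec, rt_mulVec P.uu', h, blkLin_apply]
  simp only [Matrix.of_apply, Matrix.cons_val', Matrix.cons_val_zero, Matrix.cons_val_one, Matrix.cons_val_fin_one,
    Module.End.one_apply, LinearMap.zero_apply, add_zero, proj]
  module

end Setting

end Cfsg.Agent.Lib.OrthExtOdd
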