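import Cfsg.Agent.Lib.OrthExtOdd.Bad
import Mathlib.RingTheory.Norm.Transitivity
import Mathlib.NumberTheory.LegendreSymbol.QuadraticChar.Basic
import Mathlib.LinearAlgebra.Matrix.BilinearForm

/-!
Forms fixed by the semilinear elements of `Ω` and by no others: the trace of the product of two values of the
`K`-form, and in dimension three the trace of a normalised determinant.
Owner: helper93.
-/

set_option autoImplicit false
set_option linter.unusedSectionVars false
set_option linter.style.haveILetI false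

namespace Cfsg.Agent.Lib.OrthExtOdd

open Matrix Module Cfsg.Agent.Lib.Subspaces.Transvection Cfsg.Agent.Lib.Subspaces.FormVec
  Cfsg.Agent.Lib.Subspaces.OrthForm Cfsg.Agent.Lib.Subspaces.OmegaGL Cfsg.Agent.Lib.K41.ExtForm

variable {ι : Type} [Fintype ι] [DecidableEq ι] {F K : Type*} [Field F] [Field K] [Algebra F K]
  [Module K (ι → F)] [IsScalarTower F K (ι → F)] [Finite F] [Finite K]

theorem isSemi_glEquiv {g : GL ι F} :
    Cfsg.Agent.Lib.ExtFieldMax.IsSemi F K (glEquiv g) ↔ Semi K g := Iff.rfl

/-- An operator mapping every vector to a multiple of it is scalar. -/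
theorem scalar_of_lines (hd : 2 ≤ finrank K (ι → F)) (A : (ι → F) →ₗ[F] (ι → F))
    (h : ∀ z, ∃ c : K, A z = c • z) : ∃ a : K, ∀ z, A z = a • z := by
  haveI : FiniteDimensional K (ι → F) := Module.Finite.of_finite
  choose c hc using h
  have key : ∀ x y : ι → F, x ≠ 0 → y ∉ Submodule.span K {x} → c x = c y := by
    intro x y hx hy
    have e : c (x + y) • (x + y) = c x • x + c y • y := by rw [← hc, ← hc, ← hc, map_add]
    have e2 : (c (x + y) - c y) • y = (c x - c (x + y)) • x := by
      linear_combination (norm := module) e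
    have h2 : c (x + y) - c y = 0 := by
      by_contra h0
      refine hy (Submodule.mem_span_singleton.2 ⟨(c (x + y) - c y)⁻¹ * (c x - c (x + y)), ?_⟩)
      rw [mul_smul, ← e2, inv_smul_smul₀ h0]
    rw [h2, zero_smul, eq_comm, smul_eq_zero] at e2
    rw [← sub_eq_zero.1 (e2.resolve_right hx) |>.symm, sub_eq_zero.1 h2]
  obtain ⟨x₀, hx₀⟩ : ∃ x : ι → F, x ≠ 0 := by
    by_contra h0
    push Not at h0
    haveI : Subsingleton (ι → F) := ⟨fun a b => (h0 a).trans (h0 b).symm⟩
    rw [finrank_zero_of_subsingleton (R := K)] at hd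
    omega
  obtain ⟨y₀, hy₀⟩ : ∃ y, y ∉ Submodule.span K {x₀} := by
    by_contra h0
    push Not at h0
    have := Submodule.eq_top_iff'.2 h0
    have h1 := finrank_span_singleton (K := K) hx₀
    rw [this, finrank_top] at h1
    omega
  refine ⟨c x₀, fun z => ?_⟩
  rcases eq_or_ne z 0 with rfl | hz
  · simp
  rw [hc]
  congr 1
  by_cases hzx : z ∈ Submodule.span K {x₀}
  · have hy : y₀ ≠ 0 := fun e => hy₀ (e ▸ Submodule.zero_mem _)
    obtain ⟨t, rfl⟩ := Submodule.mem_span_singleton.1 hzx
    have ht : t ≠ 0 := fun e => hz (by rw [e, zero_smul])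
    rw [key x₀ y₀ hx₀ hy₀, key (t • x₀) y₀ hz]
    rwa [Submodule.span_singleton_smul_eq (IsUnit.mk0 t ht)]
  · exact (key x₀ z hx₀ hzx).symm

namespace Setting

variable (S : Setting F K ι)

theorem exists_auto (S : Setting F K ι) {g : GL ι F} (hg : Semi K g) :
    ∃ σ : K ≃ₐ[F] K, ∀ (c : K) x, (g : Matrix ι ι F) *ᵥ (c • x) = σ c • (g : Matrix ι ι F) *ᵥ x := by
  obtain ⟨u, u', P⟩ := S.exists_frame
  haveI : Nontrivial (ι → F) := ⟨⟨u, 0, P.ne_zero⟩⟩
  exact exists_aut (g := glEquiv g) (isSemi_glEquiv.2 hg)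

/-- A semilinear isometry transforms the `K`-form by its automorphism. -/
theorem h_semi {g : GL ι F} (hg : g ∈ Cfsg.Geo.omegaGL S.Q) {σ : K ≃ₐ[F] K}
    (hσ : ∀ (c : K) x, (g : Matrix ι ι F) *ᵥ (c • x) = σ c • (g : Matrix ι ι F) *ᵥ x) (x y : ι → F) :
    S.h ((g : Matrix ι ι F) *ᵥ x) ((g : Matrix ι ι F) *ᵥ y) = σ (S.h x y) :=
  trace_ext (F := F) fun k => by
    rw [← σ.apply_symm_apply k, ← map_mul, Algebra.trace_eq_of_algEquiv, ← smul_eq_mul, ← smul_eq_mul,
      ← LinearMap.smul_apply, ← map_smul, ← LinearMap.smul_apply, ← map_smul, S.trace, S.trace,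
      σ.apply_symm_apply, show k = σ (σ.symm k) from (σ.apply_symm_apply k).symm, ← hσ,
      B_map (omega_isometry S.hQ hg), σ.symm_apply_apply]

theorem semi_of_conj_scalar (S : Setting F K ι) {g : GL ι F}
    (h : ∀ c : K, ∀ z : ι → F, ∃ e : K,
      (g : Matrix ι ι F) *ᵥ (c • (((g⁻¹ : GL ι F) : Matrix ι ι F) *ᵥ z)) = e • z) : Semi K g := by
  intro c
  let A : (ι → F) →ₗ[F] (ι → F) :=
    (g : Matrix ι ι F).mulVecLin ∘ₗ ((DistribSMul.toLinearMap F (ι → F) c) ∘ₗ
      ((g⁻¹ : GL ι F) : Matrix ι ι F).mulVecLin)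
  obtain ⟨a, ha⟩ := scalar_of_lines (by have := S.dim; omega) A (h c)
  refine ⟨a, fun x => ?_⟩
  rw [← ha]
  show _ = (g : Matrix ι ι F) *ᵥ (c • (((g⁻¹ : GL ι F) : Matrix ι ι F) *ᵥ _))
  rw [gl_inv_mulVec]

theorem mem_line_of_orth {z y : ι → F} (h : ∀ w, S.h z w = 0 → S.h y w = 0) : ∃ c : K, y = c • z := by
  rcases eq_or_ne z 0 with rfl | hz
  · exact ⟨0, by rw [S.nondeg y fun w => h w (by simp), smul_zero]⟩
  obtain ⟨t, ht⟩ : ∃ t, S.h z t ≠ 0 := by
    by_contra h0; push Not at h0; exact hz (S.nondeg z h0)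
  refine ⟨S.h y t / S.h z t, sub_eq_zero.1 (S.nondeg _ fun w => ?_)⟩
  have h1 := h (w - (S.h z w / S.h z t) • t) (by simp [ht])
  simp only [map_sub, map_smul, smul_eq_mul] at h1
  simp only [map_sub, map_smul, LinearMap.sub_apply, LinearMap.smul_apply, smul_eq_mul]
  linear_combination h1

/-- The trace of the product of two values of the form. -/
noncomputable def pairForm : MultilinearMap F (fun _ : Fin 4 => ι → F) F where
  toFun x := Algebra.trace F K (S.h (x 0) (x 1) * S.h (x 2) (x 3))
  map_update_add' {inst} x i a b := by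
    rw [Subsingleton.elim inst (instDecidableEqFin 4)]
    fin_cases i <;> simp [Function.update_apply, Fin.ext_iff, add_mul, mul_add]
  map_update_smul' {inst} x i c a := by
    rw [Subsingleton.elim inst (instDecidableEqFin 4)]
    fin_cases i <;>
      simp [Function.update_apply, Fin.ext_iff, LinearMap.map_smul_of_tower, LinearMap.smul_apply, smul_mul_assoc, mul_smul_comm]

theorem pairForm_apply (x : Fin 4 → ι → F) :
    S.pairForm x = Algebra.trace F K (S.h (x 0) (x 1) * S.h (x 2) (x 3)) := rfl

theorem pairForm_fixes {g : GL ι F} (hg : g ∈ Cfsg.Geo.omegaGL S.Q) (hs : Semi K g) : Fixes S.pairForm g := by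
  intro x
  obtain ⟨σ, hσ⟩ := S.exists_auto hs
  rw [pairForm_apply, pairForm_apply, S.h_semi hg hσ, S.h_semi hg hσ, ← map_mul, Algebra.trace_eq_of_algEquiv]

theorem pairForm_not {g : GL ι F} (hns : ¬ Semi K g) : ¬ Fixes S.pairForm g := by
  intro hf
  refine hns (S.semi_of_conj_scalar fun c z => ?_)
  set gi := ((g⁻¹ : GL ι F) : Matrix ι ι F)
  set y := (g : Matrix ι ι F) *ᵥ (c • (gi *ᵥ z)) with hy
  refine S.mem_line_of_orth fun w hzw => ?_
  obtain ⟨u, u', P⟩ := S.exists_frame
  refine trace_ext (F := F) fun a => ?_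
  rw [mul_zero, map_zero]
  have key : ∀ a b a' b', S.pairForm ![(g : Matrix ι ι F) *ᵥ (c • (gi *ᵥ a)), b, a', b'] =
      S.pairForm ![a, b, (g : Matrix ι ι F) *ᵥ (c • (gi *ᵥ a')), b'] := by
    intro a b a' b'
    have h1 := hf ![c • (gi *ᵥ a), gi *ᵥ b, gi *ᵥ a', gi *ᵥ b']
    have h2 := hf ![gi *ᵥ a, gi *ᵥ b, c • (gi *ᵥ a'), gi *ᵥ b']
    simp only [pairForm_apply, Matrix.cons_val, gi, gl_mulVec_inv] at h1 h2 ⊢
    rw [h1, h2, map_smul, map_smul, LinearMap.smul_apply, LinearMap.smul_apply, smul_eq_mul, smul_eq_mul]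
    congr 1
    ring
  have h := key (a • u) u' z w
  simp only [pairForm_apply, Matrix.cons_val, hzw, mul_zero, map_zero, map_smul, LinearMap.smul_apply,
    smul_eq_mul, P.pair, mul_one] at h
  exact h.symm

theorem isSquare_mul_of_not {L : Type*} [Field L] [Finite L] {a b : L} (h2 : ringChar L ≠ 2)
    (ha : ¬ IsSquare a) (hb : ¬ IsSquare b) : IsSquare (a * b) := by
  classical
  haveI := Fintype.ofFinite L
  have ha' := quadraticChar_neg_one_iff_not_isSquare.2 ha
  have hb' := quadraticChar_neg_one_iff_not_isSquare.2 hb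
  by_contra h
  have := quadraticChar_neg_one_iff_not_isSquare.2 h
  rw [map_mul, ha', hb'] at this
  norm_num at this

/-- In dimension three: a form fixed by the semilinear elements of `Ω` and no others. -/
theorem exists_detForm (hd : finrank K (ι → F) = 3) : ∃ f : MultilinearMap F (fun _ : Fin 3 => ι → F) F,
    (∀ g ∈ Cfsg.Geo.omegaGL S.Q, Semi K g → Fixes f g) ∧ ∀ g : GL ι F, ¬ Semi K g → ¬ Fixes f g := by
  classical
  haveI : FiniteDimensional K (ι → F) := Module.Finite.of_finite
  haveI : FiniteDimensional F K := Module.Finite.of_finite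
  haveI : Invertible (2 : K) := invertibleOfNonzero S.twoK
  obtain ⟨b₀, hb₀⟩ := LinearMap.BilinForm.exists_orthogonal_basis (B := S.h) ⟨S.symm⟩
  let b := b₀.reindex (finCongr hd)
  set D := (Matrix.of fun i j => S.h (b i) (b j)).det with hDdef
  have hD : D ≠ 0 := by
    rw [hDdef]
    have h := LinearMap.BilinForm.nondegenerate_iff_det_ne_zero (B := S.h) b
    have e : LinearMap.BilinForm.toMatrix b S.h = Matrix.of fun i j => S.h (b i) (b j) := by
      ext i j; simp
    rw [e] at h
    exact h.1 S.nondegenerate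
  have hc : ringChar K ≠ 2 := fun e => S.twoK (by
    have : CharP K 2 := ringChar.eq_iff.mp e
    exact_mod_cast CharP.cast_eq_zero K 2)
  have hcF : ringChar F ≠ 2 := fun e => S.two (by
    have : CharP F 2 := ringChar.eq_iff.mp e
    exact_mod_cast CharP.cast_eq_zero F 2)
  obtain ⟨m, hm⟩ : Odd (finrank F K) := S.prime.odd_of_ne_two S.odd
  obtain ⟨t, δ, ht, hδ⟩ : ∃ (t : F) (δ : K), t ≠ 0 ∧ δ * δ = algebraMap F K t * D := by
    by_cases h : IsSquare D
    · obtain ⟨d, hd'⟩ := h
      exact ⟨1, d, one_ne_zero, by rw [map_one, one_mul, hd']⟩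
    obtain ⟨t, ht⟩ := FiniteField.exists_nonsquare hcF
    have ht0 : t ≠ 0 := fun e => ht (e ▸ IsSquare.zero)
    have htK : ¬ IsSquare (algebraMap F K t) := by
      rintro ⟨c, hc'⟩
      have e := congrArg (Algebra.norm F) hc'
      rw [Algebra.norm_algebraMap, map_mul, hm] at e
      refine ht ⟨Algebra.norm F c / t ^ m, ?_⟩
      field_simp
      rw [pow_succ, two_mul, pow_add] at e
      linear_combination e
    obtain ⟨d, hd'⟩ := isSquare_mul_of_not hc htK h
    exact ⟨t, d, ht0, hd'.symm⟩
  have hδ0 : δ ≠ 0 := fun e => by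
    rw [e, mul_zero, eq_comm, mul_eq_zero] at hδ
    exact hδ.elim (fun e => ht ((algebraMap F K).injective (e.trans (map_zero _).symm))) hD
  let f : MultilinearMap F (fun _ : Fin 3 => ι → F) F :=
    ((Algebra.trace F K).comp ((LinearMap.mulLeft K δ).restrictScalars F)).compMultilinearMap
      (b.det.toMultilinearMap.restrictScalars F)
  have hf : ∀ x, f x = Algebra.trace F K (δ * b.det x) := fun x => rfl
  refine ⟨f, fun g hg hs => ?_, fun g hns hfix => ?_⟩
  · -- semilinear elements of `Ω`
    obtain ⟨σ, hσ⟩ := S.exists_auto hs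
    set χ := b.det fun i => (g : Matrix ι ι F) *ᵥ b i with hχ
    have hdet : ∀ x : Fin 3 → ι → F, b.det (fun i => (g : Matrix ι ι F) *ᵥ x i) = χ * σ (b.det x) := by
      intro x
      have e : b.toMatrix (fun i => (g : Matrix ι ι F) *ᵥ x i) =
          b.toMatrix (fun i => (g : Matrix ι ι F) *ᵥ b i) * (b.toMatrix x).map σ := by
        ext i j
        rw [Matrix.mul_apply, Basis.toMatrix_apply]
        conv_lhs => rw [← b.sum_repr (x j), mulVec_sum, map_sum, Finsupp.finset_sum_apply]
        refine Finset.sum_congr rfl fun k _ => ?_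
        rw [hσ, map_smul, Finsupp.smul_apply, smul_eq_mul, Basis.toMatrix_apply, Matrix.map_apply,
          Basis.toMatrix_apply, mul_comm]
      rw [hχ, Basis.det_apply, Basis.det_apply, Basis.det_apply, e, Matrix.det_mul]
      exact congrArg _ (RingHom.map_det (σ : K →+* K) _).symm
    have hgram : χ * χ * D = σ D := by
      set A := b.toMatrix fun i => (g : Matrix ι ι F) *ᵥ b i
      have e : Aᵀ * (Matrix.of fun i j => S.h (b i) (b j)) * A =
          (Matrix.of fun i j => S.h (b i) (b j)).map σ := by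
        ext i j
        rw [Matrix.map_apply, Matrix.of_apply, ← S.h_semi hg hσ]
        conv_rhs => rw [← b.sum_repr ((g : Matrix ι ι F) *ᵥ b i), ← b.sum_repr ((g : Matrix ι ι F) *ᵥ b j)]
        simp only [Matrix.mul_apply, Matrix.transpose_apply, Matrix.of_apply, A, Basis.toMatrix_apply,
          map_sum, map_smul, LinearMap.sum_apply, LinearMap.smul_apply, smul_eq_mul, Finset.mul_sum,
          Finset.sum_mul]
        exact Finset.sum_congr rfl fun k _ => Finset.sum_congr rfl fun l _ => by ring
      have e2 := congrArg Matrix.det e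
      rw [Matrix.det_mul, Matrix.det_mul, Matrix.det_transpose,
        show ((Matrix.of fun i j => S.h (b i) (b j)).map σ).det = σ D from
          (RingHom.map_det (σ : K →+* K) _).symm] at e2
      rw [hχ, Basis.det_apply]
      linear_combination e2
    have hsign : δ * χ = σ δ ∨ δ * χ = -σ δ := by
      refine mul_self_eq_mul_self_iff.1 ?_
      have e := congrArg σ hδ
      rw [map_mul, map_mul, AlgEquiv.commutes] at e
      linear_combination (χ * χ) * hδ - e + (algebraMap F K t) * hgram
    rcases hsign with h | h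
    · intro x
      rw [hf, hf, hdet, ← mul_assoc, h, ← map_mul, Algebra.trace_eq_of_algEquiv]
    -- the sign is trivial
    exfalso
    have hneg : ∀ x, f (fun i => (g : Matrix ι ι F) *ᵥ x i) = - f x := fun x => by
      rw [hf, hf, hdet, ← mul_assoc, h, neg_mul, map_neg, ← map_mul, Algebra.trace_eq_of_algEquiv]
    have hit : ∀ (j : ℕ) x, f (fun i => ((g ^ j : GL ι F) : Matrix ι ι F) *ᵥ x i) = (-1) ^ j * f x ∧
        ∀ (c : K) y, ((g ^ j : GL ι F) : Matrix ι ι F) *ᵥ (c • y) =
          (σ ^ j) c • ((g ^ j : GL ι F) : Matrix ι ι F) *ᵥ y := by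
      intro j
      induction j with
      | zero => intro x; simp
      | succ j ih =>
        intro x
        refine ⟨?_, fun c y => ?_⟩
        · simp only [pow_succ', gl_mul_mulVec]
          rw [hneg, (ih x).1]
          ring
        · simp only [pow_succ', gl_mul_mulVec, (ih x).2, hσ, AlgEquiv.mul_apply]
    have hσr : σ ^ finrank F K = 1 := by
      rw [← IsGalois.card_aut_eq_finrank]
      exact pow_card_eq_one'
    set G := g ^ finrank F K
    have hGlin : ∀ (c : K) y, (G : Matrix ι ι F) *ᵥ (c • y) = c • (G : Matrix ι ι F) *ᵥ y := fun c y => by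
      rw [((hit _) 0).2, hσr, AlgEquiv.one_apply]
    let Gl : (ι → F) →ₗ[K] (ι → F) :=
      { toFun := fun y => (G : Matrix ι ι F) *ᵥ y
        map_add' := mulVec_add _
        map_smul' := hGlin }
    have hdetF : (G : Matrix ι ι F).det = 1 := by
      obtain ⟨G₀, hG₀, hG₀'⟩ := pow_mem hg (finrank F K)
      let φ : Cfsg.isometryGroup F S.Q →* Fˣ :=
        (Matrix.GeneralLinearGroup.det).comp (Cfsg.isometryGroup F S.Q).subtype
      have h1 : φ G₀ = 1 := by
        have hle : commutator (Cfsg.isometryGroup F S.Q) ≤ φ.ker := Abelianization.commutator_subset_ker φ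
        exact hle hG₀
      have h2 := congrArg Units.val h1
      rw [show φ G₀ = Matrix.GeneralLinearGroup.det (G₀ : GL ι F) from rfl,
        Matrix.GeneralLinearGroup.val_det_apply] at h2
      rw [show G = (G₀ : GL ι F) from hG₀'.symm]
      exact h2
    have hdetK : LinearMap.det Gl = 1 := by
      have hN : Algebra.norm F (LinearMap.det Gl) = 1 := by
        rw [← LinearMap.det_restrictScalars]
        rw [show Gl.restrictScalars F = Matrix.toLin' (G : Matrix ι ι F) from rfl, LinearMap.det_toLin', hdetF]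
      have hsq : LinearMap.det Gl * LinearMap.det Gl = 1 := by
        set A := LinearMap.toMatrix b b Gl
        have e : Aᵀ * (Matrix.of fun i j => S.h (b i) (b j)) * A = Matrix.of fun i j => S.h (b i) (b j) := by
          ext i j
          rw [Matrix.of_apply]
          conv_rhs => rw [show S.h (b i) (b j) = S.h (Gl (b i)) (Gl (b j)) from
            (S.h_semi (pow_mem hg _) (σ := 1) (fun c y => hGlin c y) (b i) (b j)).symm,
            ← b.sum_repr (Gl (b i)), ← b.sum_repr (Gl (b j))]
          simp only [Matrix.mul_apply, Matrix.transpose_apply, Matrix.of_apply, A, LinearMap.toMatrix_apply,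
            map_sum, map_smul, LinearMap.sum_apply, LinearMap.smul_apply, smul_eq_mul, Finset.mul_sum,
            Finset.sum_mul]
          exact Finset.sum_congr rfl fun k _ => Finset.sum_congr rfl fun l _ => by ring
        have e2 := congrArg Matrix.det e
        rw [Matrix.det_mul, Matrix.det_mul, Matrix.det_transpose, LinearMap.det_toMatrix, ← hDdef] at e2
        exact mul_right_cancel₀ hD (by linear_combination e2)
      rcases mul_self_eq_one_iff.1 hsq with e | e
      · exact e
      · rw [e, ← map_one (algebraMap F K), ← map_neg, Algebra.norm_algebraMap, hm, pow_succ, pow_mul,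
          neg_one_sq, one_pow, one_mul] at hN
        exact absurd hN (fun e' => S.two (by linear_combination -e'))
    obtain ⟨c, hc'⟩ : ∃ c : K, Algebra.trace F K (δ * c) ≠ 0 := by
      by_contra h0
      push Not at h0
      exact hδ0 (trace_ext (F := F) fun a => by rw [mul_zero, map_zero, mul_comm, h0])
    set x := Function.update (⇑b) 0 (c • b 0)
    have hx : b.det x = c := by
      rw [AlternatingMap.map_update_smul, Function.update_eq_self, Basis.det_self, smul_eq_mul, mul_one]
    have h1 := ((hit (finrank F K)) x).1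
    rw [show (-1 : F) ^ finrank F K = -1 by rw [hm, pow_succ, pow_mul, neg_one_sq, one_pow, one_mul], hf, hf] at h1
    have h2 : b.det (fun i => (G : Matrix ι ι F) *ᵥ x i) = b.det x := by
      have := Basis.det_comp b Gl x
      rw [hdetK, one_mul] at this
      exact this
    rw [h2, hx, neg_one_mul] at h1
    exact hc' ((mul_eq_zero.1 (show (2 : F) * Algebra.trace F K (δ * c) = 0 by linear_combination h1)).resolve_left
      S.two)
  · -- the converse
    refine hns (S.semi_of_conj_scalar fun c z => ?_)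
    set gi := ((g⁻¹ : GL ι F) : Matrix ι ι F)
    set y := (g : Matrix ι ι F) *ᵥ (c • (gi *ᵥ z)) with hy
    have key : ∀ v, b.det ![y, z, v] = 0 := by
      intro v
      refine trace_ext (F := F) fun a => ?_
      rw [mul_zero, map_zero]
      have h1 := hfix ![c • (gi *ᵥ z), gi *ᵥ z, gi *ᵥ ((a / δ) • v)]
      have e1 : (fun i => (g : Matrix ι ι F) *ᵥ (![c • (gi *ᵥ z), gi *ᵥ z, gi *ᵥ ((a / δ) • v)] i)) =
          ![y, z, (a / δ) • v] := by
        funext i; fin_cases i <;> simp [hy, gi, gl_mulVec_inv]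
      have u2 : Function.update ![y, z, v] 2 ((a / δ) • v) = ![y, z, (a / δ) • v] := by
        funext i; fin_cases i <;> rfl
      have u0 : b.det ![c • (gi *ᵥ z), gi *ᵥ z, gi *ᵥ ((a / δ) • v)] = 0 := by
        refine AlternatingMap.map_linearDependent _ _ fun hli => ?_
        have := (Fintype.linearIndependent_iff.1 hli ![1, -c, 0] (by simp [Fin.sum_univ_three])) 0
        simp at this
      have u3 : Function.update ![y, z, v] 2 v = ![y, z, v] := by funext i; fin_cases i <;> rfl
      rw [e1, hf, hf, u0, mul_zero, map_zero, ← u2, b.det.map_update_smul, u3, smul_eq_mul, ← mul_assoc,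
        mul_div_cancel₀ _ hδ0] at h1
      exact h1
    by_contra hno
    push Not at hno
    rcases eq_or_ne z 0 with rfl | hz
    · exact hno 0 (by simp [hy])
    have hli : LinearIndependent K ![z, y] :=
      (LinearIndependent.pair_iff' hz).2 fun a e => hno a e.symm
    obtain ⟨v, hv⟩ : ∃ v, v ∉ Submodule.span K (Set.range ![z, y]) := by
      by_contra h0
      push Not at h0
      have := finrank_range_le_card (R := K) ![z, y]
      rw [Set.finrank, Submodule.eq_top_iff'.2 h0, finrank_top, hd] at this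
      simp at this
    have hli3 : LinearIndependent K ![v, z, y] := linearIndependent_finCons.2 ⟨hli, hv⟩
    have hspan : Submodule.span K (Set.range ![v, z, y]) = ⊤ :=
      hli3.span_eq_top_of_card_eq_finrank (by simp [hd])
    have hunit := ((Module.Basis.is_basis_iff_det b).1 ⟨hli3, hspan⟩).ne_zero
    refine hunit ?_
    have e : ![v, z, y] = ![y, z, v] ∘ Equiv.swap (0 : Fin 3) 2 := by funext i; fin_cases i <;> rfl
    rw [e, AlternatingMap.map_perm, key, smul_zero]

end Setting

end Cfsg.Agent.Lib.OrthExtOdd
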