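import Cfsg.Agent.Lib.OrthExtOdd.Root
import Cfsg.Agent.Lib.OrthExtOdd.Invariant

/-!
An overgroup in `Ω` of the linear elements which has a non-semilinear element contains a non-trivial root element at
every singular line.
Owner: helper93.
-/

set_option autoImplicit false
set_option linter.unusedSectionVars false
set_option linter.style.haveILetI false

namespace Cfsg.Agent.Lib.OrthExtOdd

open Matrix Module Cfsg.Agent.Lib.Subspaces.Transvection Cfsg.Agent.Lib.Subspaces.FormVec
  Cfsg.Agent.Lib.Subspaces.OrthForm Cfsg.Agent.Lib.Subspaces.OmegaGL Cfsg.Agent.Lib.K41.ExtForm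

variable {ι : Type} [Fintype ι] [DecidableEq ι] {F K : Type*} [Field F] [Field K] [Algebra F K]
  [Module K (ι → F)] [IsScalarTower F K (ι → F)] [Finite F] [Finite K]

namespace Setting

set_option maxHeartbeats 1000000

variable {S : Setting F K ι} {u u' : ι → F} {M : Subgroup (GL ι F)}

/-- The product of two differences of unipotent elements. -/
theorem Frame.E_sub_mul (P : S.Frame u u') (w v : S.mid u u') (x : ι → F) :
    ((S.E u (w : ι → F) : Matrix ι ι F).mulVecLin - 1) (((S.E u (v : ι → F) : Matrix ι ι F).mulVecLin - 1) x) =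
      -(S.h (v : ι → F) w * S.h x u) • u := by
  have hd : ∀ (a : S.mid u u') y, ((S.E u (a : ι → F) : Matrix ι ι F).mulVecLin - 1) y =
      S.h y u • (a : ι → F) - (S.h y a + S.h (a : ι → F) a / 2 * S.h y u) • u := fun a y => by
    show (S.E u (a : ι → F) : Matrix ι ι F) *ᵥ y - y = _
    rw [E_mulVec P.uu a.2.1]; abel
  rw [hd, hd]
  simp only [map_sub, map_smul, LinearMap.sub_apply, LinearMap.smul_apply, smul_eq_mul, v.2.1, P.uu,
    (S.symm u (w : ι → F)).trans w.2.1]
  module

/-- Semilinear conjugates of many unipotent elements are linear. -/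
theorem Frame.lin_of_semi (P : S.Frame u u') {p : ℕ} [Fact p.Prime] [CharP F p] {g : GL ι F}
    {C : AddSubgroup (S.mid u u')} (hs : ∀ w ∈ C, Semi K (g⁻¹ * S.E u (w : ι → F) * g))
    (hcard : finrank F K < Nat.card C) : ∀ w ∈ C, Lin K (g⁻¹ * S.E u (w : ι → F) * g) := by
  classical
  haveI : FiniteDimensional F K := Module.Finite.of_finite
  haveI : Finite (S.mid u u') := Finite.of_injective _ Subtype.val_injective
  have hr := S.three_le
  have hp := (Fact.out : p.Prime)
  intro w hw
  set φ := g⁻¹ * S.E u (w : ι → F) * g with hφ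
  obtain ⟨σ, hσ⟩ := S.exists_auto (hs w hw)
  by_contra hl
  have hσ1 : σ ≠ 1 := fun e => hl fun c x => by rw [hσ, e, AlgEquiv.one_apply]
  choose τ hτ using fun v : C => S.exists_auto (hs v v.2)
  haveI : Finite (K ≃ₐ[F] K) := Finite.of_injective _ DFunLike.coe_injective
  obtain ⟨v₁, v₂, hne, heq⟩ : ∃ v₁ v₂ : C, v₁ ≠ v₂ ∧ τ v₁ = τ v₂ := by
    by_contra h
    push Not at h
    have hinj : Function.Injective τ := fun a b e => by
      by_contra hab
      exact h a b hab e
    have h1 := Nat.card_le_card_of_injective τ hinj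
    rw [IsGalois.card_aut_eq_finrank] at h1
    omega
  -- a non-trivial linear member
  set v : S.mid u u' := v₁.1 - v₂.1 with hv
  have hvC : v ∈ C := C.sub_mem v₁.2 v₂.2
  have hv0 : v ≠ 0 := fun e => hne (Subtype.ext (sub_eq_zero.1 e))
  set e := g⁻¹ * S.E u (v : ι → F) * g with he
  have hcomb : ∀ a b : S.mid u u', (g⁻¹ * S.E u (a : ι → F) * g) * (g⁻¹ * S.E u (b : ι → F) * g) =
      g⁻¹ * S.E u ((a : ι → F) + (b : ι → F)) * g := fun a b => by
    rw [← E_add P.uu a.2.1 b.2.1]; group
  have hel : ∀ (c : K) x, (e : Matrix ι ι F) *ᵥ (c • x) = c • (e : Matrix ι ι F) *ᵥ x := by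
    intro c x
    have h2 : (g⁻¹ * S.E u (v₁.1 : ι → F) * g) = e * (g⁻¹ * S.E u (v₂.1 : ι → F) * g) := by
      rw [he, hcomb, hv]; simp
    have h3 : ∀ c y, (e : Matrix ι ι F) *ᵥ (τ v₂ c • y) = τ v₂ c • (e : Matrix ι ι F) *ᵥ y := by
      intro c y
      have := hτ v₁ c ((((g⁻¹ * S.E u (v₂.1 : ι → F) * g)⁻¹ : GL ι F) : Matrix ι ι F) *ᵥ y)
      rw [h2] at this
      simp only [gl_mul_mulVec e, hτ v₂, gl_mulVec_inv, heq] at this
      exact this
    have := h3 ((τ v₂).symm c) x
    rwa [AlgEquiv.apply_symm_apply] at this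
  -- the image of `e - 1`
  let Le : (ι → F) →ₗ[K] (ι → F) :=
    { toFun := fun x => (e : Matrix ι ι F) *ᵥ x - x
      map_add' := fun a b => by rw [mulVec_add]; abel
      map_smul' := fun c a => by rw [hel, RingHom.id_apply, smul_sub] }
  let J := LinearMap.range Le
  have hcommφ : φ * e = e * φ := by
    rw [hφ, he, hcomb, hcomb, add_comm]
  have hφLe : ∀ x, (φ : Matrix ι ι F) *ᵥ Le x = Le ((φ : Matrix ι ι F) *ᵥ x) := fun x => by
    simp only [Le, LinearMap.coe_mk, AddHom.coe_mk]
    rw [mulVec_sub, ← gl_mul_mulVec, hcommφ, gl_mul_mulVec]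
  -- the composite
  let Φ : J →ₗ[F] (ι → F) :=
    ((φ : Matrix ι ι F).mulVecLin - 1).comp ((J.subtype).restrictScalars F)
  have hrange : LinearMap.range Φ = LinearMap.range ((((φ : Matrix ι ι F).mulVecLin - 1) :
      Module.End F (ι → F)).comp (Le.restrictScalars F)) := by
    refine le_antisymm ?_ ?_
    · rintro _ ⟨⟨_, x, rfl⟩, rfl⟩
      exact ⟨x, rfl⟩
    · rintro _ ⟨x, rfl⟩
      exact ⟨⟨Le x, x, rfl⟩, rfl⟩
  set c0 := S.h (v : ι → F) w with hc0
  have hprod : ∀ x, (((φ : Matrix ι ι F).mulVecLin - 1) : Module.End F (ι → F)) (Le x) =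
      ((g⁻¹ : GL ι F) : Matrix ι ι F) *ᵥ (-(c0 * S.h ((g : Matrix ι ι F) *ᵥ x) u) • u) := by
    intro x
    rw [hc0, ← P.E_sub_mul w v]
    show (φ : Matrix ι ι F) *ᵥ ((e : Matrix ι ι F) *ᵥ x - x) - ((e : Matrix ι ι F) *ᵥ x - x) =
      _ *ᵥ (_ *ᵥ (_ *ᵥ _ - _) - (_ *ᵥ _ - _))
    simp only [hφ, he, gl_mul_mulVec, mulVec_sub, gl_inv_mulVec, gl_mulVec_inv, Module.End.one_apply]
  haveI : FiniteDimensional K (ι → F) := Module.Finite.of_finite
  have hJ : finrank F J = finrank F K * finrank K J := (Module.finrank_mul_finrank F K J).symm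
  have hj1 : 1 ≤ finrank K J := by
    refine Submodule.one_le_finrank_iff.2 fun hb => hv0 (Subtype.ext ?_)
    have hb' : ∀ x, (e : Matrix ι ι F) *ᵥ x = x := fun x => by
      have : Le x ∈ J := ⟨x, rfl⟩
      rw [hb, Submodule.mem_bot] at this
      exact sub_eq_zero.1 this
    have h1 : e = 1 := gl_ext fun x => by rw [hb', Units.val_one, one_mulVec]
    have h2 : S.E u (v : ι → F) = 1 := by
      rw [show S.E u (v : ι → F) = g * e * g⁻¹ by rw [he]; group, h1, mul_one, mul_inv_cancel]
    have h3 := congrArg (fun t : GL ι F => (t : Matrix ι ι F) *ᵥ u') h2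
    simp only [E_mulVec P.uu v.2.1, Units.val_one, one_mulVec, P.pair', one_smul,
      (S.symm u' (v : ι → F)).trans v.2.2, zero_add, mul_one] at h3
    have h4 := congrArg (S.proj u u') h3
    simp [proj, P.uu, P.uu', P.pair, P.pair', v.2.1, v.2.2] at h4
    simpa using h4
  set Z := LinearMap.ker Φ with hZ
  have hker : finrank F Z ≤ finrank K J := by
    let Y : Submodule F (ι → F) := J.restrictScalars F ⊓ LinearMap.ker ((φ : Matrix ι ι F).mulVecLin - 1)
    have hYZ : finrank F Z ≤ finrank F Y := by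
      let T : Z →ₗ[F] Y :=
        { toFun := fun z => ⟨((z : J) : ι → F), (z : J).2, z.2⟩
          map_add' := fun _ _ => rfl
          map_smul' := fun _ _ => rfl }
      exact LinearMap.finrank_le_finrank_of_injective (f := T) fun a b h =>
        Subtype.ext (Subtype.ext (congrArg (fun y : Y => (y : ι → F)) h))
    let b := Module.finBasis F Y
    have hfix : ∀ i, glEquiv φ ((b i : Y) : ι → F) = ((b i : Y) : ι → F) := fun i => by
      rw [glEquiv_apply]
      exact sub_eq_zero.1 ((b i).2.2)
    have hli : LinearIndependent F fun i => ((b i : Y) : ι → F) := b.linearIndependent.map' Y.subtype Y.ker_subtype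
    have hli2 := fixed_indep (F := F) (K := K) (g := glEquiv φ) (ν := σ) S.prime hσ hσ1 hfix hli
    have h2 : LinearIndependent K fun i => (⟨((b i : Y) : ι → F), (b i).2.1⟩ : J) :=
      LinearIndependent.of_comp J.subtype hli2
    exact hYZ.trans (by simpa using h2.fintype_card_le_finrank)
  have hZ0 : 1 ≤ finrank F Z := by
    -- a unipotent map fixes something
    obtain ⟨z, hzJ, hz0⟩ : ∃ z ∈ J, z ≠ 0 := by
      refine Submodule.exists_mem_ne_zero_of_ne_bot fun hb => ?_
      rw [hb, finrank_bot] at hj1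
      omega
    set ψ : Module.End F (ι → F) := (φ : Matrix ι ι F).mulVecLin - 1
    have hψJ : ∀ y ∈ J, ψ y ∈ J := by
      rintro _ ⟨y, rfl⟩
      refine J.sub_mem ?_ ⟨y, rfl⟩
      exact ⟨_, (hφLe y).symm⟩
    haveI : Nonempty ι := ⟨Classical.choice (by
      by_contra hι
      rw [not_nonempty_iff] at hι
      exact P.ne_zero (funext fun i => isEmptyElim i))⟩
    haveI : CharP (Module.End F (ι → F)) p :=
      charP_of_injective_algebraMap (algebraMap F _).injective p
    have hψp : ψ ^ p = 0 := by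
      rw [show ψ = (φ : Matrix ι ι F).mulVecLin - 1 from rfl, sub_pow_char_of_commute (p := p) (Commute.one_right _),
        one_pow, sub_eq_zero]
      have h1 : φ ^ p = 1 := by
        have : S.E u (w : ι → F) ^ p = 1 := by
          have hk : ∀ k : ℕ, S.E u (w : ι → F) ^ k = S.E u ((k : ℕ) • (w : ι → F)) := by
            intro k
            induction k with
            | zero => rw [pow_zero, zero_smul, E_zero P.uu]
            | succ k ih =>
              rw [pow_succ, ih, E_add P.uu (by rw [← Nat.cast_smul_eq_nsmul K, map_smul, LinearMap.smul_apply, w.2.1, smul_zero])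
                w.2.1, add_smul, one_smul]
          rw [hk, ← Nat.cast_smul_eq_nsmul F, CharP.cast_eq_zero, zero_smul, E_zero P.uu]
        have key := conj_pow (i := p) (a := g⁻¹) (b := S.E u (w : ι → F))
        rw [inv_inv] at key
        rw [hφ, key, this, mul_one, inv_mul_cancel]
      have h2 : ∀ k : ℕ, ((φ : Matrix ι ι F).mulVecLin : Module.End F (ι → F)) ^ k =
          ((φ ^ k : GL ι F) : Matrix ι ι F).mulVecLin := by
        intro k
        induction k with
        | zero => exact LinearMap.ext fun x => by simp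
        | succ k ih =>
          rw [pow_succ, ih]
          refine LinearMap.ext fun x => ?_
          show ((φ ^ k : GL ι F) : Matrix ι ι F) *ᵥ ((φ : Matrix ι ι F) *ᵥ x) = ((φ ^ (k + 1) : GL ι F) : Matrix ι ι F) *ᵥ x
          rw [pow_succ, gl_mul_mulVec (φ ^ k) φ]
      rw [h2, h1]
      exact LinearMap.ext fun x => by simp
    have hex : ∃ k, (ψ ^ k) z = 0 := ⟨p, by rw [hψp]; rfl⟩
    set k := Nat.find hex with hk
    have hk0 : k ≠ 0 := fun h => hz0 (by
      have := Nat.find_spec hex
      rw [← hk, h] at this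
      simpa using this)
    have hmem : ∀ i, (ψ ^ i) z ∈ J := by
      intro i
      induction i with
      | zero => simpa using hzJ
      | succ i ih => rw [pow_succ', Module.End.mul_apply]; exact hψJ _ ih
    refine Submodule.one_le_finrank_iff.2 fun hb => ?_
    have hm : (⟨_, hmem (k - 1)⟩ : J) ∈ Z := by
      show ψ ((ψ ^ (k - 1)) z) = 0
      rw [← Module.End.mul_apply, ← pow_succ', Nat.sub_add_cancel (Nat.one_le_iff_ne_zero.2 hk0)]
      exact Nat.find_spec hex
    rw [hb, Submodule.mem_bot] at hm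
    exact Nat.find_min hex (show k - 1 < k by omega) (congrArg Subtype.val hm)
  have hrk := Φ.finrank_range_add_finrank_ker
  rw [hJ, ← hZ] at hrk
  by_cases hc : c0 = 0
  · have h0 : LinearMap.range Φ = ⊥ := by
      rw [hrange, LinearMap.range_eq_bot]
      exact LinearMap.ext fun x => by simp [hprod, hc]
    rw [h0, finrank_bot, zero_add] at hrk
    nlinarith
  · have h0 : finrank F (LinearMap.range Φ) = finrank F K := by
      let T : K →ₗ[F] (ι → F) :=
        ((g⁻¹ : GL ι F) : Matrix ι ι F).mulVecLin.comp ((LinearMap.toSpanSingleton K (ι → F) u).restrictScalars F)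
      have hT : Function.Injective T := fun a b hab =>
        smul_left_injective K P.ne_zero (gl_mulVec_injective (g⁻¹) hab)
      rw [hrange, ← LinearMap.finrank_range_of_inj hT]
      refine congrArg (fun Y : Submodule F (ι → F) => finrank F Y) (le_antisymm ?_ ?_)
      · rintro _ ⟨x, rfl⟩
        exact ⟨_, (hprod x).symm⟩
      · rintro _ ⟨c, rfl⟩
        refine ⟨((g⁻¹ : GL ι F) : Matrix ι ι F) *ᵥ ((-c / c0) • u'), ?_⟩
        rw [LinearMap.comp_apply, LinearMap.restrictScalars_apply, hprod, gl_mulVec_inv]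
        simp [T, P.pair']
        field_simp
        simp
    rw [h0] at hrk
    rcases Nat.lt_or_ge (finrank K J) 2 with h | h
    · have e : finrank K J = 1 := by omega
      rw [e, mul_one] at hrk
      omega
    · nlinarith

/-- A non-trivial root element. -/
theorem Frame.exists_root_of_not_semi (P : S.Frame u u') (hM : S.Over M) (hns : ∃ g ∈ M, ¬ Semi K g) :
    ∃ τ : Module.End F K, τ ≠ 0 ∧ S.rt u τ ∈ M := by
  classical
  haveI : FiniteDimensional F K := Module.Finite.of_finite
  haveI : FiniteDimensional K (ι → F) := Module.Finite.of_finite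
  haveI : Finite (S.mid u u') := Finite.of_injective _ Subtype.val_injective
  haveI := Fintype.ofFinite F
  obtain ⟨p, _⟩ := CharP.exists F
  haveI hp : Fact p.Prime := ⟨CharP.char_is_prime F p⟩
  have hp3 : 3 ≤ p := by
    have h2 := hp.out.two_le
    rcases Nat.lt_or_ge p 3 with h | h
    · obtain rfl : p = 2 := by omega
      exact absurd (by simpa using CharP.cast_eq_zero F 2) S.two
    · exact h
  set q := Nat.card F with hq
  set r := finrank F K with hr
  have hr3 := S.three_le
  set e := finrank K (S.mid u u') with he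
  have hd := P.finrank_mid
  have hdim := S.dim
  have hK : Nat.card K = q ^ r := Module.natCard_eq_pow_finrank
  have hmid : Nat.card (S.mid u u') = q ^ (r * e) := by
    rw [Module.natCard_eq_pow_finrank (K := K), hK, ← pow_mul]
  have hqp : p ≤ q := by
    obtain ⟨n, -, hn⟩ := FiniteField.card F p
    rw [hq, Nat.card_eq_fintype_card, hn]
    exact Nat.le_self_pow n.ne_zero p
  -- the form
  obtain ⟨s, f, hf, hnot, hs⟩ : ∃ (s : ℕ) (f : MultilinearMap F (fun _ : Fin s => ι → F) F),
      (∀ g ∈ M, Semi K g → Fixes f g) ∧ (∀ g : GL ι F, ¬ Semi K g → ¬ Fixes f g) ∧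
      s ≤ 4 ∧ (e = 1 → s = 3) := by
    by_cases h3 : finrank K (ι → F) = 3
    · obtain ⟨f, hf, hn⟩ := S.exists_detForm h3
      exact ⟨3, f, fun g hg => hf g (hM.le hg), hn, by norm_num, fun _ => rfl⟩
    · exact ⟨4, S.pairForm, fun g hg => S.pairForm_fixes (hM.le hg), fun g => S.pairForm_not, le_rfl,
        fun h => by omega⟩
  obtain ⟨g, hg, hgs, C, hC, hsemi⟩ := P.exists_bad (p := p) hM f hf
    (hns.imp fun g h => ⟨h.1, hnot g h.2⟩)
  set idx := Nat.card (S.mid u u' ⧸ C) with hidx
  have hlag : Nat.card (S.mid u u') = idx * Nat.card C := AddSubgroup.card_eq_card_quotient_mul_card_addSubgroup C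
  obtain ⟨k, hk⟩ : ∃ k, idx = p ^ k := by
    obtain ⟨n, -, hn⟩ := FiniteField.card F p
    have hdvd : idx ∣ p ^ ((n : ℕ) * (r * e)) := by
      rw [pow_mul, ← hn, ← Nat.card_eq_fintype_card, ← hmid]
      exact ⟨_, hlag⟩
    obtain ⟨k, -, hk⟩ := (Nat.dvd_prime_pow hp.out).1 hdvd
    exact ⟨k, hk⟩
  have hks := hC k hk.ge
  have hk2 : k ≤ 2 := by
    have : k * 2 ≤ k * (p - 1) := Nat.mul_le_mul le_rfl (by omega)
    omega
  have hk1 : e = 1 → k ≤ 1 := fun h => by
    have : k * 2 ≤ k * (p - 1) := Nat.mul_le_mul le_rfl (by omega)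
    have := hs.2 h
    omega
  have hq3 : 3 ≤ q := hp3.trans hqp
  have he1 : 1 ≤ e := by omega
  have hidx' : idx * q ^ e * q ≤ q ^ (r * e) := by
    have h1 : idx ≤ q ^ k := hk ▸ Nat.pow_le_pow_left hqp k
    calc idx * q ^ e * q ≤ q ^ k * q ^ e * q := by gcongr
      _ = q ^ (k + e + 1) := by ring
      _ ≤ q ^ (r * e) := Nat.pow_le_pow_right (by omega) (by
        rcases (show e = 1 ∨ 2 ≤ e by omega) with h | h
        · have := hk1 h
          rw [h]; omega
        · nlinarith)
  have hCbig : q ^ e * q ≤ Nat.card C := by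
    refine Nat.le_of_mul_le_mul_left ?_ (hk ▸ pow_pos hp.out.pos k : 0 < idx)
    rw [← hlag, hmid, ← mul_assoc]
    exact hidx'
  have hr_lt : r < Nat.card C := by
    have h3 : Nat.card (S.mid u u') ≤ q ^ k * Nat.card C := by
      rw [hlag]; exact Nat.mul_le_mul_right _ (hk ▸ Nat.pow_le_pow_left hqp k)
    have h4 : q ^ (r * e) ≤ q ^ k * Nat.card C := hmid ▸ h3
    have h5 : q ^ k * q ^ (r * e - k) ≤ q ^ k * Nat.card C := by
      rwa [← pow_add, Nat.add_sub_cancel' (by nlinarith)]
    have h6 := Nat.le_of_mul_le_mul_left h5 (by positivity)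
    have h7 : r * e - k ≥ r - 1 := by
      rcases (show e = 1 ∨ 2 ≤ e by omega) with h | h
      · have := hk1 h
        rw [h]; omega
      · have : r * 2 ≤ r * e := Nat.mul_le_mul le_rfl h
        omega
    have h8 : r < q ^ (r - 1) := by
      have : ∀ m, 2 ≤ m → m + 1 < q ^ m := by
        intro m hm
        induction hm with
        | refl => nlinarith
        | step _ ih => rw [pow_succ]; nlinarith
      have := this (r - 1) (by omega)
      omega
    exact lt_of_lt_of_le (lt_of_lt_of_le h8 (Nat.pow_le_pow_right (by omega) h7)) h6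
  have hlin := P.lin_of_semi (p := p) hsemi hr_lt
  have hspan : Submodule.span K ((fun w : S.mid u u' => (w : ι → F)) '' C) = S.mid u u' := by
    by_contra hne
    have hle : Submodule.span K ((fun w : S.mid u u' => (w : ι → F)) '' C) ≤ S.mid u u' := by
      rw [Submodule.span_le]; rintro _ ⟨w, -, rfl⟩; exact w.2
    set Y := Submodule.span K ((fun w : S.mid u u' => (w : ι → F)) '' C)
    have hlt := Submodule.finrank_lt_finrank_of_lt (lt_of_le_of_ne hle hne)
    haveI : Finite Y := Finite.of_injective _ Subtype.val_injective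
    have h1 : Nat.card C ≤ Nat.card Y :=
      Nat.card_le_card_of_injective (fun w : C => (⟨_, Submodule.subset_span ⟨w.1, w.2, rfl⟩⟩ : Y))
        fun a b h => Subtype.ext (Subtype.ext (congrArg (fun t : Y => (t : ι → F)) h))
    have h2 : Nat.card Y ≤ q ^ (r * (e - 1)) := by
      rw [Module.natCard_eq_pow_finrank (K := K), hK, ← pow_mul]
      exact Nat.pow_le_pow_right (by omega) (Nat.mul_le_mul le_rfl (by omega))
    have h3 : q ^ (r * e) ≤ q ^ k * q ^ (r * (e - 1)) := by
      rw [← hmid, hlag]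
      exact Nat.mul_le_mul (hk ▸ Nat.pow_le_pow_left hqp k) (h1.trans h2)
    rw [← pow_add] at h3
    have h4 := (Nat.pow_le_pow_iff_right (by omega)).1 h3
    have : r * e = r * (e - 1) + r := by
      rw [← Nat.mul_succ]; congr 1; omega
    omega
  obtain ⟨w₁, h1, w₂, h2, w₃, h3, w₄, h4, h0, hF⟩ : ∃ w₁ ∈ C, ∃ w₂ ∈ C, ∃ w₃ ∈ C, ∃ w₄ ∈ C,
      S.h ((w₁ : S.mid u u') : ι → F) (w₂ : S.mid u u') ≠ 0 ∧
      ∀ a : F, S.h ((w₃ : S.mid u u') : ι → F) (w₄ : S.mid u u') / S.h (w₁ : ι → F) w₂ ≠ algebraMap F K a := by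
    obtain ⟨b, hbs, hbspan, hbli⟩ := exists_linearIndependent K ((fun w : S.mid u u' => (w : ι → F)) '' C)
    haveI : Finite b := Finite.of_injective _ Subtype.val_injective
    haveI := Fintype.ofFinite b
    have hsep : ∀ x ∈ S.mid u u', (∀ y : b, S.h x (y : ι → F) = 0) → x = 0 := by
      intro x hx h
      refine P.mid_nondeg hx fun m hm => ?_
      rw [← hspan, ← hbspan] at hm
      induction hm using Submodule.span_induction with
      | mem m hm => exact h ⟨m, hm⟩
      | zero => exact map_zero _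
      | add a c _ _ ha hc => rw [map_add, ha, hc, add_zero]
      | smul c a _ ha => rw [map_smul, ha, smul_zero]
    obtain ⟨w₁, h1, w₂, h2, h0⟩ : ∃ w₁ ∈ C, ∃ w₂ ∈ C, S.h ((w₁ : S.mid u u') : ι → F) (w₂ : S.mid u u') ≠ 0 := by
      by_contra h
      push Not at h
      obtain ⟨z, hz, hzz⟩ := P.exists_aniso
      refine hzz ?_
      rw [show z = 0 from hsep z hz fun y => ?_]
      · simp
      obtain ⟨w, hw, hwy⟩ := hbs y.2
      rw [← hspan] at hz
      clear hzz
      induction hz using Submodule.span_induction with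
      | mem m hm => obtain ⟨w', hw', rfl⟩ := hm; rw [← hwy]; exact h w' hw' w hw
      | zero => rw [map_zero, LinearMap.zero_apply]
      | add a c _ _ ha hc => rw [map_add, LinearMap.add_apply, ha, hc, add_zero]
      | smul c a _ ha => rw [map_smul, LinearMap.smul_apply, ha, smul_zero]
    by_contra hall
    push Not at hall
    choose a ha using fun (v w : C) => hall w₁ h1 w₂ h2 v.1 v.2 w.1 w.2 h0
    choose c hcC hcb using fun y : b => hbs y.2
    have hinj : Function.Injective fun v : C => fun y : b => a v ⟨c y, hcC y⟩ := by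
      intro v v' hvv
      refine Subtype.ext (Subtype.ext (sub_eq_zero.1 (hsep _ ((S.mid u u').sub_mem v.1.2 v'.1.2) fun y => ?_)))
      rw [map_sub, LinearMap.sub_apply, sub_eq_zero, ← hcb y]
      refine (div_left_inj' h0).1 ?_
      rw [ha v ⟨c y, hcC y⟩, ha v' ⟨c y, hcC y⟩]
      exact congrArg (algebraMap F K) (congrFun hvv y)
    haveI : Finite (b → F) := inferInstance
    have h5 := Nat.card_le_card_of_injective _ hinj
    have h6 : Nat.card b = e := by
      rw [Nat.card_eq_fintype_card, ← finrank_span_set_eq_card hbli |>.trans (Set.toFinset_card b), hbspan, hspan]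
    rw [Nat.card_fun, h6, ← hq] at h5
    have : q ^ e < q ^ e * q := lt_mul_of_one_lt_right (by positivity) (by omega)
    omega
  obtain ⟨n, hnI, hnns, hnlow, hnconj⟩ := P.exists_unip (p := p) hM hg hgs hlin hspan h1 h2 h3 h4 h0 hF
  refine P.exists_root hM hnI hnns hnlow hnconj ?_
  rw [hK]
  calc 27 = 3 ^ 3 := by norm_num
    _ ≤ q ^ 3 := Nat.pow_le_pow_left hq3 3
    _ ≤ q ^ r := Nat.pow_le_pow_right (by omega) hr3

end Setting

end Cfsg.Agent.Lib.OrthExtOdd
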