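import Cfsg.Agent.Lib.OrthExtOdd.Full
import Mathlib.FieldTheory.Finiteness

/-!
Degree three: the alternating maps of `K` are an irreducible module for the tori of a frame, so one root element
gives all of them.
Owner: helper93.
-/

set_option autoImplicit false
set_option linter.unusedSectionVars false
set_option linter.style.haveILetI false

namespace Cfsg.Agent.Lib.OrthExtOdd

open Matrix Module Cfsg.Agent.Lib.Subspaces.Transvection Cfsg.Agent.Lib.Subspaces.FormVec
  Cfsg.Agent.Lib.Subspaces.OrthForm Cfsg.Agent.Lib.Subspaces.OmegaGL Cfsg.Agent.Lib.K41.ExtForm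

variable {ι : Type} [Fintype ι] [DecidableEq ι] {F K : Type*} [Field F] [Field K] [Algebra F K]
  [Module K (ι → F)] [IsScalarTower F K (ι → F)] [Finite F] [Finite K]

/-- `x ↦ c σ x − σ⁻¹ (c x)`. -/
noncomputable def twist (σ : K ≃ₐ[F] K) (c : K) : Module.End F K :=
  (LinearMap.mulLeft F c).comp σ.toLinearMap - σ.symm.toLinearMap.comp (LinearMap.mulLeft F c)

theorem twist_apply (σ : K ≃ₐ[F] K) (c x : K) : twist σ c x = c * σ x - σ.symm (c * x) := by
  simp [twist]

theorem twist_skew (σ : K ≃ₐ[F] K) (c : K) : IsSkew (twist σ c) := by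
  intro a b
  have key : ∀ x y : K, Algebra.trace F K (σ.symm (c * x) * y) = Algebra.trace F K (c * x * σ y) := fun x y => by
    rw [← Algebra.trace_eq_of_algEquiv σ (σ.symm (c * x) * y), map_mul, σ.apply_symm_apply]
  rw [twist_apply, twist_apply, sub_mul, mul_sub, map_sub, map_sub, key, mul_comm a (σ.symm _), key,
    show c * b * σ a = c * σ a * b by ring, show c * a * σ b = a * (c * σ b) by ring]
  ring

theorem twist_add (σ : K ≃ₐ[F] K) (c d : K) : twist σ (c + d) = twist σ c + twist σ d :=
  LinearMap.ext fun x => by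
    simp only [twist_apply, LinearMap.add_apply, add_mul, map_add]
    ring

theorem twist_injective (σ : K ≃ₐ[F] K) (hr : (finrank F K).Prime) (hσ : σ * σ ≠ 1) :
    Function.Injective (twist σ) := by
  suffices h : ∀ c, twist σ c = 0 → c = 0 by
    intro a b e
    refine sub_eq_zero.1 (h _ ?_)
    have := twist_add σ (a - b) b
    rw [sub_add_cancel, e] at this
    exact add_eq_right.1 this.symm
  intro c hc
  by_contra hc0
  refine hσ (AlgEquiv.ext fun x => ?_)
  have h1 := LinearMap.congr_fun hc 1
  have h2 := LinearMap.congr_fun hc x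
  rw [twist_apply, map_one, mul_one, LinearMap.zero_apply, sub_eq_zero] at h1
  rw [twist_apply, map_mul, ← h1, LinearMap.zero_apply, ← mul_sub, mul_eq_zero] at h2
  have h3 := congrArg σ (sub_eq_zero.1 (h2.resolve_left hc0))
  rw [σ.apply_symm_apply] at h3
  exact h3

namespace Setting

variable {S : Setting F K ι} {u u' : ι → F} {M : Subgroup (GL ι F)}

theorem Frame.rt_mem_iso (P : S.Frame u u') (hMS : M ≤ Cfsg.Geo.omegaGL S.Q) {τ : Module.End F K}
    (h : S.rt u τ ∈ M) : IsSkew τ :=
  P.skew (omega_isometry S.hQ (hMS h))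

theorem Frame.rt_torus (P : S.Frame u u') (hM : S.Over M) {τ : Module.End F K} (h : S.rt u τ ∈ M) {a : K}
    (ha : a ≠ 0) : S.rt u (LinearMap.mulLeft F (a * a) * τ * LinearMap.mulLeft F (a * a)) ∈ M := by
  obtain ⟨d, hdO, hdl, hdu, hdu', hdm⟩ := P.exists_torus a ha
  have e : d * S.rt u τ * d⁻¹ = S.rt u (LinearMap.mulLeft F (a * a) * τ * LinearMap.mulLeft F (a * a)) := by
    rw [mul_inv_eq_iff_eq_mul]
    refine gl_ext fun z => ?_
    rw [gl_mul_mulVec, gl_mul_mulVec, rt_mulVec P.uu, rt_mulVec P.uu, mulVec_add, hdl, hdu]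
    have hz : S.h ((d : Matrix ι ι F) *ᵥ z) u = (a * a)⁻¹ * S.h z u := by
      conv_lhs => rw [decomp (S := S) (u := u) (u' := u') z, mulVec_add, mulVec_add, hdl, hdl, hdu, hdu',
        hdm _ (P.proj_mem z)]
      simp [P.uu, P.pair', (P.proj_mem z).1, mul_comm]
    rw [hz, Module.End.mul_apply, Module.End.mul_apply, LinearMap.mulLeft_apply, LinearMap.mulLeft_apply,
      show a * a * ((a * a)⁻¹ * S.h z u) = S.h z u by field_simp, smul_smul, mul_comm (τ _)]
  rw [← e]
  exact M.mul_mem (M.mul_mem (hM.lin d hdO hdl) h) (M.inv_mem (hM.lin d hdO hdl))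

/-- Degree three. -/
theorem allRoots_cubic (hM : S.Over M) (h3 : finrank F K = 3) (hns : ∃ g ∈ M, ¬ Semi K g) :
    S.AllRoots M := by
  classical
  haveI : FiniteDimensional F K := Module.Finite.of_finite
  haveI := Fintype.ofFinite K
  haveI := Fintype.ofFinite F
  intro u u' P
  haveI : Finite (K ≃ₐ[F] K) := Finite.of_injective _ DFunLike.coe_injective
  have hcard : Nat.card (K ≃ₐ[F] K) = 3 := by rw [IsGalois.card_aut_eq_finrank, h3]
  obtain ⟨σ, hσ⟩ : ∃ σ : K ≃ₐ[F] K, σ ≠ 1 := by
    by_contra h
    push Not at h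
    haveI : Subsingleton (K ≃ₐ[F] K) := ⟨fun a b => (h a).trans (h b).symm⟩
    have := Nat.card_of_subsingleton (1 : K ≃ₐ[F] K)
    omega
  have hσσ : σ * σ ≠ 1 := fun e => hσ (by
    have e3 : σ ^ 3 = 1 := by rw [← hcard]; exact pow_card_eq_one'
    rw [pow_succ, pow_two, e, one_mul] at e3
    exact e3)
  have hinj := twist_injective σ S.prime hσσ
  -- every alternating map is a twist
  have hsurj : ∀ τ : Module.End F K, IsSkew τ → ∃ c, twist σ c = τ := by
    let b := Module.finBasisOfFinrankEq F K h3
    let Sk := {τ : Module.End F K // IsSkew τ}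
    haveI : Finite (Module.End F K) := Finite.of_injective _ DFunLike.coe_injective
    let φ : Sk → (Fin 3 → F) := fun τ =>
      ![Algebra.trace F K (τ.1 (b 0) * b 1), Algebra.trace F K (τ.1 (b 0) * b 2),
        Algebra.trace F K (τ.1 (b 1) * b 2)]
    have hφ : Function.Injective φ := by
      intro τ τ' e
      refine Subtype.ext (b.ext fun i => ?_)
      have key : ∀ j, Algebra.trace F K (τ.1 (b i) * b j) = Algebra.trace F K (τ'.1 (b i) * b j) := by
        intro j
        have e0 := congrFun e 0
        have e1 := congrFun e 1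
        have e2 := congrFun e 2
        have s1 := τ.2 (b i) (b j)
        have s2 := τ'.2 (b i) (b j)
        have s3 := τ.2 (b i) (b i)
        have s4 := τ'.2 (b i) (b i)
        rw [mul_comm (b i)] at s1 s2 s3 s4
        simp only [φ, Matrix.cons_val] at e0 e1 e2
        fin_cases i <;> fin_cases j <;> simp at s1 s2 s3 s4 ⊢ <;> first
          | exact e0
          | exact e1
          | exact e2
          | linear_combination s1 - s2 - e0
          | linear_combination s1 - s2 - e1
          | linear_combination s1 - s2 - e2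
          | exact mul_left_cancel₀ S.two (by linear_combination s3 - s4)
      refine trace_ext (F := F) fun a => ?_
      rw [← b.sum_repr a, Finset.sum_mul, Finset.sum_mul, map_sum, map_sum]
      refine Finset.sum_congr rfl fun j _ => ?_
      rw [trace_smul_apply, trace_smul_apply, mul_comm (b j), mul_comm (b j), key]
    let ψ : K → Sk := fun c => ⟨twist σ c, twist_skew σ c⟩
    have hψ : Function.Injective ψ := fun a c e => hinj (congrArg Subtype.val e)
    have h1 := Nat.card_le_card_of_injective φ hφ
    have h2 := Nat.card_le_card_of_injective ψ hψ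
    have h4 : Nat.card (Fin 3 → F) = Nat.card K := by
      rw [Nat.card_fun, Nat.card_eq_fintype_card (α := Fin 3), Fintype.card_fin,
        Module.natCard_eq_pow_finrank (K := F) (V := K), h3]
    intro τ hτ
    obtain ⟨c, hc⟩ := ((Nat.bijective_iff_injective_and_card ψ).2 ⟨hψ, by omega⟩).2 ⟨τ, hτ⟩
    exact ⟨c, congrArg Subtype.val hc⟩
  set C : Set K := {c | S.rt u (twist σ c) ∈ M} with hC
  obtain ⟨τ, hτ0, hτM⟩ := P.exists_root_of_not_semi hM hns
  obtain ⟨c₁, hc₁⟩ := hsurj τ (P.rt_mem_iso hM.le hτM)
  have hc₁C : c₁ ∈ C := by show S.rt u (twist σ c₁) ∈ M; rwa [hc₁]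
  have hc₁0 : c₁ ≠ 0 := fun e => hτ0 (by rw [← hc₁, e]; exact LinearMap.ext fun x => by simp [twist_apply])
  have hCadd : ∀ a b, a ∈ C → b ∈ C → a + b ∈ C := fun a b ha hb => by
    show S.rt u (twist σ (a + b)) ∈ M
    rw [twist_add, ← rt_add P.uu]
    exact M.mul_mem ha hb
  have hCzero : (0 : K) ∈ C := by
    show S.rt u (twist σ 0) ∈ M
    rw [show twist σ (0 : K) = 0 from LinearMap.ext fun x => by simp [twist_apply], rt_zero P.uu]
    exact M.one_mem
  let R₀ : Subsemiring K :=
    { carrier := {x | ∀ c ∈ C, x * c ∈ C}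
      mul_mem' := fun {a b} ha hb c hc => by rw [mul_assoc]; exact ha _ (hb c hc)
      one_mem' := fun c hc => by rwa [one_mul]
      add_mem' := fun {a b} ha hb c hc => by rw [add_mul]; exact hCadd _ _ (ha c hc) (hb c hc)
      zero_mem' := fun c _ => by rw [zero_mul]; exact hCzero }
  have hneg : (-1 : K) ∈ R₀ := by
    obtain ⟨p, _⟩ := CharP.exists K
    have hp : p.Prime := CharP.char_is_prime K p
    have : (-1 : K) = ((p - 1 : ℕ) : K) := by rw [Nat.cast_sub hp.one_lt.le, CharP.cast_eq_zero]; simp
    rw [this]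
    exact natCast_mem R₀ _
  let R : Subfield K :=
    { R₀ with
      neg_mem' := fun {x} hx => by rw [← neg_one_mul]; exact R₀.mul_mem hneg hx
      inv_mem' := fun x hx => by
        rcases eq_or_ne x 0 with rfl | hx0
        · simpa using R₀.zero_mem
        have h1 : x⁻¹ = x ^ (Fintype.card K - 2) := by
          refine inv_eq_of_mul_eq_one_right ?_
          have h2 := Fintype.one_lt_card (α := K)
          rw [← pow_succ', show Fintype.card K - 2 + 1 = Fintype.card K - 1 by omega,
            FiniteField.pow_card_sub_one_eq_one x hx0]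
        rw [h1]
        exact pow_mem (show x ∈ R₀ from hx) _ }
  have hR : ∀ a : K, a ≠ 0 → (a * a) * σ (a * a) ∈ R := fun a ha c hc => by
    show S.rt u (twist σ (a * a * σ (a * a) * c)) ∈ M
    have h := P.rt_torus hM (τ := twist σ c) hc ha
    convert h using 2
    refine LinearMap.ext fun x => ?_
    simp only [Module.End.mul_apply, LinearMap.mulLeft_apply, twist_apply, map_mul, AlgEquiv.symm_apply_apply,
      mul_sub]
    ring
  -- the subfield is everything
  have hRtop : R = ⊤ := by
    by_contra hne
    haveI := Fintype.ofFinite R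
    have h1 : 2 ≤ finrank R K := by
      by_contra h
      have hp := Module.finrank_pos (R := R) (M := K)
      refine hne (eq_top_iff.2 fun x _ => ?_)
      obtain ⟨v, hv, hspan⟩ := finrank_eq_one_iff'.1 (show finrank R K = 1 by omega)
      obtain ⟨c, hc⟩ := hspan 1
      obtain ⟨d, hd⟩ := hspan x
      have hc0 : (c : K) ≠ 0 := fun e => one_ne_zero (α := K) (by
        rw [← hc, Subfield.smul_def, e, zero_smul])
      have : x = (d : K) * (c : K)⁻¹ := by
        rw [← hd, eq_comm, ← div_eq_mul_inv, div_eq_iff hc0, Subfield.smul_def, smul_eq_mul, mul_assoc,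
          mul_comm v, ← smul_eq_mul (c : K), ← Subfield.smul_def, hc, mul_one]
      rw [this]
      exact R.mul_mem d.2 (R.inv_mem c.2)
    have h2 : Nat.card R ^ 2 ≤ Nat.card K := by
      rw [Module.natCard_eq_pow_finrank (K := R) (V := K)]
      exact Nat.pow_le_pow_right Nat.card_pos h1
    -- fourth powers are too many
    have h4 : Nat.card K ≤ 1 + 4 * Nat.card R := by
      let g : K → R := fun a => if ha : a = 0 then 0 else ⟨_, hR a ha⟩
      have hfib : ∀ z : R, (Finset.univ.filter fun a : K => a ≠ 0 ∧ g a = z).card ≤ 4 := by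
        intro z
        rcases Finset.eq_empty_or_nonempty (Finset.univ.filter fun a : K => a ≠ 0 ∧ g a = z) with e | ⟨a₀, ha₀⟩
        · rw [e]; simp
        rw [Finset.mem_filter] at ha₀
        refine (Finset.card_le_card (t := (Polynomial.X ^ 4 - Polynomial.C 1 : Polynomial K).roots.toFinset.image
          fun y => y * a₀) fun a ha => ?_).trans (Finset.card_image_le.trans ((Multiset.toFinset_card_le _).trans
            ((Polynomial.card_roots' _).trans (by rw [Polynomial.natDegree_X_pow_sub_C]))))
        rw [Finset.mem_filter] at ha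
        have e := ha.2.2.trans ha₀.2.2.symm
        simp only [g, dif_neg ha.2.1, dif_neg ha₀.2.1, Subtype.mk.injEq] at e
        rw [Finset.mem_image]
        refine ⟨a / a₀, ?_, div_mul_cancel₀ a ha₀.2.1⟩
        rw [Multiset.mem_toFinset, Polynomial.mem_roots (Polynomial.X_pow_sub_C_ne_zero (by norm_num) _)]
        simp only [Polynomial.IsRoot, Polynomial.eval_sub, Polynomial.eval_pow, Polynomial.eval_X, Polynomial.eval_C,
          sub_eq_zero]
        set y := a / a₀ with hy
        have hy0 : y ≠ 0 := div_ne_zero ha.2.1 ha₀.2.1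
        have hyy : y * y * σ (y * y) = 1 := by
          have ha' : a = y * a₀ := (div_mul_cancel₀ a ha₀.2.1).symm
          rw [ha'] at e
          simp only [map_mul] at e ⊢
          have hne : a₀ * a₀ * (σ a₀ * σ a₀) ≠ 0 := by simp [ha₀.2.1]
          refine mul_right_cancel₀ hne ?_
          linear_combination e
        set w := y * y with hw
        have h1 : σ w = w⁻¹ := eq_inv_of_mul_eq_one_right hyy
        have h2 : (σ * σ) w = w := by
          rw [AlgEquiv.mul_apply, h1, map_inv₀, h1, inv_inv]
        obtain ⟨t, ht⟩ := mem_range_of_fixed S.prime hσσ h2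
        have h3 : σ w = w := by rw [← ht, AlgEquiv.commutes]
        have h5 : w * w = 1 := by rw [h3] at hyy; exact hyy
        rw [hw] at h5
        linear_combination h5
      have hsum := Finset.card_le_mul_card_image_of_maps_to
        (s := Finset.univ.filter fun a : K => a ≠ 0) (t := (Finset.univ : Finset R)) (f := g)
        (fun a _ => Finset.mem_univ _) 4 fun z _ => by
          refine le_trans (le_of_eq ?_) (hfib z)
          rw [Finset.filter_filter]
      have hne : (Finset.univ.filter fun a : K => a ≠ 0).card = Fintype.card K - 1 := by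
        rw [Finset.filter_ne', Finset.card_erase_of_mem (Finset.mem_univ _), Finset.card_univ]
      rw [hne, Finset.card_univ] at hsum
      rw [Nat.card_eq_fintype_card, Nat.card_eq_fintype_card]
      omega
    have h27 : 27 ≤ Nat.card K := by
      rw [Module.natCard_eq_pow_finrank (K := F) (V := K), h3, Nat.card_eq_fintype_card]
      have h3F : 3 ≤ Fintype.card F := by
        by_contra h
        have := Fintype.one_lt_card (α := F)
        have hc : Fintype.card F = 2 := by omega
        refine S.two ?_
        have := FiniteField.cast_card_eq_zero F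
        rw [hc] at this
        exact_mod_cast this
      calc 27 = 3 ^ 3 := by norm_num
        _ ≤ _ := Nat.pow_le_pow_left h3F 3
    nlinarith
  intro τ' hτ'
  obtain ⟨c, hc⟩ := hsurj τ' hτ'
  have hmem : c / c₁ ∈ R := by rw [hRtop]; trivial
  have := hmem c₁ hc₁C
  rw [div_mul_cancel₀ _ hc₁0] at this
  rw [← hc]
  exact this

end Setting

end Cfsg.Agent.Lib.OrthExtOdd
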