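import Cfsg.Agent.Lib.GeomSmallSp.OrthThree.SLTwo

/-!
A subgroup of `SL(2, E)` with the two unitriangular matrices of a nilpotent element, stable under a diagonal
scaling, contains a deep upper unitriangular element.
Owner: helper93.
-/

set_option autoImplicit false

namespace Cfsg.Agent.Lib.OrthExtOdd

open Matrix Cfsg.Agent.Lib.GeomSmallSp.OrthThree.SLTwo

variable {E : Type*} [CommRing E]

local notation "SL₂" => Matrix.SpecialLinearGroup (Fin 2) E
local notation "M₂" => Matrix (Fin 2) (Fin 2) E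

/-- The leading term of a commutator. -/
theorem deep_comm {g u : SL₂} {ν : E} {X Y Z : M₂} {n : ℕ} (hn : 1 ≤ n)
    (hg : (g : M₂) = 1 + ν ^ n • X + ν ^ (n + 1) • Z) (hu : (u : M₂) = 1 + ν • Y) :
    ∃ Z' : M₂, ((g * u * g⁻¹ * u⁻¹ : SL₂) : M₂) = 1 + ν ^ (n + 1) • (X * Y - Y * X) + ν ^ (n + 2) • Z' := by
  obtain ⟨m, rfl⟩ : ∃ m, n = m + 1 := ⟨n - 1, by omega⟩
  set G : M₂ := ((g⁻¹ : SL₂) : M₂)
  set U : M₂ := ((u⁻¹ : SL₂) : M₂)
  set D := X * Y - Y * X
  set D' := Z * Y - Y * Z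
  have hGg : G * (g : M₂) = 1 := by rw [← Matrix.SpecialLinearGroup.coe_mul, inv_mul_cancel]; rfl
  have hUu : U * (u : M₂) = 1 := by rw [← Matrix.SpecialLinearGroup.coe_mul, inv_mul_cancel]; rfl
  have hgG : (g : M₂) * G = 1 := by rw [← Matrix.SpecialLinearGroup.coe_mul, mul_inv_cancel]; rfl
  have huU : (u : M₂) * U = 1 := by rw [← Matrix.SpecialLinearGroup.coe_mul, mul_inv_cancel]; rfl
  have hsub : (g : M₂) * (u : M₂) - (u : M₂) * (g : M₂) = ν ^ (m + 2) • D + ν ^ (m + 3) • D' := by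
    rw [hg, hu]
    simp only [D, D', mul_add, add_mul, mul_one, one_mul, smul_mul_assoc, mul_smul_comm, smul_add, smul_smul,
      smul_sub]
    module
  set W : M₂ := -(G * (ν ^ m • X + ν ^ (m + 1) • Z) * U + U * Y) with hW
  have hinv : G * U = 1 + ν • W := by
    have e1 : G = 1 - G * (ν ^ (m + 1) • X + ν ^ (m + 1 + 1) • Z) := by
      rw [eq_sub_iff_add_eq]
      conv_rhs => rw [← hGg, hg]
      rw [add_assoc (1 : M₂)]; noncomm_ring
    have e2 : U = 1 - U * (ν • Y) := by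
      rw [eq_sub_iff_add_eq]
      conv_rhs => rw [← hUu, hu]
      noncomm_ring
    calc G * U = U - G * (ν ^ (m + 1) • X + ν ^ (m + 1 + 1) • Z) * U := by
          conv_lhs => rw [e1]
          rw [sub_mul, one_mul]
      _ = 1 - U * (ν • Y) - G * (ν ^ (m + 1) • X + ν ^ (m + 1 + 1) • Z) * U := by
          conv_lhs => arg 1; rw [e2]
      _ = 1 + ν • W := by
          simp only [hW, mul_add, add_mul, mul_smul_comm, smul_mul_assoc]
          module
  refine ⟨D' + (D + ν • D') * W, ?_⟩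
  calc ((g * u * g⁻¹ * u⁻¹ : SL₂) : M₂) = (g : M₂) * (u : M₂) * (G * U) := by
        simp only [Matrix.SpecialLinearGroup.coe_mul, G, U, Matrix.mul_assoc]
    _ = ((g : M₂) * (u : M₂) - (u : M₂) * (g : M₂)) * (G * U) + 1 := by
        have e3 : (u : M₂) * (g : M₂) * (G * U) = 1 := by
          rw [Matrix.mul_assoc, ← Matrix.mul_assoc (g : M₂), hgG, Matrix.one_mul, huU]
        rw [sub_mul, e3, sub_add_cancel]
    _ = _ := by
        rw [hsub, hinv]
        simp only [mul_add, add_mul, mul_one, smul_mul_assoc, mul_smul_comm, smul_add, smul_smul]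
        module

/-- A deep upper unitriangular element. -/
theorem exists_deep (H : Subgroup SL₂) {ν t : E} {j : ℕ} (hj : 2 ≤ j) (hν : ν ^ (2 * j + 1) = 0)
    (hu : uu ν ∈ H) (hl : ll ν ∈ H)
    (hstab : ∀ g ∈ H, g 1 0 = 0 → ∃ g' ∈ H,
      (g' : M₂) = !![g 0 0, t * g 0 1; 0, g 1 1]) :
    ∃ (k : ℕ) (x : E), uu ((t - 1) * (ν ^ (2 * j - 1) * 2 ^ k + ν ^ (2 * j) * x)) ∈ H := by
  have hU : ((uu ν : SL₂) : M₂) = 1 + ν • !![0, 1; 0, 0] := by
    rw [coe_uu]; ext a b; fin_cases a <;> fin_cases b <;> simp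
  have hL : ((ll ν : SL₂) : M₂) = 1 + ν • !![0, 0; 1, 0] := by
    rw [coe_ll]; ext a b; fin_cases a <;> fin_cases b <;> simp
  have hmem : ∀ {g u : SL₂}, g ∈ H → u ∈ H → g * u * g⁻¹ * u⁻¹ ∈ H := fun hg hu =>
    H.mul_mem (H.mul_mem (H.mul_mem hg hu) (H.inv_mem hg)) (H.inv_mem hu)
  have hlev : ∀ i, ∃ h ∈ H, ∃ (k : ℕ) (Z : M₂),
      (h : M₂) = 1 + ν ^ (2 * i + 2) • !![(2 : E) ^ k, 0; 0, -(2 : E) ^ k] + ν ^ (2 * i + 2 + 1) • Z := by
    intro i
    induction i with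
    | zero =>
      obtain ⟨Z', hZ'⟩ := deep_comm (g := uu ν) (n := 1) (X := !![0, 1; 0, 0]) (Z := 0) le_rfl
        (by rw [hU, pow_one, smul_zero, add_zero]) hL
      refine ⟨_, hmem hu hl, 0, Z', hZ'.trans ?_⟩
      congr 2
      ext a b; fin_cases a <;> fin_cases b <;> simp [Matrix.mul_apply, Fin.sum_univ_two]
    | succ i ih =>
      obtain ⟨h, hh, k, Z, e⟩ := ih
      obtain ⟨Z₁, e₁⟩ := deep_comm (by omega) e hU
      obtain ⟨Z₂, e₂⟩ := deep_comm (by omega) e₁ hL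
      refine ⟨_, hmem (hmem hh hu) hl, k + 1, Z₂, e₂.trans ?_⟩
      rw [show 2 * i + 2 + 1 + 1 = 2 * (i + 1) + 2 by ring, show 2 * i + 2 + 1 + 2 = 2 * (i + 1) + 2 + 1 by ring]
      congr 2
      ext a b; fin_cases a <;> fin_cases b <;> simp [Matrix.mul_apply, Fin.sum_univ_two] <;> ring
  obtain ⟨i, rfl⟩ : ∃ i, j = i + 2 := ⟨j - 2, by omega⟩
  obtain ⟨h, hh, k, Z, e⟩ := hlev i
  have h0 : ∀ m, 2 * i + 5 ≤ m → ν ^ m = 0 := fun m hm => by
    rw [← Nat.sub_add_cancel hm, pow_add, show 2 * i + 5 = 2 * (i + 2) + 1 by ring, hν, mul_zero]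
  set n := 2 * i + 2 with hn
  set c : E := 2 ^ k
  have ha : h 0 0 = 1 + ν ^ n * c + ν ^ (n + 1) * Z 0 0 := by
    have := congrFun (congrFun e 0) 0; simpa using this
  have hw : h 1 0 = ν ^ (n + 1) * Z 1 0 := by
    have := congrFun (congrFun e 1) 0; simpa using this
  set δ := -(h 0 0 * h 1 0 * ν)
  set b := h 0 0 * h 0 0 * ν - ν
  set g := h * uu ν * h⁻¹ * (uu ν)⁻¹
  have hg : g ∈ H := hmem hh hu
  have hge : (g : M₂) = !![1 + δ, b; 0, 1 - δ] := by
    have hdet : h 0 0 * h 1 1 - h 0 1 * h 1 0 = 1 := by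
      have := h.2
      rwa [Matrix.det_fin_two] at this
    have hui : (((uu ν)⁻¹ : SL₂) : M₂) = !![1, -ν; 0, 1] := by
      rw [Matrix.SpecialLinearGroup.coe_inv, coe_uu, Matrix.adjugate_fin_two_of]
      ext a b; fin_cases a <;> fin_cases b <;> simp
    have hz1 : h 1 0 * h 1 0 * ν = 0 := by
      rw [hw]; linear_combination (Z 1 0 * Z 1 0) * h0 (n + 1 + (n + 1) + 1) (by omega)
    have hz2 : h 0 0 * h 1 0 * ν * ν = 0 := by
      rw [hw]; linear_combination (h 0 0 * Z 1 0) * h0 (n + 1 + 1 + 1) (by omega)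
    simp only [g, Matrix.SpecialLinearGroup.coe_mul, hui, coe_uu, Matrix.SpecialLinearGroup.coe_inv,
      Matrix.adjugate_fin_two]
    ext a b' <;> fin_cases a <;> fin_cases b' <;>
      simp [Matrix.mul_apply, Fin.sum_univ_two, δ, b]
    · linear_combination hdet
    · linear_combination (-ν) * hdet + hz2
    · linear_combination -hz1
    · linear_combination hdet + ν * hz1
  have hδ : δ * δ = 0 ∧ δ * b = 0 := by
    have hb : b = ν ^ (n + 1) * ((2 + ν ^ n * c + ν ^ (n + 1) * Z 0 0) * (c + ν * Z 0 0)) := by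
      simp only [b, ha]; ring
    constructor
    · simp only [δ]; rw [hw]
      linear_combination (h 0 0 * h 0 0 * Z 1 0 * Z 1 0) * h0 (n + 1 + (n + 1) + 1 + 1) (by omega)
    · rw [hb]; simp only [δ]; rw [hw]
      linear_combination (-(h 0 0 * Z 1 0 * ((2 + ν ^ n * c + ν ^ (n + 1) * Z 0 0) * (c + ν * Z 0 0)))) *
        h0 (n + 1 + 1 + (n + 1)) (by omega)
  obtain ⟨g', hg', hg'e⟩ := hstab g hg (by simp [hge])
  have hpure : g' * g⁻¹ = uu ((t - 1) * b) := by
    apply Subtype.ext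
    rw [Matrix.SpecialLinearGroup.coe_mul, Matrix.SpecialLinearGroup.coe_inv, hg'e, hge,
      Matrix.adjugate_fin_two_of, coe_uu]
    ext a b' <;> fin_cases a <;> fin_cases b' <;> simp [Matrix.mul_apply, Fin.sum_univ_two]
    · linear_combination -hδ.1
    · linear_combination (t - 1) * hδ.2
    · linear_combination -hδ.1
  refine ⟨k + 1, 2 * Z 0 0 + ν ^ (2 * i + 1) * (c + ν * Z 0 0) ^ 2, ?_⟩
  have hkey : b = ν ^ (2 * (i + 2) - 1) * 2 ^ (k + 1) +
      ν ^ (2 * (i + 2)) * (2 * Z 0 0 + ν ^ (2 * i + 1) * (c + ν * Z 0 0) ^ 2) := by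
    rw [show 2 * (i + 2) - 1 = 2 * i + 3 by omega]
    simp only [b, ha, hn, c]; ring
  rw [← hkey, ← hpure]
  exact H.mul_mem hg' (H.inv_mem hg)

/-- Changing the signs of the off-diagonal entries. -/
def flipHom : SL₂ →* SL₂ where
  toFun g := ⟨!![g 0 0, -(g 0 1); -(g 1 0), g 1 1], by
    have h := g.2
    rw [Matrix.det_fin_two] at h
    rw [Matrix.det_fin_two_of]
    linear_combination h⟩
  map_one' := Subtype.ext (by ext a b; fin_cases a <;> fin_cases b <;> simp)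
  map_mul' a b := Subtype.ext (by
    refine Eq.trans ?_ (Matrix.SpecialLinearGroup.coe_mul _ _).symm
    ext i k
    fin_cases i <;> fin_cases k <;> simp [Matrix.mul_apply, Fin.sum_univ_two] <;> ring)

theorem coe_flipHom (g : SL₂) : (flipHom g : M₂) = !![g 0 0, -(g 0 1); -(g 1 0), g 1 1] := rfl

theorem flipHom_uu (z : E) : flipHom (uu z) = (uu z)⁻¹ := Subtype.ext (by
  rw [Matrix.SpecialLinearGroup.coe_inv, coe_flipHom, coe_uu, Matrix.adjugate_fin_two_of]
  ext i k; fin_cases i <;> fin_cases k <;> simp)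

theorem flipHom_ll (z : E) : flipHom (ll z) = (ll z)⁻¹ := Subtype.ext (by
  rw [Matrix.SpecialLinearGroup.coe_inv, coe_flipHom, coe_ll, Matrix.adjugate_fin_two_of]
  ext i k; fin_cases i <;> fin_cases k <;> simp)

/-- A deep upper element in the group of the two unitriangular elements. -/
theorem exists_deep_closure {ν : E} {j : ℕ} (hj : 2 ≤ j) (hν : ν ^ (2 * j + 1) = 0) :
    ∃ (k : ℕ) (x : E), uu ((-1 - 1) * (ν ^ (2 * j - 1) * 2 ^ k + ν ^ (2 * j) * x)) ∈
      Subgroup.closure ({uu ν, ll ν} : Set SL₂) := by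
  set H := Subgroup.closure ({uu ν, ll ν} : Set SL₂)
  have hflip : ∀ g ∈ H, flipHom g ∈ H := by
    suffices H ≤ H.comap flipHom from fun g hg => this hg
    rw [Subgroup.closure_le]
    rintro _ (rfl | rfl)
    · rw [SetLike.mem_coe, Subgroup.mem_comap, flipHom_uu]
      exact H.inv_mem (Subgroup.subset_closure (Or.inl rfl))
    · rw [SetLike.mem_coe, Subgroup.mem_comap, flipHom_ll]
      exact H.inv_mem (Subgroup.subset_closure (Or.inr rfl))
  refine exists_deep H hj hν (Subgroup.subset_closure (Or.inl rfl)) (Subgroup.subset_closure (Or.inr rfl))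
    fun g hg h10 => ⟨flipHom g, hflip g hg, ?_⟩
  rw [coe_flipHom, h10, neg_zero, neg_one_mul]

end Cfsg.Agent.Lib.OrthExtOdd
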