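import Cfsg.Agent.Lib.OrthExtOdd.Setting

/-!
Elements of `Ω` commuting with the scalars of `K`: the unipotent maps `x ↦ x + h(x,u) w − (h(x,w) + …) u`, the
tori of a frame, and an element exchanging its two lines.
Owner: helper93.
-/

set_option autoImplicit false
set_option linter.unusedSectionVars false

namespace Cfsg.Agent.Lib.OrthExtOdd

open Matrix Module Cfsg.Agent.Lib.Subspaces.Transvection Cfsg.Agent.Lib.Subspaces.FormVec
  Cfsg.Agent.Lib.Subspaces.OrthForm Cfsg.Agent.Lib.Subspaces.OmegaGL Cfsg.Agent.Lib.K41.ExtForm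

variable {ι : Type} [Fintype ι] [DecidableEq ι] {F K : Type*} [Field F] [Field K] [Algebra F K]
  [Module K (ι → F)] [IsScalarTower F K (ι → F)] [Finite F] [Finite K]

namespace Setting

variable (S : Setting F K ι)

/-- The map of a unipotent element. -/
noncomputable def eLin (u w : ι → F) : (ι → F) →ₗ[K] (ι → F) :=
  LinearMap.id + (S.h.flip u).smulRight w - ((S.h.flip w) + (S.h w w / 2) • S.h.flip u).smulRight u

theorem eLin_apply (u w x : ι → F) :
    S.eLin u w x = x + S.h x u • w - (S.h x w + S.h w w / 2 * S.h x u) • u := by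
  simp [eLin, LinearMap.BilinForm.flip_apply]

theorem eLin_comp {u w w' : ι → F} (hu : S.h u u = 0) (hw : S.h w u = 0) (hw' : S.h w' u = 0) (x : ι → F) :
    S.eLin u w (S.eLin u w' x) = S.eLin u (w + w') x := by
  have h2 := S.twoK
  have e : S.h u w = 0 := (S.symm u w).trans hw
  simp only [eLin_apply, map_add, map_sub, map_smul, LinearMap.add_apply, LinearMap.sub_apply,
    LinearMap.smul_apply, smul_eq_mul, hu, e, hw', S.symm w' w]
  match_scalars <;> field_simp <;> ring

theorem eLin_zero (u x : ι → F) : S.eLin u 0 x = x := by simp [eLin_apply]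

theorem eLin_inv {u w : ι → F} (hu : S.h u u = 0) (hw : S.h w u = 0) (x : ι → F) :
    S.eLin u w (S.eLin u (-w) x) = x := by
  rw [S.eLin_comp hu hw (by simp [hw]), add_neg_cancel, eLin_zero]

open Classical in
/-- The unipotent element of a singular vector `u` and a vector `w` orthogonal to it. -/
noncomputable def E (u w : ι → F) : GL ι F :=
  if h : S.h u u = 0 ∧ S.h w u = 0 then
    ofEquiv ((LinearEquiv.ofLinearMap (S.eLin u w) (S.eLin u (-w))
      (LinearMap.ext fun x => S.eLin_inv h.1 h.2 x)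
      (LinearMap.ext fun x => by
        have := S.eLin_inv (w := -w) h.1 (by simp [h.2]) x
        rwa [neg_neg] at this)).restrictScalars F)
  else 1

variable {S} {u u' w w' : ι → F}

theorem E_mulVec (hu : S.h u u = 0) (hw : S.h w u = 0) (x : ι → F) :
    (S.E u w : Matrix ι ι F) *ᵥ x = x + S.h x u • w - (S.h x w + S.h w w / 2 * S.h x u) • u := by
  rw [E, dif_pos ⟨hu, hw⟩, ofEquiv_mulVec]
  exact S.eLin_apply u w x

theorem E_lin (u w : ι → F) : Lin K (S.E u w) := by
  intro c x
  by_cases h : S.h u u = 0 ∧ S.h w u = 0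
  · rw [E_mulVec h.1 h.2, E_mulVec h.1 h.2, ← S.eLin_apply, ← S.eLin_apply, map_smul]
  · simp [E, dif_neg h]

theorem E_add (hu : S.h u u = 0) (hw : S.h w u = 0) (hw' : S.h w' u = 0) :
    S.E u w * S.E u w' = S.E u (w + w') := gl_ext fun x => by
  rw [gl_mul_mulVec, E_mulVec hu hw', ← S.eLin_apply, E_mulVec hu hw, ← S.eLin_apply,
    E_mulVec hu (by simp [hw, hw']), ← S.eLin_apply, S.eLin_comp hu hw hw']

theorem E_zero (hu : S.h u u = 0) : S.E u 0 = 1 := gl_ext fun x => by
  rw [E_mulVec hu (by simp), Units.val_one, one_mulVec]; simp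

theorem E_neg (hu : S.h u u = 0) (hw : S.h w u = 0) : (S.E u w)⁻¹ = S.E u (-w) := by
  refine inv_eq_of_mul_eq_one_right ?_
  rw [E_add hu hw (by simp [hw]), add_neg_cancel, E_zero hu]

theorem E_iso (u w : ι → F) : S.E u w ∈ Cfsg.isometryGroup F S.Q := by
  by_cases h : S.h u u = 0 ∧ S.h w u = 0
  · rw [E, dif_pos h]
    refine S.ofEquiv_iso fun x => ?_
    show S.h (S.eLin u w x) (S.eLin u w x) = S.h x x
    have h2 := S.twoK
    have e : S.h u w = 0 := (S.symm u w).trans h.2
    simp only [eLin_apply, map_add, map_sub, map_smul, LinearMap.add_apply, LinearMap.sub_apply,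
      LinearMap.smul_apply, smul_eq_mul, h.1, h.2, e, S.symm u x, S.symm w x]
    field_simp
    ring
  · rw [E, dif_neg h]; exact one_mem _

variable (S)

/-- `-1` on the middle space of a frame, and the scalings of its two lines. -/
noncomputable def scalLin (u u' : ι → F) (a e b : K) : (ι → F) →ₗ[K] (ι → F) :=
  e • LinearMap.id + ((a - e) • S.h.flip u').smulRight u + ((b - e) • S.h.flip u).smulRight u'

variable {S}

theorem scalLin_apply (a e b : K) (x : ι → F) :
    S.scalLin u u' a e b x = (a * S.h x u') • u + e • S.proj u u' x + (b * S.h x u) • u' := by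
  simp only [scalLin, proj, LinearMap.add_apply, LinearMap.smul_apply, LinearMap.id_apply,
    LinearMap.smulRight_apply, LinearMap.BilinForm.flip_apply, smul_eq_mul, smul_sub]
  module

theorem Frame.scalLin_comp (P : S.Frame u u') (a e b a' e' b' : K) (x : ι → F) :
    S.scalLin u u' a e b (S.scalLin u u' a' e' b' x) = S.scalLin u u' (a * a') (e * e') (b * b') x := by
  have hp := P.proj_mem x
  rw [scalLin_apply (x := S.scalLin u u' a' e' b' x), scalLin_apply, scalLin_apply]
  simp only [proj, map_add, map_smul, LinearMap.add_apply, LinearMap.smul_apply, smul_eq_mul,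
    P.uu, P.uu', P.pair, P.pair', hp.1, hp.2, map_sub, LinearMap.sub_apply]
  match_scalars <;> ring

theorem Frame.scalLin_one (_P : S.Frame u u') (x : ι → F) : S.scalLin u u' 1 1 1 x = x := by
  rw [scalLin_apply, one_mul, one_smul, one_mul, ← decomp]

/-- A semisimple element of a frame. -/
noncomputable def Frame.scal (P : S.Frame u u') (a e : K) (ha : a ≠ 0) (he : e * e = 1) : GL ι F :=
  ofEquiv ((LinearEquiv.ofLinearMap (S.scalLin u u' a e a⁻¹) (S.scalLin u u' a⁻¹ e a)
    (LinearMap.ext fun x => by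
      rw [LinearMap.comp_apply, P.scalLin_comp, mul_inv_cancel₀ ha, he, inv_mul_cancel₀ ha, P.scalLin_one,
        LinearMap.id_apply])
    (LinearMap.ext fun x => by
      rw [LinearMap.comp_apply, P.scalLin_comp, mul_inv_cancel₀ ha, he, inv_mul_cancel₀ ha, P.scalLin_one,
        LinearMap.id_apply])).restrictScalars F)

theorem Frame.scal_mulVec (P : S.Frame u u') (a e : K) (ha : a ≠ 0) (he : e * e = 1) (x : ι → F) :
    (P.scal a e ha he : Matrix ι ι F) *ᵥ x =
      (a * S.h x u') • u + e • S.proj u u' x + (a⁻¹ * S.h x u) • u' := by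
  rw [Frame.scal, ofEquiv_mulVec]
  exact scalLin_apply _ _ _ x

theorem Frame.scal_iso (P : S.Frame u u') (a e : K) (ha : a ≠ 0) (he : e * e = 1) :
    P.scal a e ha he ∈ Cfsg.isometryGroup F S.Q := by
  refine S.ofEquiv_iso fun x => ?_
  show S.h (S.scalLin u u' a e a⁻¹ x) (S.scalLin u u' a e a⁻¹ x) = S.h x x
  rw [scalLin_apply]
  conv_rhs => rw [decomp (S := S) (u := u) (u' := u') x]
  have hp := P.proj_mem x
  generalize S.proj u u' x = m at hp ⊢
  have e1 : S.h u m = 0 := (S.symm u m).trans hp.1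
  have e2 : S.h u' m = 0 := (S.symm u' m).trans hp.2
  simp only [map_add, map_smul, LinearMap.add_apply, LinearMap.smul_apply, smul_eq_mul, P.uu, P.uu', P.pair,
    P.pair', hp.1, hp.2, e1, e2]
  field_simp
  linear_combination (a ^ 2 * S.h m m) * he

/-- The unipotent element of a frame lies in `Ω`. -/
theorem Frame.E_mem (P : S.Frame u u') (hw : w ∈ S.mid u u') : S.E u w ∈ Cfsg.Geo.omegaGL S.Q := by
  have h2 := S.twoK
  set w₀ : ι → F := (-(1 / 2) : K) • w with hw₀
  have hw0 : w₀ ∈ S.mid u u' := (S.mid u u').smul_mem _ hw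
  set τ := P.scal 1 (-1) one_ne_zero (by ring) with hτ
  have key : τ * S.E u w₀ * τ⁻¹ * (S.E u w₀)⁻¹ = S.E u w := by
    rw [mul_inv_eq_iff_eq_mul, mul_inv_eq_iff_eq_mul, E_add P.uu hw.1 hw0.1]
    refine gl_ext fun x => ?_
    rw [gl_mul_mulVec, gl_mul_mulVec, P.scal_mulVec, E_mulVec P.uu hw0.1, P.scal_mulVec,
      E_mulVec P.uu (by simp [hw.1, hw0.1])]
    have hp := P.proj_mem x
    have ew : S.h u w = 0 := (S.symm u w).trans hw.1
    have ew' : S.h u' w = 0 := (S.symm u' w).trans hw.2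
    simp only [hw₀, proj, map_add, map_sub, map_smul, LinearMap.add_apply, LinearMap.sub_apply,
      LinearMap.smul_apply, smul_eq_mul, P.uu, P.uu', P.pair, P.pair', hw.1, hw.2, ew, ew', inv_one]
    match_scalars <;> field_simp <;> ring
  rw [← key]
  exact S.commutator_mem_omega (P.scal_iso _ _ _ _) (E_iso _ _)

/-- The exchange of the two vectors of a frame. -/
noncomputable def Frame.swap (P : S.Frame u u') : GL ι F :=
  ofEquiv ((LinearEquiv.ofInvolutive
    (LinearMap.id + (S.h.flip u - S.h.flip u').smulRight (u - u'))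
    (fun x => by
      simp only [LinearMap.add_apply, LinearMap.id_apply, LinearMap.smulRight_apply, LinearMap.sub_apply,
        LinearMap.BilinForm.flip_apply, map_add, map_sub, map_smul, P.uu, P.uu', P.pair, P.pair', smul_eq_mul]
      module)).restrictScalars F)

theorem Frame.swap_mulVec (P : S.Frame u u') (x : ι → F) :
    (P.swap : Matrix ι ι F) *ᵥ x = x + (S.h x u - S.h x u') • (u - u') := by
  rw [Frame.swap, ofEquiv_mulVec]
  rfl

theorem Frame.swap_iso (P : S.Frame u u') : P.swap ∈ Cfsg.isometryGroup F S.Q := by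
  refine S.ofEquiv_iso fun x => ?_
  show S.h (x + (S.h x u - S.h x u') • (u - u')) (x + (S.h x u - S.h x u') • (u - u')) = S.h x x
  simp only [map_add, map_sub, map_smul, LinearMap.add_apply, LinearMap.sub_apply, LinearMap.smul_apply,
    smul_eq_mul, P.uu, P.uu', P.pair, P.pair', S.symm u x, S.symm u' x]
  ring

/-- Squares act on a frame inside `Ω`. -/
theorem Frame.exists_torus (P : S.Frame u u') (a : K) (ha : a ≠ 0) :
    ∃ d ∈ Cfsg.Geo.omegaGL S.Q, Lin K d ∧ (d : Matrix ι ι F) *ᵥ u = (a * a) • u ∧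
      (d : Matrix ι ι F) *ᵥ u' = (a * a)⁻¹ • u' ∧ ∀ m ∈ S.mid u u', (d : Matrix ι ι F) *ᵥ m = m := by
  set D := P.scal a 1 ha (one_mul 1) with hD
  have key : D * P.swap * D⁻¹ * P.swap⁻¹ = P.scal (a * a) 1 (mul_ne_zero ha ha) (one_mul 1) := by
    rw [mul_inv_eq_iff_eq_mul, mul_inv_eq_iff_eq_mul]
    refine gl_ext fun x => ?_
    rw [gl_mul_mulVec, gl_mul_mulVec, gl_mul_mulVec, P.swap_mulVec, P.scal_mulVec, P.scal_mulVec,
      P.swap_mulVec, P.scal_mulVec]
    simp only [proj, map_add, map_sub, map_smul, LinearMap.add_apply, LinearMap.sub_apply, LinearMap.smul_apply,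
      smul_eq_mul, P.uu, P.uu', P.pair, P.pair', one_smul]
    match_scalars <;> field_simp <;> ring
  refine ⟨_, key ▸ S.commutator_mem_omega (P.scal_iso _ _ _ _) P.swap_iso, fun c x => ?_, ?_, ?_, fun m hm => ?_⟩
  · rw [Frame.scal, ofEquiv_mulVec, ofEquiv_mulVec]
    exact (S.scalLin u u' (a * a) 1 (a * a)⁻¹).map_smul c x
  · rw [P.scal_mulVec]; simp [proj, P.uu, P.pair]
  · rw [P.scal_mulVec]; simp [proj, P.uu', P.pair']
  · rw [P.scal_mulVec]; simp [proj, hm.1, hm.2]

/-- An element of `Ω` exchanging the lines of a frame and preserving the middle space. -/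
theorem Frame.exists_weyl (P : S.Frame u u') :
    ∃ d ∈ Cfsg.Geo.omegaGL S.Q, Lin K d ∧ (∃ c : K, c ≠ 0 ∧ (d : Matrix ι ι F) *ᵥ u = c • u') ∧
      (∃ c : K, c ≠ 0 ∧ (d : Matrix ι ι F) *ᵥ u' = c • u) ∧
      ∀ m ∈ S.mid u u', (d : Matrix ι ι F) *ᵥ m ∈ S.mid u u' := by
  obtain ⟨z, hz, he⟩ := P.exists_aniso
  have h2 := S.twoK
  set e := S.h z z with he'
  set z' : ι → F := (2 / e) • z with hz'
  have hzm : z' ∈ S.mid u' u := ⟨((S.mid u u').smul_mem _ hz).2, ((S.mid u u').smul_mem _ hz).1⟩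
  set d := S.E u z * S.E u' z' * S.E u z
  have hd : ∀ x, (d : Matrix ι ι F) *ᵥ x =
      (-(e / 2) * S.h x u) • u + (S.proj u u' x - (2 * S.h x z / e) • z) + (-(2 / e) * S.h x u') • u' := by
    intro x
    rw [gl_mul_mulVec, gl_mul_mulVec, E_mulVec P.uu hz.1, E_mulVec P.uu' hzm.1, E_mulVec P.uu hz.1]
    simp only [hz', proj, map_add, map_sub, map_smul, LinearMap.add_apply, LinearMap.sub_apply,
      LinearMap.smul_apply, smul_eq_mul, ← he', P.uu, P.uu', P.pair, P.pair', hz.1, hz.2,
      (S.symm u z).trans hz.1, (S.symm u' z).trans hz.2]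
    match_scalars <;> field_simp <;> ring
  refine ⟨d, mul_mem (mul_mem (P.E_mem hz) (P.symm.E_mem hzm)) (P.E_mem hz),
    lin_mul (lin_mul (E_lin _ _) (E_lin _ _)) (E_lin _ _), ⟨-(2 / e), by simp [he, h2], ?_⟩,
    ⟨-(e / 2), by simp [he, h2], ?_⟩, fun m hm => ?_⟩
  · rw [hd]; simp [proj, P.uu, P.pair, (S.symm u z).trans hz.1]
  · rw [hd]; simp [proj, P.uu', P.pair', (S.symm u' z).trans hz.2]
  · rw [hd, hm.1, hm.2]
    simp only [mul_zero, zero_smul, zero_add, add_zero]
    exact (S.mid u u').sub_mem (P.proj_mem m) ((S.mid u u').smul_mem _ hz)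

end Setting

end Cfsg.Agent.Lib.OrthExtOdd
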