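import Cfsg.Agent.Lib.OrthExtOdd.Core
import Cfsg.Agent.Lib.Subspaces.OrthSingular

/-!
Root elements for all alternating maps on all singular lines generate `Ω`.
Owner: helper93.
-/

set_option autoImplicit false
set_option linter.unusedSectionVars false
set_option linter.style.haveILetI false

namespace Cfsg.Agent.Lib.OrthExtOdd

open Matrix Module Cfsg.Agent.Lib.Subspaces.Transvection Cfsg.Agent.Lib.Subspaces.FormVec
  Cfsg.Agent.Lib.Subspaces.OrthForm Cfsg.Agent.Lib.Subspaces.OmegaGL Cfsg.Agent.Lib.Subspaces.OrthLines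
  Cfsg.Agent.Lib.Subspaces.OrthSingular Cfsg.Agent.Lib.K41.ExtForm

variable {ι : Type} [Fintype ι] [DecidableEq ι] {F K : Type*} [Field F] [Field K] [Algebra F K]
  [Module K (ι → F)] [IsScalarTower F K (ι → F)] [Finite F] [Finite K]

/-- Skew for the trace pairing. -/
def IsSkew (τ : Module.End F K) : Prop :=
  ∀ a b, Algebra.trace F K (τ a * b) + Algebra.trace F K (a * τ b) = 0

/-- The skew map `y ↦ tr (a y) b − tr (b y) a`. -/
noncomputable def wedge (a b : K) : Module.End F K :=
  ((Algebra.trace F K).comp (LinearMap.mulLeft F a)).smulRight b -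
    ((Algebra.trace F K).comp (LinearMap.mulLeft F b)).smulRight a

theorem wedge_apply (a b y : K) :
    wedge (F := F) a b y = Algebra.trace F K (a * y) • b - Algebra.trace F K (b * y) • a := by
  simp [wedge]

theorem wedge_skew (a b : K) : IsSkew (wedge (F := F) a b) := fun x y => by
  simp only [wedge_apply, sub_mul, mul_sub, smul_mul_assoc, mul_smul_comm, map_sub, map_smul, smul_eq_mul,
    mul_comm x]
  ring

theorem trace_smul_apply (t : F) (x y : K) :
    Algebra.trace F K ((t • x) * y) = t * Algebra.trace F K (x * y) := by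
  rw [smul_mul_assoc, map_smul, smul_eq_mul]

namespace Setting

variable {S : Setting F K ι} {u u' : ι → F} {M : Subgroup (GL ι F)}

theorem B_smul_smul (x y : ι → F) (a b : K) :
    QuadraticMap.polar S.Q (a • x) (b • y) = Algebra.trace F K (a * (b * S.h x y)) := by
  rw [← S.trace]
  congr 1
  simp [mul_left_comm]

theorem Q_smul_singular (hu : S.h u u = 0) (a : K) : S.Q (a • u) = 0 :=
  S.Q_zero_of (by simp [hu])

/-- Long root elements inside a singular line. -/
theorem rt_wedge (hu : S.h u u = 0) (a b : K) :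
    S.rt u (wedge a b) = sieg S.Q (a • u) (b • u) := gl_ext fun x => by
  have hab : QuadraticMap.polar S.Q (b • u) (a • u) = 0 := by rw [B_smul_smul, hu]; simp
  rw [rt_mulVec hu, sieg_mulVec S.hQ (Q_smul_singular hu a) hab, Q_smul_singular hu b, wedge_apply]
  have e : ∀ c : K, QuadraticMap.polar S.Q x (c • u) = Algebra.trace F K (c * S.h x u) := fun c => by
    rw [← S.trace, map_smul, smul_eq_mul]
  rw [e, e, sub_smul, smul_assoc, smul_assoc]
  module

/-- The hypothesis: every root element lies in `M`. -/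
def AllRoots (S : Setting F K ι) (M : Subgroup (GL ι F)) : Prop :=
  ∀ u u', S.Frame u u' → ∀ τ : Module.End F K, IsSkew τ → S.rt u τ ∈ M

/-- A multiple of a singular vector is a full centre. -/
theorem Frame.full (P : S.Frame u u') (hall : S.AllRoots M) (hMS : M ≤ Cfsg.Geo.omegaGL S.Q) {a : K}
    (ha : a ≠ 0) : Full S.Q M (a • u) := by
  haveI : FiniteDimensional F K := Module.Finite.of_finite
  have hQ := S.hQ
  have hb := hQ.polar_bilinear
  have hy := Q_smul_singular (S := S) P.uu a
  let Pz : (ι → F) → Prop := fun z => QuadraticMap.polar S.Q z (a • u) = 0 ∧ sieg S.Q (a • u) z ∈ M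
  have hadd : ∀ {v w}, Pz v → Pz w → Pz (v + w) := fun {v w} hv hw =>
    ⟨by rw [hb.add_left, hv.1, hw.1, add_zero],
      by rw [sieg_add_right hQ hy hv.1 hw.1]; exact M.mul_mem hv.2 hw.2⟩
  have hneg : ∀ {v}, Pz v → Pz (-v) := fun {v} hv => by
    have h1 : QuadraticMap.polar S.Q (-v) (a • u) = 0 := by
      rw [← neg_one_smul F v, hb.smul_left, hv.1, mul_zero]
    refine ⟨h1, ?_⟩
    have h0 : sieg S.Q (a • u) 0 = 1 := gl_ext fun x => by
      rw [sieg_mulVec hQ hy (form_zero_left (bil hQ) _), Units.val_one, one_mulVec, zero_right hQ, Q_zero hQ]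
      simp
    have h2 := sieg_add_right hQ hy h1 hv.1
    rw [neg_add_cancel, h0] at h2
    rw [eq_inv_of_mul_eq_one_left h2.symm]
    exact M.inv_mem hv.2
  have hline : ∀ k : K, Pz (k • u) := fun k =>
    ⟨by rw [B_smul_smul, P.uu]; simp, rt_wedge (S := S) P.uu a k ▸ hall u u' P _ (wedge_skew _ _)⟩
  -- vectors of the lines meeting `u`
  have hmeet : ∀ v, S.Frame u v → ∀ a' : K, Algebra.trace F K (a * a') = 0 → Pz (a' • v) := by
    intro v Pv a' ha'
    rcases eq_or_ne a' 0 with rfl | ha0
    · simpa using hline 0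
    obtain ⟨b', hb', hbn⟩ : ∃ b', Algebra.trace F K (a * b') = 0 ∧ ∀ t : F, b' ≠ t • a' := by
      by_contra h
      push Not at h
      have hle : LinearMap.ker ((Algebra.trace F K).comp (LinearMap.mulLeft F a)) ≤ Submodule.span F {a'} :=
        fun z hz => by
          obtain ⟨t, ht⟩ := h z (by simpa using hz)
          exact Submodule.mem_span_singleton.2 ⟨t, ht.symm⟩
      have h1 := Submodule.finrank_mono hle
      rw [finrank_span_singleton ha0] at h1
      have h2 := ((Algebra.trace F K).comp (LinearMap.mulLeft F a)).finrank_range_add_finrank_ker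
      have h3 := Submodule.finrank_le (LinearMap.range ((Algebra.trace F K).comp (LinearMap.mulLeft F a)))
      rw [Module.finrank_self] at h3
      have := S.three_le
      omega
    obtain ⟨b, hb1, hb2⟩ : ∃ b, Algebra.trace F K (b * a') = 0 ∧ Algebra.trace F K (b * b') = 1 := by
      obtain ⟨b₀, hb₀⟩ : ∃ b₀, Algebra.trace F K (b₀ * a') ≠ 0 := by
        by_contra h
        push Not at h
        exact ha0 (trace_ext (F := F) fun c => by rw [mul_zero, map_zero, h])
      set t := Algebra.trace F K (b₀ * b') / Algebra.trace F K (b₀ * a')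
      obtain ⟨y, hy⟩ : ∃ y, Algebra.trace F K (y * b') ≠ t * Algebra.trace F K (y * a') := by
        by_contra h
        push Not at h
        exact hbn t (trace_ext (F := F) fun c => by rw [h, mul_smul_comm, map_smul, smul_eq_mul])
      set d := y - (Algebra.trace F K (y * a') / Algebra.trace F K (b₀ * a')) • b₀ with hd
      have hd1 : Algebra.trace F K (d * a') = 0 := by
        rw [hd, sub_mul, map_sub, trace_smul_apply, div_mul_cancel₀ _ hb₀, sub_self]
      have hd2 : Algebra.trace F K (d * b') ≠ 0 := by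
        rw [hd, sub_mul, map_sub, trace_smul_apply, sub_ne_zero]
        refine fun e => hy (e.trans ?_)
        simp only [t]
        ring
      exact ⟨(Algebra.trace F K (d * b'))⁻¹ • d, by rw [trace_smul_apply, hd1, mul_zero],
        by rw [trace_smul_apply, inv_mul_cancel₀ hd2]⟩
    have hgM : sieg S.Q (a' • v) (b' • v) ∈ M :=
      rt_wedge (S := S) Pv.uu' a' b' ▸ hall v u Pv.symm _ (wedge_skew _ _)
    have hiso := omega_isometry hQ (hMS hgM)
    have hg : ∀ k : K, (sieg S.Q (a' • v) (b' • v) : Matrix ι ι F) *ᵥ (k • u) = k • u +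
        Algebra.trace F K (k * a') • b' • v + (-Algebra.trace F K (k * b')) • a' • v := fun k => by
      rw [sieg_mulVec hQ (Q_smul_singular Pv.uu' a') (by rw [B_smul_smul, Pv.uu']; simp), B_smul_smul,
        B_smul_smul, Pv.pair, mul_one, mul_one, Q_smul_singular Pv.uu' b', zero_mul, sub_zero]
    have hfix : (sieg S.Q (a' • v) (b' • v) : Matrix ι ι F) *ᵥ (a • u) = a • u := by
      rw [hg, ha', hb']; simp
    have h1 : Pz ((sieg S.Q (a' • v) (b' • v) : Matrix ι ι F) *ᵥ (b • u)) := by
      have h2 : QuadraticMap.polar S.Q ((sieg S.Q (a' • v) (b' • v) : Matrix ι ι F) *ᵥ (b • u)) (a • u) = 0 := by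
        conv_lhs => rw [← hfix]
        rw [B_map hiso, (hline b).1]
      refine ⟨h2, ?_⟩
      have h3 := M.mul_mem (M.mul_mem hgM (hline b).2) (M.inv_mem hgM)
      rwa [conj_sieg hQ hiso hy (hline b).1, hfix] at h3
    have h4 := hneg (hadd h1 (hneg (hline b)))
    rw [hg, hb1, hb2] at h4
    convert h4 using 1
    module
  obtain ⟨a₁, ha₁, ha₁0⟩ : ∃ a₁, Algebra.trace F K (a * a₁) = 0 ∧ a₁ ≠ 0 := by
    have h2 := ((Algebra.trace F K).comp (LinearMap.mulLeft F a)).finrank_range_add_finrank_ker
    have h3 := Submodule.finrank_le (LinearMap.range ((Algebra.trace F K).comp (LinearMap.mulLeft F a)))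
    rw [Module.finrank_self] at h3
    obtain ⟨z, hz, hz0⟩ := Submodule.exists_mem_ne_zero_of_ne_bot
      (p := LinearMap.ker ((Algebra.trace F K).comp (LinearMap.mulLeft F a))) fun hb' => by
        rw [hb', finrank_bot] at h2
        have := S.three_le
        omega
    exact ⟨z, by simpa using hz, hz0⟩
  have hmid : ∀ w ∈ S.mid u u', Pz w := by
    intro w hw
    set w₁ := a₁⁻¹ • w with hw₁
    have hw₁m : w₁ ∈ S.mid u u' := (S.mid u u').smul_mem _ hw
    set c := S.h w₁ w₁ / 2
    have Pv : S.Frame u (u' + w₁ - c • u) := by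
      refine ⟨P.uu, ?_, ?_⟩
      · simp only [map_add, map_sub, map_smul, LinearMap.add_apply, LinearMap.sub_apply, LinearMap.smul_apply,
          smul_eq_mul, P.uu, P.uu', P.pair, P.pair', hw₁m.1, hw₁m.2, (S.symm u w₁).trans hw₁m.1,
          (S.symm u' w₁).trans hw₁m.2]
        simp only [c]
        field_simp [S.twoK]
        ring
      · simp [P.uu, P.pair, (S.symm u w₁).trans hw₁m.1]
    have h := hadd (hadd (hmeet _ Pv a₁ ha₁) (hneg (hmeet _ P a₁ ha₁))) (hline (a₁ * c))
    convert h using 1
    rw [hw₁, smul_sub, smul_add, smul_smul, smul_smul, mul_inv_cancel₀ ha₁0, one_smul]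
    abel
  refine ⟨hy, fun z hz => ?_⟩
  have hzu : Algebra.trace F K (a * S.h z u) = 0 := by
    rw [← hz, ← S.trace, map_smul, smul_eq_mul]
  have h := hadd (hadd (hline (S.h z u')) (hmid _ (P.proj_mem z))) (hmeet _ P _ hzu)
  rw [← decomp] at h
  exact h.2

/-- All root elements generate `Ω`. -/
theorem omega_le_of_allRoots (hMS : M ≤ Cfsg.Geo.omegaGL S.Q) (hall : S.AllRoots M) :
    Cfsg.Geo.omegaGL S.Q ≤ M := by
  haveI : FiniteDimensional F K := Module.Finite.of_finite
  haveI : FiniteDimensional K (ι → F) := Module.Finite.of_finite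
  have hb := S.hQ.polar_bilinear
  obtain ⟨u, u', P⟩ := S.exists_frame
  obtain ⟨c, hc⟩ : ∃ c : K, Algebra.trace F K c ≠ 0 := by
    by_contra h
    push Not at h
    exact one_ne_zero (α := K) (trace_ext (F := F) fun a => by rw [mul_zero, map_zero, h])
  have hc0 : c ≠ 0 := fun e => hc (by rw [e, map_zero])
  set y := (1 : K) • u with hy0
  set y' := c • u' with hy'0
  have hy : Full S.Q M y := P.full hall hMS one_ne_zero
  have hy' : Full S.Q M y' := P.symm.full hall hMS hc0
  have hyp : QuadraticMap.polar S.Q y' y ≠ 0 := by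
    rw [hy0, hy'0, B_smul_smul, P.pair']; simpa using hc
  have hyp' : QuadraticMap.polar S.Q y y' ≠ 0 := by rwa [B_comm]
  have hn5 : 5 ≤ Fintype.card ι := by
    have h := Module.finrank_mul_finrank F K (ι → F)
    rw [finrank_fintype_fun_eq_card] at h
    have := S.dim
    have := S.three_le
    nlinarith
  have hmove : ∀ p r z, Full S.Q M p → Full S.Q M r → S.Q z = 0 →
      QuadraticMap.polar S.Q r p ≠ 0 → QuadraticMap.polar S.Q z p ≠ 0 → Full S.Q M z := by
    intro p r z hp hr hz hrp hzp
    have h := full_move S.hQ hp (full_smul S.hQ hr (QuadraticMap.polar S.Q r p)⁻¹)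
      (z := (QuadraticMap.polar S.Q z p)⁻¹ • z) (by rw [S.hQ.smul, hz, mul_zero])
      (by rw [hb.smul_left, inv_mul_cancel₀ hrp]) (by rw [hb.smul_left, inv_mul_cancel₀ hzp])
    have h' := full_smul S.hQ h (QuadraticMap.polar S.Q z p)
    rwa [smul_inv_smul₀ hzp] at h'
  refine omega_le_of_full S.hQ hn5 fun z hz => ?_
  rcases eq_or_ne z 0 with rfl | hz0
  · simpa using full_smul S.hQ hy 0
  by_cases hzy : QuadraticMap.polar S.Q z y = 0
  swap
  · exact hmove y y' z hy hy' hz hyp hzy
  by_cases hzy' : QuadraticMap.polar S.Q z y' = 0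
  swap
  · exact hmove y' y z hy' hy hz hyp' hzy'
  have hyy : QuadraticMap.polar S.Q y y = 0 := by rw [B_self S.hQ, hy.1, mul_zero]
  have hyy' : QuadraticMap.polar S.Q y' y' = 0 := by rw [B_self S.hQ, hy'.1, mul_zero]
  obtain ⟨t, ht, htz⟩ := dual S.hQ (S := Submodule.span F {y, y'}) (z := z) fun hm => by
    obtain ⟨p, r, hpr⟩ := Submodule.mem_span_pair.mp hm
    rw [← hpr, hb.add_left, hb.smul_left, hb.smul_left, hyy, mul_zero, zero_add] at hzy
    rw [← hpr, hb.add_left, hb.smul_left, hb.smul_left, hyy', mul_zero, add_zero] at hzy'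
    rw [(mul_eq_zero.1 hzy).resolve_right hyp, (mul_eq_zero.1 hzy').resolve_right hyp'] at hpr
    exact hz0 (by simpa using hpr.symm)
  set z1 := t + y' + (-S.Q (t + y') / QuadraticMap.polar S.Q y' y) • y with hz1
  have hty : QuadraticMap.polar S.Q t y = 0 := ht y (Submodule.subset_span (by simp))
  have h1y : QuadraticMap.polar S.Q z1 y = QuadraticMap.polar S.Q y' y := by
    rw [hz1, hb.add_left, hb.add_left, hb.smul_left, hty, hyy]; ring
  have h1z : QuadraticMap.polar S.Q z1 z = 1 := by
    rw [hz1, hb.add_left, hb.add_left, hb.smul_left, htz, B_comm y' z, hzy', B_comm y z, hzy]; ring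
  have h1Q : S.Q z1 = 0 := by
    rw [hz1, Q_add_smul S.hQ, hy.1, hb.add_left, hty]
    field_simp; ring
  have hz1F : Full S.Q M z1 := hmove y y' z1 hy hy' h1Q hyp (by rw [h1y]; exact hyp)
  exact hmove z1 y z hz1F hy hz (by rw [B_comm, h1y]; exact hyp) (by rw [B_comm, h1z]; exact one_ne_zero)

/-- `Ω` has elements which are not semilinear. -/
theorem exists_not_semi (S : Setting F K ι) : ∃ g ∈ Cfsg.Geo.omegaGL S.Q, ¬ Semi K g := by
  haveI : FiniteDimensional F K := Module.Finite.of_finite
  haveI : FiniteDimensional K (ι → F) := Module.Finite.of_finite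
  obtain ⟨u, u', P⟩ := S.exists_frame
  have hn5 : 5 ≤ Fintype.card ι := by
    have h := Module.finrank_mul_finrank F K (ι → F)
    rw [finrank_fintype_fun_eq_card] at h
    have := S.dim
    have := S.three_le
    nlinarith
  obtain ⟨b, hb⟩ := exists_not_range (F := F) (K := K) S.prime
  refine ⟨_, sieg_mem_omega S.hQ hn5 (Q_smul_singular P.uu (1 : K))
    (show QuadraticMap.polar S.Q (b • u) ((1 : K) • u) = 0 by rw [B_smul_smul, P.uu]; simp), fun hs => ?_⟩
  rw [← rt_wedge P.uu] at hs
  obtain ⟨σ, hσ⟩ := S.exists_auto hs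
  have hfix : ∀ c : K, (S.rt u (wedge 1 b) : Matrix ι ι F) *ᵥ (c • u) = c • u := fun c => by
    rw [rt_mulVec P.uu]; simp [P.uu, wedge_apply]
  have hσ1 : ∀ c, σ c = c := fun c => by
    refine smul_left_injective K P.ne_zero ?_
    show σ c • u = c • u
    have h := hσ c u
    have h1 := hfix 1
    rw [one_smul] at h1
    rw [hfix, h1] at h
    exact h.symm
  have hlin : ∀ c, wedge (F := F) 1 b c = c * wedge (F := F) 1 b 1 := fun c => by
    have h := hσ c u'
    rw [hσ1, rt_mulVec P.uu, rt_mulVec P.uu, map_smul, LinearMap.smul_apply, P.pair', smul_eq_mul, mul_one,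
      smul_add, smul_smul] at h
    exact smul_left_injective K P.ne_zero (add_left_cancel h)
  have h0 : wedge (F := F) 1 b 1 = 0 := trace_ext (F := F) fun c => by
    have h := wedge_skew (F := F) (1 : K) b c 1
    rw [hlin c, mul_one, ← two_mul] at h
    rw [mul_zero, map_zero]
    exact (mul_eq_zero.1 h).resolve_left S.two
  have hker : ∀ c, Algebra.trace F K c • b = Algebra.trace F K (b * c) • (1 : K) := fun c => by
    have h := hlin c
    rw [h0, mul_zero, wedge_apply, one_mul, sub_eq_zero] at h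
    exact h
  obtain ⟨c, hc⟩ : ∃ c : K, Algebra.trace F K c ≠ 0 := by
    by_contra h
    push Not at h
    exact one_ne_zero (α := K) (trace_ext (F := F) fun a => by rw [mul_zero, map_zero, h])
  refine hb ⟨(Algebra.trace F K c)⁻¹ * Algebra.trace F K (b * c), ?_⟩
  rw [Algebra.algebraMap_eq_smul_one, mul_smul, ← hker, inv_smul_smul₀ hc]

end Setting

end Cfsg.Agent.Lib.OrthExtOdd
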