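import Cfsg.Agent.Lib.OrthExtOdd.Twist
import Cfsg.Agent.Lib.OrthExtOdd.Blocks
import Cfsg.Agent.Lib.OrthExtOdd.Deep
import Mathlib.RingTheory.Adjoin.Polynomial.Basic

/-!
Degree equal to the characteristic: the two root elements of `σ - σ⁻¹` give one with all twist classes.
Owner: helper93.
-/

set_option autoImplicit false
set_option linter.unusedSectionVars false
set_option linter.style.haveILetI false

namespace Cfsg.Agent.Lib.OrthExtOdd

open Matrix Module Cfsg.Agent.Lib.K41.ExtForm Cfsg.Agent.Lib.GeomSmallSp.OrthThree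
  Cfsg.Agent.Lib.GeomSmallSp.OrthThree.SLTwo

variable {F K : Type*} [Field F] [Field K] [Algebra F K] [Finite F] [Finite K]

/-- The powers of an automorphism as endomorphisms. -/
theorem toLinearMap_pow (σ : K ≃ₐ[F] K) (i : ℕ) :
    (σ ^ i).toLinearMap = (σ.toLinearMap : Module.End F K) ^ i := by
  induction i with
  | zero => rfl
  | succ i ih => rw [pow_succ, pow_succ, ← ih]; rfl

/-- No polynomial of small degree kills a generator. -/
theorem eq_zero_of_aeval_gen (hr : (finrank F K).Prime) {σ : K ≃ₐ[F] K} (hσ : σ ≠ 1) {P : Polynomial F}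
    (hd : P.natDegree < finrank F K) (h : Polynomial.aeval (σ.toLinearMap : Module.End F K) P = 0) : P = 0 := by
  rw [Polynomial.aeval_eq_sum_range' hd, Finset.sum_range] at h
  have h0 := aut_indep (F := F) (K := K) (e := fun i : Fin (finrank F K) => σ ^ i.val)
    (fun a b e => Fin.ext (pow_gen_inj hr hσ a.2 b.2 e)) (fun i => algebraMap F K (P.coeff i)) fun x => by
    have hx := LinearMap.congr_fun h x
    simp only [LinearMap.sum_apply, LinearMap.smul_apply, LinearMap.zero_apply, ← toLinearMap_pow] at hx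
    simpa [Algebra.smul_def] using hx
  ext i
  rw [Polynomial.coeff_zero]
  rcases Nat.lt_or_ge i (finrank F K) with hi | hi
  · exact (algebraMap F K).injective ((congrFun h0 ⟨i, hi⟩).trans (map_zero _).symm)
  · exact Polynomial.coeff_eq_zero_of_natDegree_lt (lt_of_lt_of_le hd hi)

/-- The powers indexed modulo the degree. -/
noncomputable def sg (σ : K ≃ₐ[F] K) (z : ZMod (finrank F K)) : K ≃ₐ[F] K := σ ^ z.val

theorem sg_natCast (hr : (finrank F K).Prime) {σ : K ≃ₐ[F] K} (hσ : σ ≠ 1) (i : ℕ) :
    sg σ (i : ZMod (finrank F K)) = σ ^ i := by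
  rw [sg, ZMod.val_natCast, ← orderOf_gen hr hσ, pow_mod_orderOf]

theorem sg_add (hr : (finrank F K).Prime) {σ : K ≃ₐ[F] K} (hσ : σ ≠ 1) (z w : ZMod (finrank F K)) :
    sg σ (z + w) = sg σ z * sg σ w := by
  haveI : NeZero (finrank F K) := ⟨hr.ne_zero⟩
  rw [← ZMod.natCast_zmod_val z, ← ZMod.natCast_zmod_val w, ← Nat.cast_add, sg_natCast hr hσ, sg_natCast hr hσ,
    sg_natCast hr hσ, pow_add]

theorem sg_injective (hr : (finrank F K).Prime) {σ : K ≃ₐ[F] K} (hσ : σ ≠ 1) : Function.Injective (sg σ) := by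
  haveI : NeZero (finrank F K) := ⟨hr.ne_zero⟩
  exact fun z w h => ZMod.val_injective _ (pow_gen_inj hr hσ (ZMod.val_lt _) (ZMod.val_lt _) h)

namespace Setting

set_option maxHeartbeats 1600000

variable {ι : Type} [Fintype ι] [DecidableEq ι] [Module K (ι → F)] [IsScalarTower F K (ι → F)]
  {S : Setting F K ι} {u u' : ι → F} {M : Subgroup (GL ι F)}

/-- The alternating map with all classes. -/
theorem Frame.exists_all_classes_nil (P : S.Frame u u') (hM : S.Over M) {σ : K ≃ₐ[F] K} (hσ : σ ≠ 1)
    (hp : CharP F (finrank F K)) {j : ℕ} (hj : 2 * j + 1 = finrank F K) (hj2 : 2 ≤ j)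
    (hu : S.rt u (twist σ 1) ∈ M) (hu' : S.rt u' (twist σ 1) ∈ M) :
    ∃ c : Fin j → K, S.rt u (∑ l, twist (σ ^ (l.val + 1)) (c l)) ∈ M ∧ ∀ l, c l ≠ 0 := by
  classical
  haveI : FiniteDimensional F K := Module.Finite.of_finite
  have hr := S.prime
  set r := finrank F K with hr'
  haveI hrp : Fact r.Prime := ⟨hr⟩
  haveI : CharP F r := hp
  haveI : NeZero r := ⟨hr.ne_zero⟩
  set sL : Module.End F K := σ.toLinearMap with hsL
  set E := Algebra.adjoin F ({sL} : Set (Module.End F K))
  letI : CommRing E := { (inferInstance : Ring E) with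
    mul_comm := fun a b => Subtype.ext ((Algebra.commute_of_mem_adjoin_singleton_of_commute a.2
      (Algebra.commute_of_mem_adjoin_self b.2).symm).symm.eq) }
  let s : E := ⟨sL, Algebra.subset_adjoin rfl⟩
  let ν : E := s - s ^ (r - 1)
  have hsr : sL ^ r = 1 := by
    rw [hsL, ← toLinearMap_pow, hr', ← orderOf_gen hr hσ, pow_orderOf_eq_one]
    rfl
  have hT : twist σ (1 : K) = (ν : Module.End F K) := by
    refine LinearMap.ext fun x => ?_
    show twist σ 1 x = (sL - sL ^ (r - 1)) x
    rw [twist_apply, one_mul, one_mul, LinearMap.sub_apply, hsL, ← toLinearMap_pow]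
    simp only [AlgEquiv.toLinearMap_apply]
    have := pow_gen_symm hr hσ (k := 1) (by omega) x
    rw [pow_one] at this
    rw [this]
  haveI : CharP E r := charP_of_injective_algebraMap (algebraMap F E).injective r
  have hsE : s ^ r = 1 := Subtype.ext (by simpa [s] using hsr)
  have hν0 : ν ^ r = 0 := by
    simp only [ν]
    rw [sub_pow_char, ← pow_mul, mul_comm (r - 1), pow_mul, hsE, one_pow, sub_self]
  have hνr : ν ^ (r - 1) ≠ 0 := by
    intro h0
    have h1 : (s ^ 2 - 1) ^ (r - 1) = 0 := by
      have e : s * ν = s ^ 2 - 1 := by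
        simp only [ν, mul_sub, ← pow_succ', show r - 1 + 1 = r by omega, hsE]
        ring
      rw [← e, mul_pow, h0, mul_zero]
    have hσ2 : σ ^ 2 ≠ 1 := fun e => by
      have := Nat.le_of_dvd (by omega) (orderOf_dvd_of_pow_eq_one e)
      rw [orderOf_gen hr hσ] at this
      omega
    have h2 := eq_zero_of_aeval_gen hr hσ2 (P := (Polynomial.X - Polynomial.C (1 : F)) ^ (r - 1))
      (by rw [Polynomial.natDegree_pow, Polynomial.natDegree_X_sub_C]; omega)
      (by
        rw [toLinearMap_pow, map_pow, map_sub, Polynomial.aeval_X, Polynomial.aeval_C, map_one]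
        exact congrArg Subtype.val h1)
    exact Polynomial.X_sub_C_ne_zero 1 (pow_eq_zero_iff (by omega) |>.1 h2)
  -- the group
  let ψ : Matrix.SpecialLinearGroup (Fin 2) E →* Matrix (Fin 2) (Fin 2) (Module.End F K) :=
    { toFun := fun g => (g : Matrix (Fin 2) (Fin 2) E).map E.val
      map_one' := by simp
      map_mul' := fun a b => by
        rw [Matrix.SpecialLinearGroup.coe_mul]
        exact Matrix.map_mul }
  set H := Subgroup.closure ({SLTwo.uu ν, ll ν} : Set (Matrix.SpecialLinearGroup (Fin 2) E))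
  have hHM : ∀ g ∈ H, P.hom ψ g ∈ M := by
    suffices H ≤ M.comap (P.hom ψ) from fun g hg => this hg
    rw [Subgroup.closure_le]
    rintro _ (rfl | rfl)
    · rw [SetLike.mem_coe, Subgroup.mem_comap, P.hom_upper ψ (τ := twist σ 1) (by
        rw [hT]; refine Matrix.ext fun a b => ?_; fin_cases a <;> fin_cases b <;> simp [ψ, coe_uu])]
      exact hu
    · rw [SetLike.mem_coe, Subgroup.mem_comap, P.hom_lower ψ (τ := twist σ 1) (by
        rw [hT]; refine Matrix.ext fun a b => ?_; fin_cases a <;> fin_cases b <;> simp [ψ, coe_ll])]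
      exact hu'
  obtain ⟨k, x, hb⟩ := exists_deep_closure (ν := ν) hj2 (by rw [hj]; exact hν0)
  set b : E := (-1 - 1) * (ν ^ (2 * j - 1) * 2 ^ k + ν ^ (2 * j) * x)
  have hbM : S.rt u (b : Module.End F K) ∈ M := by
    have := hHM _ hb
    rwa [P.hom_upper ψ (τ := (b : Module.End F K)) (by
      refine Matrix.ext fun a b' => ?_; fin_cases a <;> fin_cases b' <;> simp [ψ, coe_uu])] at this
  have h0 : ∀ m, r ≤ m → ν ^ m = 0 := fun m hm => by
    rw [← Nat.sub_add_cancel hm, pow_add, hν0, mul_zero]
  have hbν2 : b * ν ^ 2 = 0 := by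
    simp only [b]
    linear_combination ((-1 - 1) * 2 ^ k) * h0 (2 * j - 1 + 2) (by omega) + ((-1 - 1) * x) * h0 (2 * j + 2) (by omega)
  have hb0 : b ≠ 0 := by
    intro e
    have e' : b * ν = algebraMap F E ((-1 - 1) * 2 ^ k) * ν ^ (r - 1) := by
      rw [show r - 1 = 2 * j - 1 + 1 by omega, map_mul, map_sub, map_neg, map_one, map_pow, map_ofNat]
      simp only [b]
      linear_combination ((-1 - 1) * x) * h0 (2 * j + 1) (by omega)
    rw [e, zero_mul] at e'
    have hne : ((-1 : F) - 1) * 2 ^ k ≠ 0 := mul_ne_zero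
      (fun e'' => S.two (by linear_combination -e'')) (pow_ne_zero _ S.two)
    have e'' := congrArg (algebraMap F E ((( -1 : F) - 1) * 2 ^ k)⁻¹ * ·) e'.symm
    simp only [← mul_assoc, ← map_mul, inv_mul_cancel₀ hne, map_one, one_mul, mul_zero] at e''
    exact hνr e''
  -- coordinates
  obtain ⟨Pb, hPb⟩ : ∃ Pb : Polynomial F, Polynomial.aeval sL Pb = (b : Module.End F K) :=
    (Algebra.adjoin_singleton_eq_range_aeval F sL).le b.2
  let c : ZMod r → F := fun z =>
    ∑ i ∈ (Finset.range (Pb.natDegree + 1)).filter (fun i => ((i : ℕ) : ZMod r) = z), Pb.coeff i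
  have hc : ∀ y : K, (b : Module.End F K) y = ∑ z, algebraMap F K (c z) * sg σ z y := by
    intro y
    rw [← hPb, Polynomial.aeval_eq_sum_range, LinearMap.sum_apply,
      ← Finset.sum_fiberwise (Finset.range (Pb.natDegree + 1)) (fun i => ((i : ℕ) : ZMod r))]
    refine Finset.sum_congr rfl fun z _ => ?_
    simp only [c, map_sum, Finset.sum_mul]
    refine Finset.sum_congr rfl fun i hi => ?_
    rw [LinearMap.smul_apply, Algebra.smul_def, hsL, ← toLinearMap_pow, AlgEquiv.toLinearMap_apply,
      ← (Finset.mem_filter.1 hi).2, sg_natCast hr hσ]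
  have hrec : ∀ z, c (z - 2) - 2 * c z + c (z + 2) = 0 := by
    intro z
    have hν2 : ν ^ 2 = s ^ 2 - (1 + 1) + s ^ (r - 2) := by
      have e1 : s * s ^ (r - 1) = 1 := by rw [← pow_succ', show r - 1 + 1 = r by omega, hsE]
      have e2 : s ^ (r - 1) * s ^ (r - 1) = s ^ (r - 2) := by
        rw [← pow_add, show r - 1 + (r - 1) = r + (r - 2) by omega, pow_add, hsE, one_mul]
      simp only [ν]
      linear_combination e2 - 2 * e1
    have hz : ∀ y : K, ∑ z, algebraMap F K (c (z - 2) - 2 * c z + c (z + 2)) * sg σ z y = 0 := by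
      intro y
      have h := LinearMap.congr_fun (congrArg Subtype.val hbν2) y
      rw [hν2] at h
      have hval : ((s ^ 2 - (1 + 1) + s ^ (r - 2) : E) : Module.End F K) = sL ^ 2 - (1 + 1) + sL ^ (r - 2) := rfl
      rw [Subalgebra.coe_mul, hval] at h
      simp only [Module.End.mul_apply, LinearMap.add_apply, LinearMap.sub_apply, Module.End.one_apply, map_add,
        map_sub, hsL, ← toLinearMap_pow, AlgEquiv.toLinearMap_apply, ZeroMemClass.coe_zero,
        LinearMap.zero_apply] at h
      have h' : (b : Module.End F K) ((σ ^ 2) y) - 2 * (b : Module.End F K) y +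
          (b : Module.End F K) ((σ ^ (r - 2)) y) = 0 := by rw [two_mul]; exact h
      have key : ∀ i : ℕ, (b : Module.End F K) ((σ ^ i) y) =
          ∑ z, algebraMap F K (c (z - (i : ZMod r))) * sg σ z y := by
        intro i
        rw [hc, ← Equiv.sum_comp (Equiv.addRight (i : ZMod r)) fun z => algebraMap F K (c (z - (i : ZMod r))) * sg σ z y]
        refine Finset.sum_congr rfl fun z _ => ?_
        rw [Equiv.coe_addRight, add_sub_cancel_right, sg_add hr hσ, sg_natCast hr hσ, AlgEquiv.mul_apply]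
      rw [key 2, key (r - 2), hc, Finset.mul_sum, ← Finset.sum_sub_distrib, ← Finset.sum_add_distrib] at h'
      refine (Finset.sum_congr rfl fun z _ => ?_).trans h'
      rw [Nat.cast_sub (by omega), ZMod.natCast_self, zero_sub, sub_neg_eq_add, map_add, map_sub, map_mul,
        map_ofNat]
      simp only [Nat.cast_ofNat]
      ring
    have := congrFun (aut_indep (sg_injective hr hσ) _ hz) z
    exact (algebraMap F K).injective (this.trans (map_zero _).symm)
  obtain ⟨cl, hcl⟩ := exists_twist_sum S.two hr hσ hj (P.rt_mem_iso hM.le hbM)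
  -- comparison
  have hcmp : ∀ z, algebraMap F K (c z) = (∑ l : Fin j, if z = ((l.val + 1 : ℕ) : ZMod r) then cl l else 0) -
      ∑ l : Fin j, if z = ((r - (l.val + 1) : ℕ) : ZMod r) then (σ ^ (r - (l.val + 1))) (cl l) else 0 := by
    intro z
    refine sub_eq_zero.1 (congrFun (aut_indep (sg_injective hr hσ) (fun z => algebraMap F K (c z) -
      ((∑ l : Fin j, if z = ((l.val + 1 : ℕ) : ZMod r) then cl l else 0) -
      ∑ l : Fin j, if z = ((r - (l.val + 1) : ℕ) : ZMod r) then (σ ^ (r - (l.val + 1))) (cl l) else 0))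
      fun y => ?_) z)
    simp only [sub_mul, Finset.sum_sub_distrib, Finset.sum_mul, ite_mul, zero_mul]
    rw [Finset.sum_comm]
    conv_lhs => arg 2; arg 2; rw [Finset.sum_comm]
    simp only [Finset.sum_ite_eq', Finset.mem_univ, if_true, sg_natCast hr hσ]
    rw [sub_eq_zero, ← hc, ← hcl, LinearMap.sum_apply, ← Finset.sum_sub_distrib]
    refine Finset.sum_congr rfl fun l _ => ?_
    rw [twist_apply, pow_gen_symm hr hσ (by have := l.2; omega), map_mul]
  have hcast : ∀ {a b : ℕ}, a < r → b < r → (a : ZMod r) = (b : ZMod r) → a = b := fun ha hb e => by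
    have := (ZMod.natCast_eq_natCast_iff' _ _ r).1 e
    rwa [Nat.mod_eq_of_lt ha, Nat.mod_eq_of_lt hb] at this
  have hc00 : c 0 = 0 := by
    refine (algebraMap F K).injective ((hcmp 0).trans ?_)
    rw [map_zero, Finset.sum_eq_zero, Finset.sum_eq_zero, sub_zero]
    · exact fun l _ => if_neg fun e => by
        have := l.2
        have := hcast (a := 0) (b := r - (l.val + 1)) (by omega) (by omega) (by simpa using e)
        omega
    · exact fun l _ => if_neg fun e => by
        have := l.2
        have := hcast (a := 0) (b := l.val + 1) (by omega) (by omega) (by simpa using e)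
        omega
  have hlin : ∀ m : ℕ, c ((2 * m : ℕ) : ZMod r) = (m : F) * c 2 := by
    intro m
    induction m using Nat.strong_induction_on with
    | _ m ih =>
      match m with
      | 0 => simpa using hc00
      | 1 => simp
      | m + 2 =>
        have h := hrec ((2 * (m + 1) : ℕ) : ZMod r)
        have e1 : ((2 * (m + 1) : ℕ) : ZMod r) - 2 = ((2 * m : ℕ) : ZMod r) := by push_cast; ring
        have e2 : ((2 * (m + 1) : ℕ) : ZMod r) + 2 = ((2 * (m + 2) : ℕ) : ZMod r) := by push_cast; ring
        rw [e1, e2, ih m (by omega), ih (m + 1) (by omega)] at h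
        push_cast at h ⊢
        linear_combination h
  have hhalf : ∀ z : ZMod r, ∃ m : ℕ, z = ((2 * m : ℕ) : ZMod r) := fun z => by
    refine ⟨(z * (j + 1 : ℕ)).val, ?_⟩
    rw [Nat.cast_mul, ZMod.natCast_zmod_val]
    have : ((2 * (j + 1) : ℕ) : ZMod r) = 1 := by
      rw [show 2 * (j + 1) = r + 1 by omega, Nat.cast_add, ZMod.natCast_self, zero_add, Nat.cast_one]
    rw [Nat.cast_mul] at this
    linear_combination (-z) * this
  have hc2 : c 2 ≠ 0 := by
    intro e
    refine hb0 (Subtype.ext (LinearMap.ext fun y => ?_))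
    rw [hc]
    refine Finset.sum_eq_zero fun z _ => ?_
    obtain ⟨m, rfl⟩ := hhalf z
    rw [hlin, e, mul_zero, map_zero, zero_mul]
  refine ⟨cl, hcl.symm ▸ hbM, fun l hl => ?_⟩
  have hl2 := l.2
  obtain ⟨m, hm⟩ := hhalf ((l.val + 1 : ℕ) : ZMod r)
  have hz := hcmp ((l.val + 1 : ℕ) : ZMod r)
  rw [Finset.sum_eq_single l (fun i _ hi => if_neg fun e => hi (Fin.ext (by
      have := i.2
      have := hcast (by omega) (by omega) e
      omega))) (fun h => absurd (Finset.mem_univ l) h), if_pos rfl, hl,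
    Finset.sum_eq_zero (fun i _ => if_neg fun e => by
      have := i.2
      have := hcast (by omega) (by omega) e
      omega), sub_zero, hm, hlin, map_mul, mul_eq_zero] at hz
  rcases hz with hz | hz
  · have hm0 := (map_eq_zero_iff _ (algebraMap F K).injective).1 hz
    rw [CharP.cast_eq_zero_iff F r] at hm0
    have : ((l.val + 1 : ℕ) : ZMod r) = ((0 : ℕ) : ZMod r) := by
      rw [hm, Nat.cast_mul, (ZMod.natCast_eq_zero_iff _ _).2 hm0, mul_zero, Nat.cast_zero]
    have := hcast (by omega) (by omega) this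
    omega
  · exact hc2 ((map_eq_zero_iff _ (algebraMap F K).injective).1 hz)

end Setting

end Cfsg.Agent.Lib.OrthExtOdd
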