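import Cfsg.Agent.Lib.OrthExtOdd.Cubic

/-!
The normaliser of a self-adjoint field of matrices of odd prime degree is maximal in `Ω` as soon as a non-semilinear
element forces all root elements; in degree three it always does.
Owner: helper93.
-/

set_option autoImplicit false
set_option linter.unusedSectionVars false
set_option linter.style.haveILetI false

namespace Cfsg.Agent.Lib.OrthExtOdd

open Matrix Module Cfsg.Agent.Lib.Subspaces.Transvection Cfsg.Agent.Lib.Subspaces.OrthForm
  Cfsg.Agent.Lib.Subspaces.OmegaGL Cfsg.Agent.Lib.K41.ExtForm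

universe v

/-- A non-semilinear element forces all root elements, in degree `r`. -/
def Spreads (F : Type v) [Field F] [Finite F] (r : ℕ) (ι : Type) [Fintype ι] [DecidableEq ι] : Prop :=
  ∀ (K : Type v) [Field K] [Algebra F K] [Finite K] [Module K (ι → F)] [IsScalarTower F K (ι → F)],
    finrank F K = r → ∀ (S : Setting F K ι) (M : Subgroup (GL ι F)),
      S.Over M → (∃ g ∈ M, ¬ Semi K g) → S.AllRoots M

theorem spreads_three (F : Type v) [Field F] [Finite F] (ι : Type) [Fintype ι] [DecidableEq ι] :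
    Spreads F 3 ι := fun _ _ _ _ _ _ h _ _ hM hns => Setting.allRoots_cubic hM h hns

theorem maximal_of_spreads {ι : Type} [Fintype ι] [DecidableEq ι] {F : Type v} [Field F] [Finite F]
    {Q : (ι → F) → F} (hQ : Cfsg.Geo.IsNondegenerateQuadraticForm Q) (h2 : (2 : F) ≠ 0) {r : ℕ} (hr : r.Prime)
    (hr2 : r ≠ 2) (hn : 3 * r ≤ Fintype.card ι) (K : Subalgebra F (Matrix ι ι F))
    (hK : Cfsg.Geo.IsFieldSubalgebra r K) (hsa : Cfsg.Geo.IsSelfAdjointFor (QuadraticMap.polar Q) K)
    (hspread : Spreads F r ι) :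
    Cfsg.Geo.IsMaximalIn (Cfsg.Geo.omegaGL Q)
      (Cfsg.Geo.subalgebraNormalizer K ⊓ Cfsg.Geo.omegaGL Q) := by
  classical
  haveI : Nonempty ι := Fintype.card_pos_iff.1 (by have := hr.two_le; omega)
  letI : Field K := fieldOfSub hK
  letI hmod : Module K (ι → F) := subModule K
  haveI : @IsScalarTower F K (ι → F) Algebra.toSMul hmod.toSMul inferInstance :=
    ⟨fun a k x => smul_mulVec a (k : Matrix ι ι F) x⟩
  haveI : Finite K := Finite.of_injective (fun x : K => (x : Matrix ι ι F)) Subtype.val_injective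
  have hb := hQ.polar_bilinear
  let f : (ι → F) →ₗ[F] (ι → F) →ₗ[F] F := LinearMap.mk₂ F (QuadraticMap.polar Q) hb.add_left
    (fun c x v => hb.smul_left c x v) hb.add_right (fun c v x => hb.smul_right c v x)
  have hfsa : ∀ (c : K) (x y : ι → F), f (c • x) y = f x (c • y) := fun c x y => hsa _ c.2 x y
  haveI : FiniteDimensional F K := Module.Finite.of_finite
  haveI : FiniteDimensional K (ι → F) := Module.Finite.of_finite
  let h : LinearMap.BilinForm K (ι → F) := LinearMap.mk₂ K (liftForm f)
    (liftForm_add_left f) (fun c x z => liftForm_smul_left f c x z) (liftForm_add_right f)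
    (fun c x z => liftForm_smul_right hfsa c x z)
  have h3 : finrank F K = r := hK.finrank_eq
  let S : Setting F K ι :=
    { Q := Q
      hQ := hQ
      h := h
      symm := fun x y => trace_ext (F := F) fun a => by
        show Algebra.trace F K (a * liftForm f x y) = Algebra.trace F K (a * liftForm f y x)
        rw [trace_liftForm, trace_liftForm]
        exact (hsa _ a.2 x y).trans (B_comm _ _)
      trace := fun x y => trace_liftForm_one f x y
      two := h2
      prime := h3 ▸ hr
      odd := h3 ▸ hr2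
      dim := by
        have h1 := finrank_mul_finrank F K (ι → F)
        rw [h3, finrank_fintype_fun_eq_card] at h1
        have := hr.two_le
        nlinarith }
  have hsemi : ∀ g : GL ι F, g ∈ Cfsg.Geo.subalgebraNormalizer K → Semi K g := by
    intro g hg c
    obtain ⟨d, hdK, hd⟩ := semi_of_mem_normalizer hg c.2
    exact ⟨⟨d, hdK⟩, hd⟩
  have hnorm : ∀ g : GL ι F, Semi K g → g ∈ Cfsg.Geo.subalgebraNormalizer K := by
    intro g hg
    refine mem_normalizer_of_semi K g fun c hc => ?_
    obtain ⟨d, hd⟩ := hg ⟨c, hc⟩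
    exact ⟨d, d.2, hd⟩
  refine isMaximalIn_of inf_le_right ?_ fun M hHM hMS g hgM hgn => ?_
  · obtain ⟨g, hg, hns⟩ := S.exists_not_semi
    exact ⟨g, hg, fun h => hns (hsemi g h.1)⟩
  · have hM : S.Over M := ⟨hMS, fun k hk hlin => hHM ⟨hnorm k hlin.semi, hk⟩⟩
    exact Setting.omega_le_of_allRoots hMS (hspread K h3 S M hM ⟨g, hgM, fun hs => hgn ⟨hnorm g hs, hMS hgM⟩⟩)

/-- Degree three. -/
theorem maximal_three {ι : Type} [Fintype ι] [DecidableEq ι] {F : Type v} [Field F] [Finite F]
    {Q : (ι → F) → F} (hQ : Cfsg.Geo.IsNondegenerateQuadraticForm Q) (h2 : (2 : F) ≠ 0)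
    (hn : 9 ≤ Fintype.card ι) (K : Subalgebra F (Matrix ι ι F))
    (hK : Cfsg.Geo.IsFieldSubalgebra 3 K) (hsa : Cfsg.Geo.IsSelfAdjointFor (QuadraticMap.polar Q) K) :
    Cfsg.Geo.IsMaximalIn (Cfsg.Geo.omegaGL Q)
      (Cfsg.Geo.subalgebraNormalizer K ⊓ Cfsg.Geo.omegaGL Q) :=
  maximal_of_spreads hQ h2 Nat.prime_three (by norm_num) (by omega) K hK hsa (spreads_three F ι)

end Cfsg.Agent.Lib.OrthExtOdd
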