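import Cfsg.Agent.Lib.OrthExtOdd.Align

/-!
Root elements `x ↦ x + τ (h(x,u)) u` of a singular line; a layer-trivial isometry which is not semilinear and
conjugates the linear elements of `Ω` into `M` puts a non-trivial one into `M`.
Owner: helper93.
-/

set_option autoImplicit false
set_option linter.unusedSectionVars false
set_option linter.style.haveILetI false

namespace Cfsg.Agent.Lib.OrthExtOdd

open Matrix Module Cfsg.Agent.Lib.Subspaces.Transvection Cfsg.Agent.Lib.Subspaces.FormVec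
  Cfsg.Agent.Lib.Subspaces.OrthForm Cfsg.Agent.Lib.Subspaces.OmegaGL Cfsg.Agent.Lib.K41.ExtForm

variable {ι : Type} [Fintype ι] [DecidableEq ι] {F K : Type*} [Field F] [Field K] [Algebra F K]
  [Module K (ι → F)] [IsScalarTower F K (ι → F)] [Finite F] [Finite K]

namespace Setting

variable {S : Setting F K ι} {u u' : ι → F}

/-- The map of a root element. -/
noncomputable def rtLin (S : Setting F K ι) (u : ι → F) (τ : Module.End F K) : (ι → F) →ₗ[F] (ι → F) :=
  LinearMap.id + ((LinearMap.toSpanSingleton K (ι → F) u).restrictScalars F).comp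
    (τ.comp ((S.h.flip u).restrictScalars F))

theorem rtLin_apply (τ : Module.End F K) (x : ι → F) : S.rtLin u τ x = x + τ (S.h x u) • u := by
  simp [rtLin, LinearMap.BilinForm.flip_apply]

theorem rtLin_comp (hu : S.h u u = 0) (τ τ' : Module.End F K) (x : ι → F) :
    S.rtLin u τ (S.rtLin u τ' x) = S.rtLin u (τ + τ') x := by
  simp only [rtLin_apply, map_add, map_smul, LinearMap.add_apply, LinearMap.smul_apply, hu, smul_zero, map_zero, add_zero]
  module

open Classical in
/-- A root element. -/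
noncomputable def rt (S : Setting F K ι) (u : ι → F) (τ : Module.End F K) : GL ι F :=
  if h : S.h u u = 0 then
    ofEquiv (LinearEquiv.ofLinearMap (S.rtLin u τ) (S.rtLin u (-τ))
      (LinearMap.ext fun x => by
        rw [LinearMap.comp_apply, rtLin_comp h, add_neg_cancel, LinearMap.id_apply, rtLin_apply]; simp)
      (LinearMap.ext fun x => by
        rw [LinearMap.comp_apply, rtLin_comp h, neg_add_cancel, LinearMap.id_apply, rtLin_apply]; simp))
  else 1

theorem rt_mulVec (hu : S.h u u = 0) (τ : Module.End F K) (x : ι → F) :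
    (S.rt u τ : Matrix ι ι F) *ᵥ x = x + τ (S.h x u) • u := by
  rw [rt, dif_pos hu, ofEquiv_mulVec]
  exact rtLin_apply τ x

theorem rt_add (hu : S.h u u = 0) (τ τ' : Module.End F K) : S.rt u τ * S.rt u τ' = S.rt u (τ + τ') :=
  gl_ext fun x => by
    rw [gl_mul_mulVec, rt_mulVec hu, rt_mulVec hu, rt_mulVec hu, ← rtLin_apply, ← rtLin_apply,
      ← rtLin_apply, rtLin_comp hu]

theorem rt_zero (hu : S.h u u = 0) : S.rt u 0 = 1 := gl_ext fun x => by
  rw [rt_mulVec hu, Units.val_one, one_mulVec]; simp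

theorem rt_neg (hu : S.h u u = 0) (τ : Module.End F K) : (S.rt u τ)⁻¹ = S.rt u (-τ) := by
  refine inv_eq_of_mul_eq_one_right ?_
  rw [rt_add hu, add_neg_cancel, rt_zero hu]

/-- A root element of `Ω` is given by an alternating map. -/
theorem Frame.skew (P : S.Frame u u') {τ : Module.End F K}
    (hQ : ∀ x, S.Q ((S.rt u τ : Matrix ι ι F) *ᵥ x) = S.Q x) (a b : K) :
    Algebra.trace F K (τ a * b) + Algebra.trace F K (a * τ b) = 0 := by
  have h := B_map hQ (a • u') (b • u')
  rw [rt_mulVec P.uu, rt_mulVec P.uu] at h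
  simp only [← S.trace, map_add, map_smul, LinearMap.add_apply, LinearMap.smul_apply, smul_eq_mul, P.uu,
    P.uu', P.pair, P.pair', mul_zero, mul_one, add_zero, zero_add, map_zero] at h
  rw [mul_comm (τ a) b, mul_comm a (τ b)] at *
  linear_combination h

variable {M : Subgroup (GL ι F)}

/-- A layer-trivial isometry which is not semilinear gives a root element of `M`. -/
theorem Frame.exists_root (P : S.Frame u u') (hM : S.Over M) {n : GL ι F}
    (hI : n ∈ Cfsg.isometryGroup F S.Q) (hns : ¬ Semi K n)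
    (hlow : S.Low u ((n : Matrix ι ι F).mulVecLin - 1))
    (hconj : ∀ l ∈ Cfsg.Geo.omegaGL S.Q, Lin K l → n * l * n⁻¹ ∈ M) (hcard : 27 ≤ Nat.card K) :
    ∃ τ : Module.End F K, τ ≠ 0 ∧ S.rt u τ ∈ M := by
  classical
  have hn : ∀ x, S.Q ((n : Matrix ι ι F) *ᵥ x) = S.Q x := fun x => by
    simpa [Units.coeHom_apply] using hI x x
  set ν := (n : Matrix ι ι F).mulVecLin - 1 with hν
  have hnx : ∀ x, (n : Matrix ι ι F) *ᵥ x = x + ν x := fun x => by simp [hν]
  by_contra hcon
  push Not at hcon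
  -- `n` commutes with the unipotent elements
  have hcomm : ∀ w ∈ S.mid u u', ∀ x, (n : Matrix ι ι F) *ᵥ ((S.E u w : Matrix ι ι F) *ᵥ x) =
      (S.E u w : Matrix ι ι F) *ᵥ ((n : Matrix ι ι F) *ᵥ x) := by
    intro w hw
    set Ew := (S.E u w : Matrix ι ι F).mulVecLin - 1
    have hEw : ∀ x, Ew x = S.h x u • w - (S.h x w + S.h w w / 2 * S.h x u) • u := fun x => by
      show (S.E u w : Matrix ι ι F) *ᵥ x - x = _
      rw [E_mulVec P.uu hw.1]; abel
    have hEl : S.Low u Ew := by
      refine ⟨fun x => by simp [hEw, hw.1, P.uu], fun z hz => ⟨-(S.h z w), by simp [hEw, hz]⟩, fun c => ?_⟩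
      simp [hEw, P.uu, (S.symm u w).trans hw.1]
    set D := ν * Ew - Ew * ν with hD
    have hDim : ∀ x, ∃ c : K, D x = c • u := fun x => by
      obtain ⟨a, ha⟩ := hlow.2.1 _ (hEl.1 x)
      obtain ⟨b, hb⟩ := hEl.2.1 _ (hlow.1 x)
      exact ⟨a - b, by simp [hD, ha, hb, sub_smul]⟩
    have hDker : ∀ z, S.h z u = 0 → D z = 0 := fun z hz => by
      obtain ⟨a, ha⟩ := hlow.2.1 z hz
      obtain ⟨b, hb⟩ := hEl.2.1 z hz
      simp [hD, ha, hb, hlow.2.2, hEl.2.2]
    set c0 := n * S.E u w * n⁻¹ * (S.E u w)⁻¹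
    have hc0M : c0 ∈ M :=
      M.mul_mem (hconj _ (P.E_mem hw) (E_lin _ _)) (M.inv_mem (hM.lin _ (P.E_mem hw) (E_lin _ _)))
    let τ : Module.End F K :=
      { toFun := fun k => S.h (D (k • u')) u'
        map_add' := fun a b => by simp [add_smul]
        map_smul' := fun t k => by
          rw [smul_assoc, map_smul, ← algebraMap_smul K t (D _), map_smul, LinearMap.smul_apply, smul_eq_mul,
            RingHom.id_apply, Algebra.smul_def] }
    have hDτ : ∀ x, D x = τ (S.h x u) • u := fun x => by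
      obtain ⟨c, hc⟩ := hDim (S.h x u • u')
      have e : D x = D (S.h x u • u') := by
        rw [← sub_eq_zero, ← map_sub]
        exact hDker _ (by simp [P.pair'])
      rw [e]
      show _ = S.h (D (S.h x u • u')) u' • u
      rw [hc]
      simp [P.pair]
    have hc0 : c0 = S.rt u τ := gl_ext fun y => by
      set x := ((n⁻¹ : GL ι F) : Matrix ι ι F) *ᵥ (((S.E u w)⁻¹ : GL ι F) : Matrix ι ι F) *ᵥ y with hx
      have hy : y = (S.E u w : Matrix ι ι F) *ᵥ ((n : Matrix ι ι F) *ᵥ x) := by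
        rw [hx, gl_mulVec_inv, gl_mulVec_inv]
      have hxu : S.h y u = S.h x u := by
        rw [hy, E_mulVec P.uu hw.1, hnx]
        simp [P.uu, hw.1, hlow.1 x]
      rw [show (c0 : Matrix ι ι F) *ᵥ y = (n : Matrix ι ι F) *ᵥ ((S.E u w : Matrix ι ι F) *ᵥ x) by
        simp only [c0, gl_mul_mulVec, hx], rt_mulVec P.uu, hxu, ← hDτ, hy]
      have hE' : ∀ z, (S.E u w : Matrix ι ι F) *ᵥ z = z + Ew z := fun z => by simp [Ew]
      simp only [hE', hnx, map_add, hD, LinearMap.sub_apply, Module.End.mul_apply]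
      abel
    have hτ : τ = 0 := by
      by_contra h
      exact hcon τ h (hc0 ▸ hc0M)
    intro x
    have e : c0 = 1 := by rw [hc0, hτ, rt_zero P.uu]
    rw [← gl_mul_mulVec, ← gl_mul_mulVec, show n * S.E u w = S.E u w * n by
      simpa [c0, mul_inv_eq_iff_eq_mul] using e]
  -- hence it is a unipotent element times a root element
  have hR : ∀ (k : K) (w : ι → F), w ∈ S.mid u u' → ν (k • w) = -S.h (ν (k • u')) w • u := by
    intro k w hw
    have hc := hcomm w hw (k • u')
    rw [E_mulVec P.uu hw.1, hnx, hnx, E_mulVec P.uu hw.1] at hc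
    simp only [map_add, map_sub, map_smul, LinearMap.add_apply, LinearMap.smul_apply, smul_eq_mul,
      P.pair', mul_one, (S.symm u' w).trans hw.2, mul_zero, zero_add, hlow.1, hlow.2.2, sub_zero,
      add_zero] at hc
    rw [eq_comm, ← sub_eq_zero] at hc
    rw [← sub_eq_zero, ← neg_eq_zero, ← hc]
    module
  set y := S.proj u u' (ν u') with hy
  have hym : y ∈ S.mid u u' := P.proj_mem _
  have hνw : ∀ w ∈ S.mid u u', ν w = -S.h y w • u := by
    intro w hw
    have h := hR 1 w hw
    rw [one_smul, one_smul] at h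
    rw [h, hy, proj]
    simp [(S.symm u w).trans hw.1, (S.symm u' w).trans hw.2]
  have hνk : ∀ k : K, S.proj u u' (ν (k • u')) = k • y := by
    intro k
    refine sub_eq_zero.1 (P.mid_nondeg ((S.mid u u').sub_mem (P.proj_mem _) ((S.mid u u').smul_mem _ hym))
      fun w hw => ?_)
    have h := smul_left_injective K P.ne_zero ((hR k w hw).symm.trans (hνw _ ((S.mid u u').smul_mem k hw)))
    simp only [map_smul, smul_eq_mul, neg_inj] at h
    simp only [proj, map_sub, map_smul, LinearMap.sub_apply, LinearMap.smul_apply, smul_eq_mul,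
      (S.symm u w).trans hw.1, (S.symm u' w).trans hw.2, mul_zero, sub_zero]
    rw [h, sub_self]
  set n₁ := S.E u (-y) * n with hn₁
  have hyu : S.h (-y) u = 0 := by simp [hym.1]
  have hn₁u : ∀ c : K, (n₁ : Matrix ι ι F) *ᵥ (c • u) = c • u := fun c => by
    rw [hn₁, gl_mul_mulVec, hnx, hlow.2.2, add_zero, E_mulVec P.uu hyu]
    simp [P.uu, (S.symm u y).trans hym.1]
  have hn₁w : ∀ w ∈ S.mid u u', (n₁ : Matrix ι ι F) *ᵥ w = w := fun w hw => by
    rw [hn₁, gl_mul_mulVec, hnx, hνw w hw, E_mulVec P.uu hyu]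
    simp only [map_add, map_neg, map_smul, LinearMap.add_apply, LinearMap.neg_apply, LinearMap.smul_apply,
      smul_eq_mul, hw.1, P.uu, (S.symm u y).trans hym.1, S.symm y w, neg_smul, mul_zero, neg_zero, zero_smul,
      add_zero, zero_add]
    module
  let τ : Module.End F K :=
    { toFun := fun k => S.h ((n₁ : Matrix ι ι F) *ᵥ (k • u')) u'
      map_add' := fun a b => by simp [add_smul, mulVec_add]
      map_smul' := fun t k => by
        rw [smul_assoc, mulVec_smul, ← algebraMap_smul K t ((n₁ : Matrix ι ι F) *ᵥ _), map_smul,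
          LinearMap.smul_apply, smul_eq_mul, RingHom.id_apply, Algebra.smul_def] }
  have hn₁k : ∀ k : K, (n₁ : Matrix ι ι F) *ᵥ (k • u') = k • u' + τ k • u := by
    intro k
    have h1 : S.h (ν (k • u')) u = 0 := hlow.1 _
    have h2 := hνk k
    rw [proj, h1, zero_smul, sub_zero, sub_eq_iff_eq_add] at h2
    have e : ∃ c : K, (n₁ : Matrix ι ι F) *ᵥ (k • u') = k • u' + c • u := by
      refine ⟨S.h (ν (k • u')) u' + k * S.h y y - S.h y y / 2 * k, ?_⟩
      rw [hn₁, gl_mul_mulVec, hnx, E_mulVec P.uu hyu]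
      generalize S.h (ν (k • u')) u' = c at h2 ⊢
      rw [h2]
      simp only [map_add, map_neg, map_smul, LinearMap.add_apply, LinearMap.neg_apply, LinearMap.smul_apply,
        smul_eq_mul, P.uu, P.pair', (S.symm u' y).trans hym.2, hym.1, (S.symm u y).trans hym.1]
      module
    obtain ⟨c, hc⟩ := e
    have : τ k = c := by
      show S.h ((n₁ : Matrix ι ι F) *ᵥ (k • u')) u' = c
      rw [hc]
      simp [P.pair, P.uu']
    rw [this, hc]
  have hrt : n₁ = S.rt u τ := gl_ext fun x => by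
    rw [rt_mulVec P.uu]
    conv_lhs => rw [decomp (S := S) (u := u) (u' := u') x, mulVec_add, mulVec_add, hn₁u, hn₁w _ (P.proj_mem x),
      hn₁k]
    conv_rhs => arg 1; rw [decomp (S := S) (u := u) (u' := u') x]
    abel
  have hEy : S.E u (-y) ∈ M := hM.lin _ (P.E_mem ((S.mid u u').neg_mem hym)) (E_lin _ _)
  have hτ : τ ≠ 0 := by
    intro h0
    refine hns ?_
    have e : n = (S.E u (-y))⁻¹ * n₁ := by rw [hn₁]; group
    rw [e, hrt, h0, rt_zero P.uu, mul_one]
    exact (lin_inv (E_lin _ _)).semi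
  -- a torus commutator
  have hb : ∀ a : K, a ≠ 0 → ∀ x, a * a * τ (a * a * x) = τ x := by
    intro a ha x
    obtain ⟨d, hdO, hdl, hdu, hdu', hdm⟩ := P.exists_torus a ha
    have h1 : n₁ * d * n₁⁻¹ * d⁻¹ ∈ M := by
      have := M.mul_mem (M.mul_mem (M.mul_mem hEy (hconj d hdO hdl)) (M.inv_mem hEy))
        (M.inv_mem (hM.lin d hdO hdl))
      convert this using 1
      simp only [hn₁]
      group
    let lm : Module.End F K := LinearMap.mulLeft F (a * a)
    have e : d * (S.rt u τ)⁻¹ = S.rt u (-(lm * τ * lm)) * d := gl_ext fun z => by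
      rw [rt_neg P.uu, gl_mul_mulVec, gl_mul_mulVec, rt_mulVec P.uu, rt_mulVec P.uu, mulVec_add, hdl, hdu]
      have hz : S.h ((d : Matrix ι ι F) *ᵥ z) u = (a * a)⁻¹ * S.h z u := by
        conv_lhs => rw [decomp (S := S) (u := u) (u' := u') z, mulVec_add, mulVec_add, hdl, hdl, hdu, hdu',
          hdm _ (P.proj_mem z)]
        simp [P.uu, P.pair', (P.proj_mem z).1, mul_comm]
      rw [hz]
      simp only [lm, LinearMap.neg_apply, Module.End.mul_apply, LinearMap.mulLeft_apply, neg_smul]
      rw [smul_smul, show a * a * ((a * a)⁻¹ * S.h z u) = S.h z u by field_simp, mul_comm (τ _), ← neg_smul]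
    have h2 : n₁ * d * n₁⁻¹ * d⁻¹ = S.rt u (τ + -(lm * τ * lm)) := by
      rw [hrt, mul_assoc (S.rt u τ) d, e, ← mul_assoc, rt_add P.uu, mul_inv_cancel_right]
    have h3 : τ + -(lm * τ * lm) = 0 := by
      by_contra h
      exact hcon _ h (h2 ▸ h1)
    have h4 := LinearMap.congr_fun h3 x
    simp only [lm, LinearMap.add_apply, LinearMap.neg_apply, Module.End.mul_apply, LinearMap.mulLeft_apply,
      LinearMap.zero_apply] at h4
    linear_combination -h4
  obtain ⟨x, hx⟩ : ∃ x, τ x ≠ 0 := by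
    by_contra h; push Not at h; exact hτ (LinearMap.ext h)
  haveI := Fintype.ofFinite K
  obtain ⟨a, ha⟩ : ∃ a : K, (((Polynomial.X ^ 2 + Polynomial.C 1) * (Polynomial.X ^ 4 - Polynomial.C 3 *
      Polynomial.X ^ 2 + Polynomial.C 1) * (Polynomial.X ^ 2 - Polynomial.C 1) * Polynomial.X : Polynomial K)).eval a
        ≠ 0 := by
    set R : Polynomial K := (Polynomial.X ^ 2 + Polynomial.C 1) * (Polynomial.X ^ 4 - Polynomial.C 3 *
      Polynomial.X ^ 2 + Polynomial.C 1) * (Polynomial.X ^ 2 - Polynomial.C 1) * Polynomial.X with hR'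
    by_contra h
    push Not at h
    have hdeg : R.natDegree ≤ 9 := by rw [hR']; compute_degree
    have hm4 : (Polynomial.X ^ 4 - Polynomial.C 3 * Polynomial.X ^ 2 + Polynomial.C 1 : Polynomial K).Monic := by
      monicity!
    have hne : R ≠ 0 := Polynomial.Monic.ne_zero ((((Polynomial.monic_X_pow_add_C (1 : K) two_ne_zero).mul hm4).mul
      (Polynomial.monic_X_pow_sub_C (1 : K) two_ne_zero)).mul Polynomial.monic_X)
    have h27 : Finset.card (Finset.univ : Finset K) ≤ 9 :=
      (Polynomial.card_le_degree_of_subset_roots fun z _ => (Polynomial.mem_roots hne).2 (h z)).trans hdeg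
    rw [Finset.card_univ, ← Nat.card_eq_fintype_card] at h27
    omega
  simp at ha
  obtain ⟨⟨⟨ha1, ha2⟩, ha3⟩, ha0⟩ := ha
  have hp1 : a + 1 ≠ 0 := fun e => ha3 (by linear_combination (a - 1) * e)
  have hm1 : a - 1 ≠ 0 := fun e => ha3 (by linear_combination (a + 1) * e)
  have hinv : ∀ b : K, b ≠ 0 → τ (b * b * x) = (b * b)⁻¹ * τ x := fun b hb0 => by
    rw [← hb b hb0 x]; field_simp
  have hsum : τ ((a + 1) * (a + 1) * x) + τ ((a - 1) * (a - 1) * x) =
      2 • (τ (a * a * x) + τ (1 * 1 * x)) := by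
    rw [← map_add, ← map_add, ← map_nsmul]
    congr 1
    rw [nsmul_eq_mul]
    ring
  rw [hinv _ hp1, hinv _ hm1, hinv _ ha0, hinv _ one_ne_zero, nsmul_eq_mul] at hsum
  refine mul_ne_zero (mul_ne_zero ha1 ha2) hx ?_
  field_simp at hsum
  push_cast at hsum
  refine mul_left_cancel₀ S.twoK ?_
  linear_combination (-(τ x)) * hsum

end Setting

end Cfsg.Agent.Lib.OrthExtOdd
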