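import Cfsg.Agent.Lib.GeomSmallSp.OrthThree.SLTwo

/-!
A subgroup of `PSL(2, L)` with the upper unitriangular elements over `F` and the lower ones over `F λ`, `L = F(λ)`.
Owner: helper93.
-/

set_option autoImplicit false
set_option linter.style.haveILetI false

namespace Cfsg.Agent.Lib.OrthExtOdd.SLSemi

open Matrix Cfsg.Agent.Lib.DicksonId Cfsg.Agent.Lib.Linear Cfsg.Agent.Lib.GeomSmallSp.OrthThree
  Cfsg.Agent.Lib.GeomSmallSp.OrthThree.SLTwo
open Cfsg.Agent.Lib.DicksonFull (pslExt slExt)

/-- The exceptional values. -/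
def Icosa {L : Type*} [CommRing L] (lam : L) : Prop :=
  ((2 + lam) ^ 2 + (2 + lam) - 1 = 0 ∨ (2 + lam) ^ 2 - (2 + lam) - 1 = 0) ∧ (IsSquare lam ∨ IsSquare (-lam))

variable {L : Type*} [Field L]

local notation "SL₂" => Matrix.SpecialLinearGroup (Fin 2) L
local notation "PSL₂" => Matrix.ProjectiveSpecialLinearGroup (Fin 2) L

/-- The projection. -/
abbrev mk : SL₂ →* PSL₂ := QuotientGroup.mk' _

theorem mk_eq {A B : SL₂} (h : mk A = mk B) :
    ∃ s : L, (s = 1 ∨ s = -1) ∧ (A : Matrix (Fin 2) (Fin 2) L) = s • (B : Matrix (Fin 2) (Fin 2) L) := by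
  obtain ⟨c, hc⟩ := (AutPSL.mk_eq_mk_iff _ _).mp h.symm
  have hd := congrArg Matrix.det hc
  rw [Matrix.det_smul, A.2, B.2, Fintype.card_fin, mul_one] at hd
  exact ⟨c, sq_eq_one_iff.mp hd.symm, hc⟩

theorem mk_uu_inj {x y : L} (h : mk (SLTwo.uu x) = mk (SLTwo.uu y)) : x = y := by
  obtain ⟨s, -, hc⟩ := mk_eq h
  have e00 := congrFun (congrFun hc 0) 0
  have e01 := congrFun (congrFun hc 0) 1
  simp [coe_uu] at e00 e01
  subst e00
  simpa using e01

theorem mk_ll_inj {x y : L} (h : mk (ll x) = mk (ll y)) : x = y := by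
  obtain ⟨s, -, hc⟩ := mk_eq h
  have e00 := congrFun (congrFun hc 0) 0
  have e10 := congrFun (congrFun hc 1) 0
  simp [coe_ll] at e00 e10
  subst e00
  simpa using e10

theorem alt5_pow : ∀ g : alternatingGroup (Fin 5), g ^ 2 = 1 ∨ g ^ 3 = 1 ∨ g ^ 5 = 1 := by
  decide +kernel

variable {F : Type*} [Field F] [Fintype F] [Fintype L] [Algebra F L]

/-- The image is everything outside the icosahedral case. -/
theorem full_image (G : Subgroup PSL₂) (lam : L) (hodd : (2 : F) ≠ 0)
    (hu : ∀ r : F, mk (SLTwo.uu (algebraMap F L r)) ∈ G) (hl : ∀ r : F, mk (ll (r • lam)) ∈ G) (hlam : lam ≠ 0)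
    (hgen : ∀ S : Subfield L, lam ∈ S → (∀ r : F, algebraMap F L r ∈ S) → S = ⊤) (hL : 4 ≤ Fintype.card L)
    (hexc : Fintype.card F = 3 → ¬ Icosa lam) : G = ⊤ := by
  classical
  set p := ringChar F
  haveI : CharP F p := ringChar.charP F
  haveI hp : Fact p.Prime := ⟨CharP.char_is_prime F p⟩
  haveI : CharP L p := charP_of_injective_algebraMap (algebraMap F L).injective p
  have hp2 : p ≠ 2 := fun e => hodd (by simpa [e] using CharP.cast_eq_zero F p)
  have h2L : (2 : L) ≠ 0 := two_ne_zero_of_char (p := p) hp2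
  have hup : ∀ z : L, mk (SLTwo.uu z) ^ p = 1 := fun z => by
    rw [← map_pow, uu_pow, CharP.cast_eq_zero, zero_mul, uu_zero, map_one]
  have hlo : ∀ z : L, mk (ll z) ^ p = 1 := fun z => by
    rw [← map_pow, ll_pow, CharP.cast_eq_zero, zero_mul, ll_zero, map_one]
  have hu1 : mk (SLTwo.uu (1 : L)) ∈ G := by simpa using hu 1
  have hl1 : mk (ll lam) ∈ G := by simpa using hl 1
  have hnc : ¬ Commute (mk (SLTwo.uu (1 : L))) (mk (ll lam)) := by
    intro h
    rw [Commute, SemiconjBy, ← map_mul, ← map_mul] at h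
    obtain ⟨c, -, hc⟩ := mk_eq h
    rw [Matrix.SpecialLinearGroup.coe_mul, Matrix.SpecialLinearGroup.coe_mul, coe_uu, coe_ll] at hc
    have e01 := congrFun (congrFun hc 0) 1
    have e00 := congrFun (congrFun hc 0) 0
    simp [Matrix.mul_apply, Fin.sum_univ_two] at e01 e00
    rw [← e01] at e00
    simp at e00
    exact hlam e00
  have hordu : orderOf (mk (SLTwo.uu (1 : L))) = p :=
    orderOf_eq_prime (hup _) fun e => one_ne_zero (α := L) (mk_uu_inj (e.trans (by rw [uu_zero, map_one])))
  have hpG : p ∣ Nat.card G := hordu ▸ Subgroup.orderOf_dvd_natCard G hu1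
  have hodd' : Fintype.card L % 2 = 1 := by
    obtain ⟨f, -, hf⟩ := exists_card_eq_pow (F := L) p
    exact hf ▸ Nat.odd_iff.mp (hp.out.odd_of_ne_two hp2).pow
  rcases classify (p := p) G with ⟨-, h⟩ | ⟨j, hj, -, ⟨d⟩⟩ | ⟨P, hP⟩ | ⟨h, -⟩ | ⟨h, -⟩ | ⟨h, ⟨hd⟩⟩ |
      ⟨k, hk, -, -, g, φ, hφ⟩
  · exact absurd hpG h
  · rw [Nat.card_congr d.toEquiv, DihedralGroup.nat_card] at hpG
    exact absurd (((Nat.coprime_primes hp.out Nat.prime_two).mpr hp2).dvd_of_dvd_mul_left hpG) hj
  · exact absurd ((borel_props hp2 (by omega) P).1 _ _ (hP hu1) (hP hl1) (hup _) (hlo _)) hnc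
  · exact absurd hpG h
  · exact absurd hpG h
  · -- the icosahedral group
    exfalso
    have hp3 : p = 3 := h.resolve_left fun h => h hpG
    have hG60 : Nat.card G = 60 := by
      rw [Nat.card_congr hd.toEquiv, Nat.card_eq_fintype_card]
      decide
    let f : Multiplicative F →* G :=
      { toFun := fun r => ⟨mk (SLTwo.uu (algebraMap F L r.toAdd)), hu _⟩
        map_one' := Subtype.ext (by simp [uu_zero])
        map_mul' := fun a b => Subtype.ext (by
          rw [Subgroup.coe_mul, ← map_mul, uu_add, ← map_add]; rfl) }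
    have hf : Function.Injective f := fun a b e =>
      Multiplicative.toAdd.injective ((algebraMap F L).injective (mk_uu_inj (congrArg Subtype.val e)))
    have hF3 : Fintype.card F = 3 := by
      have hdvd := Subgroup.card_dvd_of_injective f hf
      rw [hG60, Nat.card_eq_fintype_card,
        show Fintype.card (Multiplicative F) = Fintype.card F from Fintype.card_congr Multiplicative.toAdd] at hdvd
      obtain ⟨e, he, hcard⟩ := exists_card_eq_pow (F := F) p
      rw [hcard, hp3] at hdvd ⊢
      rcases (show e = 1 ∨ 2 ≤ e by omega) with rfl | he2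
      · rfl
      · have := (Nat.pow_dvd_pow 3 he2).trans hdvd
        norm_num at this
    have hnotF : ∀ r : F, lam ≠ algebraMap F L r := by
      intro r hr
      have htop := hgen (algebraMap F L).fieldRange (hr ▸ ⟨r, rfl⟩) fun r => ⟨r, rfl⟩
      have := Fintype.card_le_of_surjective (algebraMap F L) fun y =>
        (htop ▸ Subfield.mem_top y : y ∈ (algebraMap F L).fieldRange)
      omega
    refine hexc hF3 ⟨?_, ?_⟩
    · -- the order of the product of the two generators
      set t : L := 2 + lam with ht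
      set m := SLTwo.uu (1 : L) * ll lam with hm
      have hmG : mk m ∈ G := by rw [hm, map_mul]; exact mul_mem hu1 hl1
      set X : Matrix (Fin 2) (Fin 2) L := (m : Matrix (Fin 2) (Fin 2) L) with hXdef
      have hX : X = !![1 + lam, 1; lam, 1] := by
        rw [hXdef, hm, Matrix.SpecialLinearGroup.coe_mul, coe_uu, coe_ll]
        ext i j; fin_cases i <;> fin_cases j <;> simp [Matrix.mul_apply, Fin.sum_univ_two]
      have h2 : X * X = t • X - 1 := by
        rw [hX, ht]; ext i j; fin_cases i <;> fin_cases j <;> simp [Matrix.mul_apply, Fin.sum_univ_two] <;> ring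
      have hscal : ∀ n, mk m ^ n = 1 → ∃ c : L, X ^ n = c • 1 := by
        intro n e
        rw [← map_pow, ← map_one mk] at e
        obtain ⟨c, -, hc⟩ := mk_eq e
        exact ⟨c, by simpa using hc⟩
      have h3 : X ^ 3 = (t * t - 1) • X - t • 1 := by
        rw [pow_succ, pow_two, h2, sub_mul, smul_mul_assoc, h2, one_mul]
        module
      have h5 : X ^ 5 = (t ^ 4 - 3 * t ^ 2 + 1) • X - (t ^ 3 - 2 * t) • 1 := by
        rw [show X ^ 5 = X ^ 3 * (X * X) by rw [← pow_two, ← pow_add], h3, h2, sub_mul, smul_mul_assoc, mul_sub,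
          mul_smul_comm, h2, mul_one, smul_mul_assoc, one_mul]
        module
      have h01 : ∀ (a b c : L), a • X - b • 1 = c • (1 : Matrix (Fin 2) (Fin 2) L) → a = 0 := by
        intro a b c e
        have := congrFun (congrFun e 0) 1
        simpa [hX] using this
      rcases alt5_pow (hd ⟨mk m, hmG⟩) with e | e | e <;>
        rw [← map_pow, MulEquiv.map_eq_one_iff] at e <;> obtain ⟨c, hc⟩ := hscal _ (congrArg Subtype.val e)
      · exfalso
        rw [pow_two, h2, ← one_smul L (1 : Matrix (Fin 2) (Fin 2) L)] at hc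
        have := h01 t 1 c (by simpa using hc)
        exact hnotF (-2) (by rw [map_neg, map_ofNat]; linear_combination this)
      · exfalso
        have := h01 _ _ c (h3.symm.trans hc)
        rcases mul_self_eq_one_iff.mp (sub_eq_zero.mp this) with e1 | e1
        · exact hnotF (-1) (by rw [map_neg, map_one]; linear_combination e1)
        · exact hnotF (-3) (by rw [map_neg, map_ofNat]; linear_combination e1)
      · have := h01 _ _ c (h5.symm.trans hc)
        exact mul_eq_zero.mp (show (t ^ 2 + t - 1) * (t ^ 2 - t - 1) = 0 by linear_combination this)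
    · -- the subgroups of order three are conjugate
      haveI : Fact (Nat.Prime 3) := ⟨Nat.prime_three⟩
      set a : G := ⟨mk (SLTwo.uu (1 : L)), hu1⟩
      set b : G := ⟨mk (ll lam), hl1⟩
      have ha : orderOf a = 3 := by rw [← Subgroup.orderOf_coe]; exact hordu.trans hp3
      have hb : orderOf b = 3 := by
        rw [← Subgroup.orderOf_coe]
        exact (orderOf_eq_prime (hlo _) fun e => hlam (mk_ll_inj (e.trans (by rw [ll_zero, map_one])))).trans hp3
      have hsyl : ∀ c : G, orderOf c = 3 → ∃ S : Sylow 3 G, (S : Subgroup G) = Subgroup.zpowers c := by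
        intro c hc
        refine ⟨Sylow.ofCard (Subgroup.zpowers c) ?_, Sylow.coe_ofCard _ _⟩
        rw [Nat.card_zpowers, hc, hG60, show (60 : ℕ) = 3 ^ 1 * 20 by norm_num,
          Nat.factorization_mul (by norm_num) (by norm_num), Finsupp.add_apply,
          Nat.Prime.factorization_pow Nat.prime_three, Finsupp.single_eq_same,
          Nat.factorization_eq_zero_of_not_dvd (by norm_num)]
        norm_num
      obtain ⟨S, hS⟩ := hsyl a ha
      obtain ⟨T, hT⟩ := hsyl b hb
      obtain ⟨c, hc⟩ := MulAction.exists_smul_eq G S T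
      have hmem : c * a * c⁻¹ ∈ Subgroup.zpowers b := by
        rw [← hT, ← hc]
        exact Subgroup.smul_mem_pointwise_smul a (MulAut.conj c) _ (hS ▸ Subgroup.mem_zpowers a)
      obtain ⟨i, hir, hi⟩ := Finset.mem_image.1
        ((IsOfFinOrder.mem_zpowers_iff_mem_range_orderOf (isOfFinOrder_of_finite b)).1 hmem)
      obtain ⟨C, hC⟩ := QuotientGroup.mk'_surjective _ (c : PSL₂)
      have e : mk (ll ((i : L) * lam) * C) = mk (C * SLTwo.uu (1 : L)) := by
        have e' := congrArg Subtype.val hi
        simp only [Subgroup.coe_mul, Subgroup.coe_inv, SubmonoidClass.coe_pow, a, b] at e'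
        rw [eq_mul_inv_iff_mul_eq, ← hC, ← map_pow, ll_pow, ← map_mul, ← map_mul] at e'
        exact e'
      obtain ⟨s, hs, hse⟩ := mk_eq e
      rw [Matrix.SpecialLinearGroup.coe_mul, Matrix.SpecialLinearGroup.coe_mul, coe_uu, coe_ll] at hse
      have hdet := C.2
      rw [Matrix.det_fin_two] at hdet
      have e00 := congrFun (congrFun hse 0) 0
      have e01 := congrFun (congrFun hse 0) 1
      have e10 := congrFun (congrFun hse 1) 0
      have e11 := congrFun (congrFun hse 1) 1
      simp [Matrix.mul_apply, Fin.sum_univ_two] at e00 e01 e10 e11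
      have hs1 : s = 1 := by
        refine hs.resolve_right fun h => ?_
        subst h
        have h00 : C.1 0 0 = 0 := mul_left_cancel₀ h2L (by linear_combination e00)
        rw [h00] at e01 hdet
        have h01 : C.1 0 1 = 0 := mul_left_cancel₀ h2L (by linear_combination e01)
        rw [h01] at hdet
        simp at hdet
      subst hs1
      have h00 : C.1 0 0 = 0 := by linear_combination -e01
      rw [h00] at hdet
      have hbc : C.1 0 1 * C.1 1 0 = -1 := by linear_combination -hdet
      have hi' : (i : L) * lam = -(C.1 1 0 ^ 2) := by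
        linear_combination (-C.1 1 0) * e11 + ((i : L) * lam) * hbc
      have hi3 : i < 3 := by
        have := Finset.mem_range.1 hir
        omega
      have hcr : C.1 1 0 ≠ 0 := fun h => by rw [h, mul_zero] at hbc; exact neg_ne_zero.2 one_ne_zero hbc.symm
      interval_cases i
      · exact absurd (pow_eq_zero_iff two_ne_zero |>.1 (by simpa using hi')) hcr
      · exact Or.inr ⟨C.1 1 0, by simp at hi'; linear_combination -hi'⟩
      · refine Or.inl ⟨C.1 1 0, ?_⟩
        haveI : CharP L 3 := hp3 ▸ inferInstance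
        have h3L : (3 : L) = 0 := by exact_mod_cast CharP.cast_eq_zero L 3
        push_cast at hi'
        linear_combination lam * h3L - hi'
  letI : Fintype (GaloisField p k) := Fintype.ofFinite _
  have hle : ∀ y ∈ G, y ^ p = 1 → AutPSL.conjAut g y ∈ (pslExt φ).range := by
    intro y hy hyp
    rcases hφ with e | ⟨-, -, ψ, hψ, e⟩
    · exact e.le (Subgroup.mem_map_of_mem _ hy)
    · refine mem_pslExt_of_pow hp2 hψ (e ▸ Subgroup.mem_map_of_mem _ hy) ?_ (index_imSL (p := p) hp2)
      rw [← map_pow, hyp, map_one]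
  have hrA : ∀ r : F, algebraMap F L r * lam ∈ φ.fieldRange := by
    intro r
    have hm : mk (AutPSL.conjSL g (SLTwo.uu (1 : L) * ll (r • lam))) ∈ (pslExt φ).range := by
      have e : mk (AutPSL.conjSL g (SLTwo.uu (1 : L) * ll (r • lam))) =
          AutPSL.conjAut g (mk (SLTwo.uu (1 : L))) * AutPSL.conjAut g (mk (ll (r • lam))) := by
        rw [← map_mul, ← map_mul]; exact (AutPSL.conjAut_mk g _).symm
      rw [e]
      exact mul_mem (hle _ hu1 (hup _)) (hle _ (hl r) (hlo _))
    obtain ⟨w, hw⟩ := hm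
    obtain ⟨W, rfl⟩ := QuotientGroup.mk_surjective w
    rw [DicksonFull.pslExt_mk] at hw
    obtain ⟨s, hs, hsW⟩ := mk_eq (A := AutPSL.conjSL g (SLTwo.uu (1 : L) * ll (r • lam))) (B := slExt φ W) hw.symm
    have htr : Matrix.trace ((AutPSL.conjSL g (SLTwo.uu (1 : L) * ll (r • lam)) : SL₂) :
        Matrix (Fin 2) (Fin 2) L) = 2 + algebraMap F L r * lam := by
      rw [AutPSL.coe_conjSL, Matrix.trace_mul_comm, ← Matrix.mul_assoc, Units.inv_mul, Matrix.one_mul,
        Matrix.SpecialLinearGroup.coe_mul, Matrix.trace_fin_two, coe_uu, coe_ll, Algebra.smul_def]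
      simp [Matrix.mul_apply, Fin.sum_univ_two]
      ring
    have hT : Matrix.trace ((slExt φ W : SL₂) : Matrix (Fin 2) (Fin 2) L) ∈ φ.fieldRange := by
      rw [Matrix.trace_fin_two, DicksonFull.slExt_apply, DicksonFull.slExt_apply, ← map_add]
      exact ⟨_, rfl⟩
    rw [hsW, Matrix.trace_smul, smul_eq_mul] at htr
    rw [show algebraMap F L r * lam = s * Matrix.trace ((slExt φ W : SL₂) : Matrix (Fin 2) (Fin 2) L) - 2 by
      linear_combination (-1) * htr]
    refine sub_mem (mul_mem ?_ hT) (ofNat_mem _ 2)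
    rcases hs with rfl | rfl
    · exact one_mem _
    · exact neg_mem (one_mem _)
  have hsurj : Function.Surjective φ := by
    have hA : lam ∈ φ.fieldRange := by simpa using hrA 1
    have := hgen φ.fieldRange hA fun r => by
      have := div_mem (hrA r) hA
      rwa [mul_div_cancel_right₀ _ hlam] at this
    exact fun y => (this ▸ Subfield.mem_top y : y ∈ φ.fieldRange)
  rcases hφ with e | ⟨-, hsq, -⟩
  · apply Subgroup.eq_top_of_card_eq
    have hcardL : Fintype.card L = p ^ k := by
      rw [← card_galois (p := p) hk]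
      exact (Fintype.card_of_bijective ⟨φ.injective, hsurj⟩).symm
    have h1 := two_mul_card_PSL (F := L) hp2
    rw [hcardL] at h1
    have h3 := two_mul_card_range hp2 hk φ
    rw [← e, card_conjG] at h3
    omega
  · exfalso
    obtain ⟨y, hy⟩ := FiniteField.exists_nonsquare (F := L) (by rwa [ringChar.eq L p])
    obtain ⟨a, rfl⟩ := hsurj y
    exact hy (hsq a)

end Cfsg.Agent.Lib.OrthExtOdd.SLSemi
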