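import Cfsg.Agent.Lib.OrthExtOdd.SLField
import Mathlib.LinearAlgebra.Projectivization.PSL.PSL2
import Mathlib.RingTheory.Artinian.Ring

/-!
A subgroup of `SL(2, R)`, `R` a finite reduced algebra generated by one unit `A`, with the upper unitriangular
elements over the field and the lower ones over its multiples of `A`, has all upper unitriangular elements.
Owner: helper93.
-/

set_option autoImplicit false
set_option linter.style.haveILetI false
set_option linter.unusedSectionVars false

namespace Cfsg.Agent.Lib.OrthExtOdd.SLSemi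

open Matrix Cfsg.Agent.Lib.Linear Cfsg.Agent.Lib.GeomSmallSp.OrthThree
  Cfsg.Agent.Lib.GeomSmallSp.OrthThree.SLTwo

/-- `(s 0; 0 s⁻¹)`. -/
noncomputable def dg {L : Type*} [Field L] (s : L) (hs : s ≠ 0) : Matrix.SpecialLinearGroup (Fin 2) L :=
  ⟨!![s, 0; 0, s⁻¹], by rw [Matrix.det_fin_two_of]; field_simp; simp⟩

/-- `(0 z; -z⁻¹ 0)`. -/
noncomputable def wy {L : Type*} [Field L] (z : L) : Matrix.SpecialLinearGroup (Fin 2) L :=
  SLTwo.uu z * ll (-z⁻¹) * SLTwo.uu z

section Field

variable {L : Type*} [Field L]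

theorem coe_wy {z : L} (hz : z ≠ 0) : (wy z : Matrix (Fin 2) (Fin 2) L) = !![0, z; -z⁻¹, 0] := by
  rw [wy, Matrix.SpecialLinearGroup.coe_mul, Matrix.SpecialLinearGroup.coe_mul, coe_uu, coe_ll]
  ext i j
  fin_cases i <;> fin_cases j <;> simp [Matrix.mul_apply, Fin.sum_univ_two, hz] <;> field_simp <;> ring

theorem dg_conj {s : L} (hs : s ≠ 0) (x : L) : dg s hs * SLTwo.uu x * (dg s hs)⁻¹ = SLTwo.uu (s * s * x) := by
  rw [mul_inv_eq_iff_eq_mul]
  apply Subtype.ext
  rw [Matrix.SpecialLinearGroup.coe_mul, Matrix.SpecialLinearGroup.coe_mul, coe_uu, coe_uu]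
  ext i j
  fin_cases i <;> fin_cases j <;> simp [dg, Matrix.mul_apply, Fin.sum_univ_two]
  field_simp

theorem dg_eq_wy {x : L} (hx : x ≠ 0) : dg x hx = wy x * (wy 1)⁻¹ := by
  rw [eq_mul_inv_iff_mul_eq]
  apply Subtype.ext
  rw [Matrix.SpecialLinearGroup.coe_mul, coe_wy hx, coe_wy one_ne_zero]
  ext i j
  fin_cases i <;> fin_cases j <;> simp [dg, Matrix.mul_apply, Fin.sum_univ_two]

/-- An element commuting with a non-trivial lower unitriangular one. -/
theorem comm_lower (h2 : (2 : L) ≠ 0) {M : Matrix.SpecialLinearGroup (Fin 2) L} {l : L} (hl : l ≠ 0)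
    (h : mk (M * ll l) = mk (ll l * M)) : ∃ c, mk M = mk (ll c) := by
  obtain ⟨s, hs, he⟩ := mk_eq h
  rw [Matrix.SpecialLinearGroup.coe_mul, Matrix.SpecialLinearGroup.coe_mul, coe_ll] at he
  have e00 := congrFun (congrFun he 0) 0
  have e01 := congrFun (congrFun he 0) 1
  have e10 := congrFun (congrFun he 1) 0
  simp [Matrix.mul_apply, Matrix.vecMul, dotProduct, Fin.sum_univ_two] at e00 e01 e10
  have hd := M.2
  rw [Matrix.det_fin_two] at hd
  have hs1 : s = 1 := by
    refine hs.resolve_right fun h => ?_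
    subst h
    have h01 : M 0 1 = 0 := mul_left_cancel₀ h2 (by linear_combination e01)
    rw [h01] at e00
    have h00 : M 0 0 = 0 := mul_left_cancel₀ h2 (by linear_combination e00)
    change M.1 0 0 = 0 at h00
    change M.1 0 1 = 0 at h01
    rw [h00, h01] at hd
    simp at hd
  subst hs1
  have h01 : M.1 0 1 = 0 := mul_left_cancel₀ hl (by linear_combination e00)
  rw [h01] at hd
  have had : M.1 1 1 = M.1 0 0 := mul_left_cancel₀ hl (by linear_combination e10)
  rw [had] at hd
  refine ⟨M.1 1 0 * M.1 0 0, (AutPSL.mk_eq_mk_iff _ _).mpr ⟨M.1 0 0, ?_⟩⟩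
  ext i j
  fin_cases i <;> fin_cases j <;> simp [coe_ll, h01, had]
  all_goals first | linear_combination -hd | linear_combination hd | linear_combination (-(M.1 1 0)) * hd | ring

end Field

variable {F : Type*} [Field F] [Fintype F] {R : Type*} [CommRing R] [Finite R] [Algebra F R]

/-- All upper unitriangular elements. -/
theorem upper_top [IsReduced R] (K : Subgroup (Matrix.SpecialLinearGroup (Fin 2) R)) (A : R) (hodd : (2 : F) ≠ 0)
    (hA : IsUnit A) (hgen : Algebra.adjoin F {A} = ⊤) (hu : ∀ r : F, SLTwo.uu (algebraMap F R r) ∈ K)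
    (hl : ∀ r : F, ll (r • A) ∈ K) (U : Submodule F R) (hU : ∀ x, x ∈ U ↔ SLTwo.uu x ∈ K)
    (hgood : ∀ I : Ideal R, I.IsMaximal → Fintype.card F = 3 →
      (∀ r : F, A - algebraMap F R r ∉ I) ∧ ¬ Icosa (Ideal.Quotient.mk I A)) :
    U = ⊤ := by
  classical
  rcases subsingleton_or_nontrivial R with hR | hR
  · exact eq_top_iff.2 fun x _ => (Subsingleton.elim 0 x) ▸ U.zero_mem
  set p := ringChar F
  haveI : CharP F p := ringChar.charP F
  haveI hp : Fact p.Prime := ⟨CharP.char_is_prime F p⟩
  have hp2 : p ≠ 2 := fun e => hodd (by simpa [e] using CharP.cast_eq_zero F p)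
  haveI : CharP R p := charP_of_injective_algebraMap (algebraMap F R).injective p
  haveI := Fintype.ofFinite R
  letI := fun (I : Ideal R) => Fintype.ofFinite (R ⧸ I)
  have h1U : (1 : R) ∈ U := (hU 1).2 (by simpa using hu 1)
  -- the upper part is a Sylow subgroup
  let uh : Multiplicative U →* K :=
    { toFun := fun x => ⟨SLTwo.uu (x.toAdd : R), (hU _).1 x.toAdd.2⟩
      map_one' := Subtype.ext (by simp [uu_zero])
      map_mul' := fun a b => Subtype.ext (by
        rw [Subgroup.coe_mul, uu_add]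
        rfl) }
  have hUp : IsPGroup p uh.range := by
    rintro ⟨_, r, rfl⟩
    refine ⟨1, Subtype.ext (Subtype.ext ?_)⟩
    show (SLTwo.uu (r.toAdd : R)) ^ (p ^ 1) = 1
    rw [pow_one, uu_pow, CharP.cast_eq_zero, zero_mul, uu_zero]
  have hnorm : ∀ k : K, (∀ y ∈ uh.range, k * y * k⁻¹ ∈ uh.range) →
      ∃ a d : R, k.1.1 1 0 = 0 ∧ k.1.1 0 0 = a ∧ k.1.1 1 1 = d ∧ a * d = 1 ∧ ∀ x ∈ U, a * a * x ∈ U := by
    intro k hk
    set C : Matrix (Fin 2) (Fin 2) R := k.1.1
    have hcomm : ∀ x ∈ U, ∃ β ∈ U, C * !![1, x; 0, 1] = !![1, β; 0, 1] * C := by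
      intro x hx
      obtain ⟨b, hb⟩ := hk ⟨SLTwo.uu x, (hU x).1 hx⟩ ⟨Multiplicative.ofAdd ⟨x, hx⟩, rfl⟩
      refine ⟨b.toAdd, b.toAdd.2, ?_⟩
      have e : SLTwo.uu (b.toAdd : R) = k.1 * SLTwo.uu x * k.1⁻¹ := congrArg Subtype.val hb
      rw [eq_mul_inv_iff_mul_eq] at e
      have e' := congrArg Subtype.val e
      simp only [Matrix.SpecialLinearGroup.coe_mul, coe_uu] at e'
      exact e'.symm
    obtain ⟨β, -, hβ⟩ := hcomm 1 h1U
    have e11 := congrFun (congrFun hβ 1) 1
    simp [Matrix.mul_apply, Fin.sum_univ_two] at e11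
    have h10 : C 1 0 = 0 := by linear_combination e11
    have had : C 0 0 * C 1 1 = 1 := by
      have := k.1.2
      rw [Matrix.det_fin_two] at this
      change C 0 0 * C 1 1 - C 0 1 * C 1 0 = 1 at this
      rwa [h10, mul_zero, sub_zero] at this
    refine ⟨C 0 0, C 1 1, h10, rfl, rfl, had, fun x hx => ?_⟩
    obtain ⟨β', hβ', e⟩ := hcomm x hx
    have e01 := congrFun (congrFun e 0) 1
    simp [Matrix.mul_apply, Fin.sum_univ_two] at e01
    rwa [show C 0 0 * C 0 0 * x = β' by linear_combination (C 0 0) * e01 + β' * had]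
  obtain ⟨S, hS⟩ := hUp.exists_le_sylow
  have hSU : (S : Subgroup K) = uh.range := by
    refine le_antisymm ?_ hS
    by_contra hlt
    haveI : Group.IsNilpotent S := S.2.isNilpotent
    have hne : uh.range.subgroupOf (S : Subgroup K) < ⊤ :=
      lt_top_iff_ne_top.2 fun e => hlt (Subgroup.subgroupOf_eq_top.1 e)
    obtain ⟨⟨c, hcS⟩, hc, hcU⟩ := SetLike.exists_of_lt (normalizerCondition_of_isNilpotent _ hne)
    obtain ⟨a, d, h10, ha, hd, had, -⟩ := hnorm c fun y hy =>
      (Subgroup.mem_normalizer_iff.1 hc ⟨y, hS hy⟩).1 hy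
    have hcp : ∀ l : ℕ, ((c.1 ^ l : Matrix.SpecialLinearGroup (Fin 2) R) : Matrix (Fin 2) (Fin 2) R) 0 0 =
        a ^ l := by
      intro l
      induction l with
      | zero => simp
      | succ l ih =>
        rw [pow_succ, Matrix.SpecialLinearGroup.coe_mul, Matrix.mul_apply, Fin.sum_univ_two, ih, h10, mul_zero,
          add_zero, ha, ← pow_succ]
    obtain ⟨j, hj⟩ := S.2 ⟨c, hcS⟩
    have hap : a ^ (p ^ j) = 1 := by
      rw [← hcp, show c.1 ^ (p ^ j) = 1 from congrArg (fun y : S => y.1.1) hj]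
      simp
    have ha1 : a = 1 := sub_eq_zero.1 (IsReduced.eq_zero _ ⟨p ^ j, by rw [sub_pow_char_pow, hap, one_pow, sub_self]⟩)
    have hd1 : d = 1 := by rwa [ha1, one_mul] at had
    have hcu : c.1 = SLTwo.uu (c.1.1 0 1) := by
      apply Subtype.ext
      ext i k
      fin_cases i <;> fin_cases k
      · exact ha.trans ha1
      · rfl
      · exact h10
      · exact hd.trans hd1
    have hx : c.1.1 0 1 ∈ U := (hU _).2 (hcu ▸ c.2)
    exact hcU ⟨Multiplicative.ofAdd ⟨_, hx⟩, Subtype.ext hcu.symm⟩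
  -- the residue fields
  let χ : ∀ I : Ideal R, R →+* R ⧸ I := fun I => Ideal.Quotient.mk I
  have main : ∀ (I J : Ideal R) [I.IsMaximal] [J.IsMaximal],
      (∀ y : R ⧸ I, ∃ x ∈ U, χ I x = y) ∧
      (I = J → ∀ y : R ⧸ I, ∃ m : R, (∀ x ∈ U, m * x ∈ U) ∧ χ I m = y) ∧
      (I ≠ J → ∃ m : R, (∀ x ∈ U, m * x ∈ U) ∧ m ∈ I ∧ m ∉ J) := by
    intro I J _ _
    letI : Field (R ⧸ I) := Ideal.Quotient.field I
    letI : Field (R ⧸ J) := Ideal.Quotient.field J
    have hfull : ∀ (P : Ideal R) [P.IsMaximal], letI : Field (R ⧸ P) := Ideal.Quotient.field P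
        4 ≤ Fintype.card (R ⧸ P) ∧ (2 : R ⧸ P) ≠ 0 ∧ χ P A ≠ 0 ∧
        (K.map ((mk (L := R ⧸ P)).comp (Matrix.SpecialLinearGroup.map (χ P))) = ⊤) := by
      intro P hP
      letI : Field (R ⧸ P) := Ideal.Quotient.field P
      have hinj : Function.Injective (algebraMap F (R ⧸ P)) := (algebraMap F (R ⧸ P)).injective
      have halg : ∀ r : F, χ P (algebraMap F R r) = algebraMap F (R ⧸ P) r := fun r =>
        Ideal.Quotient.mk_algebraMap F P r
      have hgen' : ∀ S' : Subfield (R ⧸ P), χ P A ∈ S' → (∀ r : F, algebraMap F (R ⧸ P) r ∈ S') → S' = ⊤ := by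
        intro S' h1 h2
        refine eq_top_iff.2 fun y hy => ?_
        clear hy
        obtain ⟨x, rfl⟩ := Ideal.Quotient.mk_surjective y
        have hx : x ∈ Algebra.adjoin F {A} := hgen ▸ Algebra.mem_top
        induction hx using Algebra.adjoin_induction with
        | mem z hz => rw [Set.mem_singleton_iff.1 hz]; exact h1
        | algebraMap r => exact (halg r).symm ▸ h2 r
        | add z w _ _ hz hw => rw [map_add]; exact S'.add_mem hz hw
        | mul z w _ _ hz hw => rw [map_mul]; exact S'.mul_mem hz hw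
      have hA0 : χ P A ≠ 0 := fun e => hP.ne_top (Ideal.eq_top_of_isUnit_mem _ (Ideal.Quotient.eq_zero_iff_mem.1 e) hA)
      have h2 : (2 : R ⧸ P) ≠ 0 := fun e => hodd (hinj (by rw [map_ofNat, map_zero, e]))
      have hFL := Fintype.card_le_of_injective _ hinj
      have h3F : 3 ≤ Fintype.card F := by
        by_contra h
        have := Fintype.one_lt_card (α := F)
        refine hodd ?_
        have := FiniteField.cast_card_eq_zero F
        rw [show Fintype.card F = 2 by omega] at this
        exact_mod_cast this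
      have h4 : 4 ≤ Fintype.card (R ⧸ P) := by
        by_contra h
        push Not at h
        obtain ⟨r, hr⟩ := ((Fintype.bijective_iff_injective_and_card _).2
          ⟨hinj, show Fintype.card F = Fintype.card (R ⧸ P) by omega⟩).2 (χ P A)
        exact (hgood P hP (by omega)).1 r (Ideal.Quotient.eq.1 (hr.symm.trans (halg r).symm))
      refine ⟨h4, h2, hA0, full_image (F := F) _ (χ P A) hodd (fun r => ⟨_, hu r, ?_⟩) (fun r => ⟨_, hl r, ?_⟩)
        hA0 hgen' h4 fun h3 => (hgood P hP h3).2⟩
      · rw [MonoidHom.comp_apply]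
        congr 1
        refine Subtype.ext (Matrix.ext fun i k => ?_)
        fin_cases i <;> fin_cases k <;> simp [coe_uu, halg]
      · rw [MonoidHom.comp_apply]
        congr 1
        refine Subtype.ext (Matrix.ext fun i k => ?_)
        fin_cases i <;> fin_cases k <;> simp [coe_ll, Algebra.smul_def, halg]
    obtain ⟨hI4, hI2, hIA, hIK⟩ := hfull I
    obtain ⟨hJ4, hJ2, hJA, hJK⟩ := hfull J
    let fI : K →* Matrix.ProjectiveSpecialLinearGroup (Fin 2) (R ⧸ I) :=
      ((mk (L := R ⧸ I)).comp (Matrix.SpecialLinearGroup.map (χ I))).comp K.subtype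
    let fJ : K →* Matrix.ProjectiveSpecialLinearGroup (Fin 2) (R ⧸ J) :=
      ((mk (L := R ⧸ J)).comp (Matrix.SpecialLinearGroup.map (χ J))).comp K.subtype
    have hIsurj : Function.Surjective fI := fun y => by
      obtain ⟨k, hk, e⟩ := (hIK.symm.le (Subgroup.mem_top y))
      exact ⟨⟨k, hk⟩, e⟩
    have hJsurj : Function.Surjective fJ := fun y => by
      obtain ⟨k, hk, e⟩ := (hJK.symm.le (Subgroup.mem_top y))
      exact ⟨⟨k, hk⟩, e⟩
    have huI : ∀ (x : R) (hx : SLTwo.uu x ∈ K), fI ⟨_, hx⟩ = mk (SLTwo.uu (χ I x)) := fun x hx => by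
      show mk _ = _
      congr 1
      refine Subtype.ext (Matrix.ext fun i k => ?_)
      fin_cases i <;> fin_cases k <;> simp [coe_uu]
    have huJ : ∀ (x : R) (hx : SLTwo.uu x ∈ K), fJ ⟨_, hx⟩ = mk (SLTwo.uu (χ J x)) := fun x hx => by
      show mk _ = _
      congr 1
      refine Subtype.ext (Matrix.ext fun i k => ?_)
      fin_cases i <;> fin_cases k <;> simp [coe_uu]
    let ubI : Multiplicative (R ⧸ I) →* Matrix.ProjectiveSpecialLinearGroup (Fin 2) (R ⧸ I) :=
      { toFun := fun y => mk (SLTwo.uu y.toAdd)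
        map_one' := by simp [uu_zero]
        map_mul' := fun a b => by rw [← map_mul, uu_add, toAdd_mul] }
    let ubJ : Multiplicative (R ⧸ J) →* Matrix.ProjectiveSpecialLinearGroup (Fin 2) (R ⧸ J) :=
      { toFun := fun y => mk (SLTwo.uu y.toAdd)
        map_one' := by simp [uu_zero]
        map_mul' := fun a b => by rw [← map_mul, uu_add, toAdd_mul] }
    -- the projections of the upper part are everything
    have hUsurj : ∀ y : R ⧸ I, ∃ x ∈ U, χ I x = y := by
      have hbar : IsPGroup p ubI.range := by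
        rintro ⟨_, r, rfl⟩
        refine ⟨1, Subtype.ext ?_⟩
        show (mk (SLTwo.uu r.toAdd)) ^ (p ^ 1) = 1
        haveI : CharP (R ⧸ I) p := charP_of_injective_algebraMap (algebraMap F (R ⧸ I)).injective p
        rw [pow_one, ← map_pow, uu_pow, CharP.cast_eq_zero, zero_mul, uu_zero, map_one]
      obtain ⟨T, hT⟩ := hbar.exists_le_sylow
      set T' := S.mapSurjective hIsurj
      have hcard : Nat.card T = Nat.card T' := by rw [T.card_eq_multiplicity, T'.card_eq_multiplicity]
      have himg : ∀ y : T', ∃ x ∈ U, (y : Matrix.ProjectiveSpecialLinearGroup (Fin 2) (R ⧸ I)) =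
          mk (SLTwo.uu (χ I x)) := by
        rintro ⟨_, hy⟩
        obtain ⟨k, hk, rfl⟩ := (show _ ∈ (S : Subgroup K).map fI from hy)
        rw [hSU] at hk
        obtain ⟨x, rfl⟩ := hk
        exact ⟨x.toAdd, x.toAdd.2, huI _ _⟩
      choose xo hxoU hxo using himg
      let g : T' → R ⧸ I := fun y => χ I (xo y)
      have hg : Function.Injective g := fun y y' e => Subtype.ext (by rw [hxo y, hxo y']; exact congrArg _ (congrArg _ e))
      have hle : Nat.card (R ⧸ I) ≤ Nat.card T' := by
        rw [← hcard]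
        exact Nat.card_le_card_of_injective (fun y : R ⧸ I => (⟨_, hT ⟨Multiplicative.ofAdd y, rfl⟩⟩ : T))
          fun a b e => mk_uu_inj (congrArg Subtype.val e)
      intro y
      obtain ⟨t, ht⟩ := ((Nat.bijective_iff_injective_and_card g).2
        ⟨hg, le_antisymm (Nat.card_le_card_of_injective g hg) hle⟩).2 y
      exact ⟨xo t, hxoU t, ht⟩
    have hlift : ∀ (g : K) (s : R ⧸ I) (hs : s ≠ 0) (t : R ⧸ J) (ht : t ≠ 0), fI g = mk (dg s hs) →
        fJ g = mk (dg t ht) → ∃ m : R, (∀ x ∈ U, m * x ∈ U) ∧ χ I m = s * s ∧ χ J m = t * t := by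
      intro g s hs t ht hgI hgJ
      set H := ubI.range.comap fI ⊓ ubJ.range.comap fJ
      have hUH : (S : Subgroup K) ≤ H := by
        rw [hSU]
        rintro _ ⟨x, rfl⟩
        exact ⟨⟨Multiplicative.ofAdd (χ I (x.toAdd : R)), (huI _ _).symm⟩,
          ⟨Multiplicative.ofAdd (χ J (x.toAdd : R)), (huJ _ _).symm⟩⟩
      have hgH : ((g • S : Sylow p K) : Subgroup K) ≤ H := by
        rintro _ ⟨y, hy, rfl⟩
        obtain ⟨⟨a, ha⟩, ⟨b, hb⟩⟩ := hUH hy
        constructor
        · refine ⟨Multiplicative.ofAdd (s * s * a.toAdd), ?_⟩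
          show mk (SLTwo.uu _) = fI (g * y * g⁻¹)
          rw [map_mul fI, map_mul fI, map_inv fI, hgI, ← ha]
          refine Eq.trans ?_ (show mk (dg s hs * SLTwo.uu a.toAdd * (dg s hs)⁻¹) = _ by
            rw [map_mul, map_mul, map_inv]; rfl)
          rw [dg_conj]
          rfl
        · refine ⟨Multiplicative.ofAdd (t * t * b.toAdd), ?_⟩
          show mk (SLTwo.uu _) = fJ (g * y * g⁻¹)
          rw [map_mul fJ, map_mul fJ, map_inv fJ, hgJ, ← hb]
          refine Eq.trans ?_ (show mk (dg t ht * SLTwo.uu b.toAdd * (dg t ht)⁻¹) = _ by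
            rw [map_mul, map_mul, map_inv]; rfl)
          rw [dg_conj]
          rfl
      obtain ⟨h, hh⟩ := MulAction.exists_smul_eq H ((g • S).subtype hgH) (S.subtype hUH)
      have hfix : ((h : K) * g) • S = S := by
        rw [Sylow.smul_subtype] at hh
        rw [mul_smul]
        exact Sylow.subtype_injective hh
      have hkS : ∀ y ∈ uh.range, (h : K) * g * y * ((h : K) * g)⁻¹ ∈ uh.range := by
        intro y hy
        rw [← hSU] at hy ⊢
        have := congrArg (fun T : Sylow p K => (T : Subgroup K)) hfix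
        exact this ▸ Subgroup.smul_mem_pointwise_smul y (MulAut.conj ((h : K) * g)) _ hy
      obtain ⟨a, d, -, ha, -, -, haU⟩ := hnorm _ hkS
      obtain ⟨⟨yI, hyI⟩, ⟨yJ, hyJ⟩⟩ := h.2
      refine ⟨a * a, haU, ?_, ?_⟩
      · have e : fI ((h : K) * g) = mk (SLTwo.uu yI.toAdd * dg s hs) := by
          rw [map_mul, map_mul, hgI, ← hyI]; rfl
        obtain ⟨c, hc, he⟩ := mk_eq e
        have e00 := congrFun (congrFun he 0) 0
        rw [Matrix.smul_apply] at e00
        have e' : χ I a = c * s := by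
          rw [← ha]
          refine e00.trans ?_
          rw [Matrix.SpecialLinearGroup.coe_mul, coe_uu]
          simp [dg, Matrix.mul_apply, Fin.sum_univ_two]
        rw [map_mul, e']
        rcases hc with rfl | rfl <;> ring
      · have e : fJ ((h : K) * g) = mk (SLTwo.uu yJ.toAdd * dg t ht) := by
          rw [map_mul, map_mul, hgJ, ← hyJ]; rfl
        obtain ⟨c, hc, he⟩ := mk_eq e
        have e00 := congrFun (congrFun he 0) 0
        rw [Matrix.smul_apply] at e00
        have e' : χ J a = c * t := by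
          rw [← ha]
          refine e00.trans ?_
          rw [Matrix.SpecialLinearGroup.coe_mul, coe_uu]
          simp [dg, Matrix.mul_apply, Fin.sum_univ_two]
        rw [map_mul, e']
        rcases hc with rfl | rfl <;> ring
    refine ⟨hUsurj, ?_, fun hIJ => ?_⟩
    · rintro rfl y
      have hsqs : ∀ s : R ⧸ I, ∃ m : R, (∀ x ∈ U, m * x ∈ U) ∧ χ I m = s * s := by
        intro s
        rcases eq_or_ne s 0 with rfl | hs
        · exact ⟨0, fun x _ => by rw [zero_mul]; exact U.zero_mem, by rw [map_zero, mul_zero]⟩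
        obtain ⟨g, hg⟩ := hIsurj (mk (dg s hs))
        obtain ⟨m, hm, e1, -⟩ := hlift g s hs s hs hg hg
        exact ⟨m, hm, e1⟩
      obtain ⟨m₁, hm₁, e₁⟩ := hsqs ((y + 1) / 2)
      obtain ⟨m₂, hm₂, e₂⟩ := hsqs ((y - 1) / 2)
      refine ⟨m₁ - m₂, fun x hx => by rw [sub_mul]; exact U.sub_mem (hm₁ x hx) (hm₂ x hx), ?_⟩
      rw [map_sub, e₁, e₂]
      field_simp
      ring
    · -- separation
      by_cases hker : ∀ k, fI k = 1 → fJ k = 1
      · exfalso
        let θ : Matrix.ProjectiveSpecialLinearGroup (Fin 2) (R ⧸ I) →*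
            Matrix.ProjectiveSpecialLinearGroup (Fin 2) (R ⧸ J) :=
          fI.liftOfSurjective hIsurj ⟨fJ, fun k hk => hker k hk⟩
        have hθ : ∀ k, θ (fI k) = fJ k := fun k =>
          MonoidHom.liftOfRightInverse_comp_apply fI _ (Function.rightInverse_surjInv hIsurj)
            ⟨fJ, fun k hk => hker k hk⟩ k
        choose xo hxoU hxo using hUsurj
        let φ : R ⧸ I → R ⧸ J := fun y => χ J (xo y)
        have hφθ : ∀ y, θ (mk (SLTwo.uu y)) = mk (SLTwo.uu (φ y)) := fun y => by
          have hx := (hU _).1 (hxoU y)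
          calc θ (mk (SLTwo.uu y)) = θ (fI ⟨_, hx⟩) := by rw [huI, hxo]
            _ = _ := by rw [hθ, huJ]
        have hφχ : ∀ x ∈ U, φ (χ I x) = χ J x := fun x hx => by
          refine mk_uu_inj ?_
          rw [← hφθ, ← huI x ((hU x).1 hx), hθ, huJ]
        have hφadd : ∀ a b, φ (a + b) = φ a + φ b := fun a b => mk_uu_inj (by
          rw [← hφθ, ← uu_add, map_mul, map_mul, hφθ, hφθ, ← map_mul, uu_add])
        have hφF : ∀ r : F, φ (χ I (algebraMap F R r)) = χ J (algebraMap F R r) := fun r =>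
          hφχ _ ((hU _).2 (hu r))
        have hφ1 : φ 1 = 1 := by simpa using hφF 1
        have hlA : ll A ∈ K := by simpa using hl 1
        have hlI : θ (mk (ll (χ I A))) = mk (ll (χ J A)) := by
          have e1 : fI ⟨_, hlA⟩ = mk (ll (χ I A)) := by
            show mk _ = _
            congr 1
            refine Subtype.ext (Matrix.ext fun i k => ?_)
            fin_cases i <;> fin_cases k <;> simp [coe_ll]
          have e2 : fJ ⟨_, hlA⟩ = mk (ll (χ J A)) := by
            show mk _ = _
            congr 1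
            refine Subtype.ext (Matrix.ext fun i k => ?_)
            fin_cases i <;> fin_cases k <;> simp [coe_ll]
          rw [← e1, hθ, e2]
        have hlow : ∀ y : R ⧸ I, ∃ c, θ (mk (ll y)) = mk (ll c) := by
          intro y
          obtain ⟨M, hM⟩ := QuotientGroup.mk'_surjective _ (θ (mk (ll y)))
          obtain ⟨c, hc⟩ := comm_lower hJ2 hJA (M := M) (by
            rw [map_mul, map_mul, show mk M = θ (mk (ll y)) from hM, ← hlI, ← map_mul, ← map_mul, ← map_mul, ← map_mul,
              ll_add, ll_add, add_comm])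
          exact ⟨c, hM.symm.trans hc⟩
        choose ψ hψ using hlow
        have hw : ∀ x, x ≠ 0 → φ x ≠ 0 ∧ ψ (-x⁻¹) = -(φ x)⁻¹ ∧ θ (mk (wy x)) = mk (wy (φ x)) := by
          intro x hx
          set e := ψ (-x⁻¹)
          set f := φ x
          set M := SLTwo.uu f * ll e * SLTwo.uu f with hMdef
          have hθw : θ (mk (wy x)) = mk M := by
            simp only [wy, hMdef, map_mul, hφθ, hψ, e, f]
          have hconj : wy x * SLTwo.uu 1 = ll (-(x ^ 2)⁻¹) * wy x := by
            apply Subtype.ext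
            rw [Matrix.SpecialLinearGroup.coe_mul, Matrix.SpecialLinearGroup.coe_mul, coe_wy hx, coe_uu, coe_ll]
            ext i k
            fin_cases i <;> fin_cases k <;> simp [Matrix.mul_apply, Fin.sum_univ_two]
            all_goals field_simp
          have h1 := congrArg θ (congrArg mk hconj)
          rw [map_mul, map_mul, map_mul, map_mul, hθw, hφθ, hφ1, hψ, ← map_mul, ← map_mul] at h1
          obtain ⟨c, hc, he⟩ := mk_eq h1
          simp only [Matrix.SpecialLinearGroup.coe_mul, coe_ll] at he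
          rw [show ((SLTwo.uu (1 : R ⧸ J)) : Matrix (Fin 2) (Fin 2) (R ⧸ J)) = !![1, 1; 0, 1] from rfl] at he
          have hM00 : M 0 0 = 1 + f * e := by
            simp [hMdef, coe_uu, coe_ll, Matrix.mul_apply, Fin.sum_univ_two]
          have e00 := congrFun (congrFun he 0) 0
          have e01 := congrFun (congrFun he 0) 1
          simp [Matrix.mul_apply, Matrix.vecMul, dotProduct, Fin.sum_univ_two] at e00 e01
          have h00 : M 0 0 = 0 := by
            rcases hc with rfl | rfl
            · linear_combination e01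
            · exact mul_left_cancel₀ hJ2 (by linear_combination e00)
          rw [hM00] at h00
          have hf0 : f ≠ 0 := fun h => one_ne_zero (α := R ⧸ J) (by rw [h, zero_mul, add_zero] at h00; exact h00)
          have he' : e = -f⁻¹ := by
            field_simp
            linear_combination h00
          exact ⟨hf0, he', by rw [hθw, hMdef, he']; rfl⟩
        have hdg : ∀ x (hx : x ≠ 0), θ (mk (dg x hx)) = mk (dg (φ x) (hw x hx).1) := fun x hx => by
          have h1 := (hw 1 one_ne_zero).2.2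
          rw [hφ1] at h1
          calc θ (mk (dg x hx)) = θ (mk (wy x)) * (θ (mk (wy 1)))⁻¹ := by
                rw [dg_eq_wy, map_mul, map_mul, map_inv, map_inv]
            _ = mk (wy (φ x)) * (mk (wy 1))⁻¹ := congrArg₂ (fun a b => a * b⁻¹) (hw x hx).2.2 h1
            _ = _ := by rw [dg_eq_wy, map_mul, map_inv]
        have hφ0 : φ 0 = 0 := by simpa using hφF 0
        have hsq : ∀ x, φ (x * x) = φ x * φ x := by
          intro x
          rcases eq_or_ne x 0 with rfl | hx
          · rw [mul_zero, hφ0, mul_zero]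
          refine mk_uu_inj ?_
          calc mk (SLTwo.uu (φ (x * x))) = θ (mk (dg x hx * SLTwo.uu 1 * (dg x hx)⁻¹)) := by
                rw [dg_conj, mul_one, hφθ]
            _ = θ (mk (dg x hx)) * θ (mk (SLTwo.uu 1)) * (θ (mk (dg x hx)))⁻¹ := by
                simp only [map_mul, map_inv]
            _ = mk (dg (φ x) (hw x hx).1 * SLTwo.uu 1 * (dg (φ x) (hw x hx).1)⁻¹) := by
                rw [hdg x hx, hφθ, hφ1, map_mul, map_mul, map_inv]
            _ = _ := by rw [dg_conj, mul_one]
        let φh : R ⧸ I →+* R ⧸ J :=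
          { toFun := φ
            map_one' := hφ1
            map_zero' := hφ0
            map_add' := hφadd
            map_mul' := fun a b => by
              refine mul_left_cancel₀ hJ2 ?_
              have e := hsq (a + b)
              rw [show (a + b) * (a + b) = a * a + b * b + (a * b + a * b) by ring, hφadd, hφadd, hφadd, hφadd,
                hsq, hsq] at e
              linear_combination e }
        have hφA : φh (χ I A) = χ J A := by
          have hx : -(χ I A)⁻¹ ≠ 0 := neg_ne_zero.2 (inv_ne_zero hIA)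
          have e := (hw _ hx).2.1
          rw [show -(-(χ I A)⁻¹)⁻¹ = χ I A by rw [inv_neg, inv_inv, neg_neg]] at e
          have e2 : ψ (χ I A) = χ J A := mk_ll_inj (by rw [← hψ, hlI])
          rw [e2] at e
          show φ (χ I A) = _
          rw [e, show φ (-(χ I A)⁻¹) = φh (-(χ I A)⁻¹) from rfl, map_neg, map_inv₀, inv_neg, inv_inv, neg_neg]
          rfl
        have heq : ∀ x : R, φh (χ I x) = χ J x := by
          intro x
          have hx : x ∈ Algebra.adjoin F {A} := hgen ▸ Algebra.mem_top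
          induction hx using Algebra.adjoin_induction with
          | mem z hz => rw [Set.mem_singleton_iff.1 hz]; exact hφA
          | algebraMap r => exact hφF r
          | add z w _ _ hz hw => rw [map_add, map_add, map_add, hz, hw]
          | mul z w _ _ hz hw => rw [map_mul, map_mul, map_mul, hz, hw]
        refine hIJ (Ideal.IsMaximal.eq_of_le inferInstance (Ideal.IsMaximal.ne_top inferInstance) fun x hx => ?_)
        have := heq x
        rw [show χ I x = 0 from Ideal.Quotient.eq_zero_iff_mem.2 hx, map_zero] at this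
        exact Ideal.Quotient.eq_zero_iff_mem.1 this.symm
      · haveI := Matrix.ProjectiveSpecialLinearGroup.rank_two_simple (F := R ⧸ J)
          (by rw [Nat.card_eq_fintype_card]; exact hJ4)
        have hn : (fI.ker.map fJ).Normal := Subgroup.Normal.map inferInstance fJ hJsurj
        have htop : fI.ker.map fJ = ⊤ := by
          refine hn.eq_bot_or_eq_top.resolve_left fun hb => hker fun k hk => ?_
          have : fJ k ∈ fI.ker.map fJ := Subgroup.mem_map_of_mem _ hk
          rwa [hb, Subgroup.mem_bot] at this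
        obtain ⟨t, ht, ht2⟩ : ∃ t : R ⧸ J, t ≠ 0 ∧ t * t ≠ 1 := by
          by_contra hcon
          push Not at hcon
          have hsub : (Finset.univ : Finset (R ⧸ J)) ⊆ {0, 1, -1} := fun z _ => by
            rcases eq_or_ne z 0 with rfl | hz
            · simp
            · rcases mul_self_eq_one_iff.1 (hcon z hz) with rfl | rfl <;> simp
          have h1 := (Finset.card_le_card hsub).trans Finset.card_le_three
          rw [Finset.card_univ] at h1
          omega
        obtain ⟨g, hg, hgJ⟩ := htop.symm.le (Subgroup.mem_top (mk (dg t ht)))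
        obtain ⟨m, hm, hmI, hmJ⟩ := hlift g 1 one_ne_zero t ht
          ((MonoidHom.mem_ker.1 hg).trans (by
            rw [show dg (1 : R ⧸ I) one_ne_zero = 1 from Subtype.ext (by
              ext i k; fin_cases i <;> fin_cases k <;> simp [dg]), map_one])) hgJ
        refine ⟨m - 1, fun x hx => by rw [sub_mul, one_mul]; exact U.sub_mem (hm x hx) hx,
          Ideal.Quotient.eq.1 (by simpa [χ] using hmI), fun h => ht2 ?_⟩
        rw [← hmJ]
        simpa [χ] using Ideal.Quotient.eq.2 h
  -- the Chinese remainder theorem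
  refine eq_top_iff.2 fun x _ => ?_
  let Q : Subring R :=
    { carrier := {m | ∀ x ∈ U, m * x ∈ U}
      mul_mem' := fun {a b} ha hb x hx => by rw [mul_assoc]; exact ha _ (hb x hx)
      one_mem' := fun x hx => by rwa [one_mul]
      add_mem' := fun {a b} ha hb x hx => by rw [add_mul]; exact U.add_mem (ha x hx) (hb x hx)
      zero_mem' := fun x _ => by rw [zero_mul]; exact U.zero_mem
      neg_mem' := fun {a} ha x hx => by rw [neg_mul]; exact U.neg_mem (ha x hx) }
  suffices hQ : x ∈ Q by simpa using hQ 1 h1U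
  haveI : IsArtinianRing R := inferInstance
  haveI : Finite (MaximalSpectrum R) := inferInstance
  haveI := Fintype.ofFinite (MaximalSpectrum R)
  let T := MaximalSpectrum R
  haveI : ∀ I : T, I.asIdeal.IsMaximal := fun I => I.isMaximal
  have hblock : ∀ I : T, ∃ e ∈ Q, χ I.asIdeal e = χ I.asIdeal x ∧ ∀ J : T, J ≠ I → e ∈ J.asIdeal := by
    intro I
    letI : Field (R ⧸ I.asIdeal) := Ideal.Quotient.field I.asIdeal
    have hsep : ∀ J : T, ∃ m ∈ Q, m ∉ I.asIdeal ∧ (J ≠ I → m ∈ J.asIdeal) := by
      intro J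
      by_cases h : J = I
      · exact ⟨1, Q.one_mem, fun h1 => I.isMaximal.ne_top ((Ideal.eq_top_iff_one _).2 h1), fun h' => absurd h h'⟩
      · obtain ⟨m, hm, hmJ, hmI⟩ := (main J.asIdeal I.asIdeal).2.2 fun e => h (MaximalSpectrum.ext e)
        exact ⟨m, hm, hmI, fun _ => hmJ⟩
    choose m hmQ hmI hmJ using hsep
    set P := ∏ J, m J
    have hP : χ I.asIdeal P ≠ 0 := by
      rw [map_prod]
      exact Finset.prod_ne_zero_iff.2 fun J _ e => hmI J (Ideal.Quotient.eq_zero_iff_mem.1 e)
    obtain ⟨c, hc, hcy⟩ := (main I.asIdeal I.asIdeal).2.1 rfl (χ I.asIdeal x / χ I.asIdeal P)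
    refine ⟨P * c, Q.mul_mem (prod_mem fun J _ => hmQ J) hc, ?_, fun J hJ => ?_⟩
    · rw [map_mul, hcy, mul_div_cancel₀ _ hP]
    · exact Ideal.mul_mem_right _ _ (Ideal.mem_of_dvd _ (Finset.dvd_prod_of_mem _ (Finset.mem_univ J)) (hmJ J hJ))
  choose e heQ heI heJ using hblock
  have hx : x = ∑ I, e I := by
    refine sub_eq_zero.1 (IsReduced.eq_zero _ (nilpotent_iff_mem_prime.2 fun P hP => ?_))
    let I : T := ⟨P, IsArtinianRing.isMaximal_of_isPrime P⟩
    show _ ∈ I.asIdeal
    rw [← Ideal.Quotient.eq_zero_iff_mem, map_sub, map_sum, Finset.sum_eq_single I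
      (fun J _ hJ => Ideal.Quotient.eq_zero_iff_mem.2 (heJ J I hJ.symm)) (fun h => absurd (Finset.mem_univ I) h)]
    exact sub_eq_zero.2 (heI I).symm
  rw [hx]
  exact sum_mem fun I _ => heQ I

end Cfsg.Agent.Lib.OrthExtOdd.SLSemi
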