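import Cfsg.Agent.Lib.Subspaces.OmegaGL
import Cfsg.Agent.Lib.K41.ExtForm.OfMatrix

/-!
An extension `K / F` of odd prime degree acting self-adjointly on an orthogonal space in odd characteristic: the
symmetric `K`-form, hyperbolic frames, and isometries given by linear maps.
Owner: helper93.
-/

set_option autoImplicit false
set_option linter.unusedSectionVars false
set_option linter.style.haveILetI false

namespace Cfsg.Agent.Lib.OrthExtOdd

open scoped commutatorElement

open Matrix Module Cfsg.Agent.Lib.Subspaces.Transvection Cfsg.Agent.Lib.Subspaces.FormVec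
  Cfsg.Agent.Lib.Subspaces.OrthForm Cfsg.Agent.Lib.Subspaces.OmegaGL Cfsg.Agent.Lib.K41.ExtForm

/-- The data: the `K`-form whose trace is the polar form of `Q`. -/
structure Setting (F K : Type*) (ι : Type) [Fintype ι] [DecidableEq ι] [Field F] [Field K]
    [Algebra F K] [Module K (ι → F)] where
  Q : (ι → F) → F
  hQ : Cfsg.Geo.IsNondegenerateQuadraticForm Q
  h : LinearMap.BilinForm K (ι → F)
  symm : ∀ x y, h x y = h y x
  trace : ∀ x y, Algebra.trace F K (h x y) = QuadraticMap.polar Q x y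
  two : (2 : F) ≠ 0
  prime : (finrank F K).Prime
  odd : finrank F K ≠ 2
  dim : 3 ≤ finrank K (ι → F)

variable {ι : Type} [Fintype ι] [DecidableEq ι] {F K : Type*} [Field F] [Field K] [Algebra F K]
  [Module K (ι → F)] [IsScalarTower F K (ι → F)] [Finite F] [Finite K]

local notation "V" => (ι → F)

/-- An automorphism as a matrix. -/
noncomputable def ofEquiv (e : V ≃ₗ[F] V) : GL ι F := glEquiv.symm e

theorem ofEquiv_mulVec (e : V ≃ₗ[F] V) (x : V) : (ofEquiv e : Matrix ι ι F) *ᵥ x = e x := by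
  rw [← glEquiv_apply, ofEquiv, MulEquiv.apply_symm_apply]

/-- Commuting with the scalars of `K`. -/
def Lin (K : Type*) [Field K] [Module K (ι → F)] (g : GL ι F) : Prop :=
  ∀ (c : K) (x : ι → F), (g : Matrix ι ι F) *ᵥ (c • x) = c • (g : Matrix ι ι F) *ᵥ x

/-- Semilinearity for the extension. -/
def Semi (K : Type*) [Field K] [Module K (ι → F)] (g : GL ι F) : Prop :=
  ∀ c : K, ∃ d : K, ∀ x : ι → F, (g : Matrix ι ι F) *ᵥ (c • x) = d • (g : Matrix ι ι F) *ᵥ x

theorem lin_mul {a b : GL ι F} (ha : Lin K a) (hb : Lin K b) : Lin K (a * b) := fun c x => by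
  rw [gl_mul_mulVec, gl_mul_mulVec, hb, ha]

theorem lin_inv {a : GL ι F} (ha : Lin K a) : Lin K a⁻¹ := fun c x => by
  refine gl_mulVec_injective a ?_
  show (a : Matrix ι ι F) *ᵥ _ = (a : Matrix ι ι F) *ᵥ _
  rw [gl_mulVec_inv, ha, gl_mulVec_inv]

theorem Lin.semi {a : GL ι F} (ha : Lin K a) : Semi K a := fun c => ⟨c, ha c⟩

namespace Setting

variable (S : Setting F K ι)

theorem twoK (S : Setting F K ι) : (2 : K) ≠ 0 := fun h =>
  S.two ((algebraMap F K).injective (by simpa [map_ofNat] using h))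

theorem three_le (S : Setting F K ι) : 3 ≤ finrank F K := by
  have := S.prime.two_le
  have := S.odd
  omega

theorem Q_eq (x : V) : 2 * S.Q x = Algebra.trace F K (S.h x x) := by
  rw [S.trace, B_self S.hQ]

theorem Q_zero_of {x : V} (hx : Algebra.trace F K (S.h x x) = 0) : S.Q x = 0 :=
  (mul_eq_zero.1 ((S.Q_eq x).trans hx)).resolve_left S.two

theorem nondeg (x : V) (hx : ∀ y, S.h x y = 0) : x = 0 := by
  by_contra hne
  obtain ⟨-, y, hy⟩ := S.hQ.nondegenerate x hne
  exact hy (by rw [← S.trace, hx, map_zero])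

theorem nondegenerate : S.h.Nondegenerate :=
  ⟨fun x hx => S.nondeg x hx, fun x hx => S.nondeg x fun y => by rw [S.symm]; exact hx y⟩

theorem B_nondeg {x : V} (hx : ∀ y, QuadraticMap.polar S.Q x y = 0) : x = 0 := by
  by_contra hne
  obtain ⟨-, y, hy⟩ := S.hQ.nondegenerate x hne
  exact hy (hx y)

theorem h_add_self (x y : V) : S.h (x + y) (x + y) = S.h x x + 2 * S.h x y + S.h y y := by
  simp only [map_add, LinearMap.add_apply, S.symm y x]; ring

/-- An automorphism preserving the `K`-form is an isometry. -/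
theorem ofEquiv_iso {e : V ≃ₗ[F] V} (he : ∀ x, S.h (e x) (e x) = S.h x x) :
    ofEquiv e ∈ Cfsg.isometryGroup F S.Q := by
  intro x _
  simp only [Units.coeHom_apply, ofEquiv_mulVec]
  refine mul_left_cancel₀ S.two ?_
  rw [S.Q_eq, S.Q_eq, he]

theorem commutator_mem_omega {a b : GL ι F} (ha : a ∈ Cfsg.isometryGroup F S.Q)
    (hb : b ∈ Cfsg.isometryGroup F S.Q) : a * b * a⁻¹ * b⁻¹ ∈ Cfsg.Geo.omegaGL S.Q :=
  ⟨⁅(⟨a, ha⟩ : Cfsg.isometryGroup F S.Q), ⟨b, hb⟩⁆,
    Subgroup.commutator_mem_commutator (Subgroup.mem_top _) (Subgroup.mem_top _),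
    map_commutatorElement _ _ _⟩

/-- Overgroups of the linear isometries. -/
structure Over (M : Subgroup (GL ι F)) : Prop where
  le : M ≤ Cfsg.Geo.omegaGL S.Q
  lin : ∀ g ∈ Cfsg.Geo.omegaGL S.Q, Lin K g → g ∈ M

/-- A hyperbolic pair over `K`. -/
structure Frame (u u' : V) : Prop where
  uu : S.h u u = 0
  uu' : S.h u' u' = 0
  pair : S.h u u' = 1

variable {S}
variable {u u' : ι → F}

theorem Frame.pair' (P : S.Frame u u') : S.h u' u = 1 := (S.symm u' u).trans P.pair

theorem Frame.symm (P : S.Frame u u') : S.Frame u' u := ⟨P.uu', P.uu, P.pair'⟩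

theorem Frame.ne_zero (P : S.Frame u u') : u ≠ 0 := fun h => by
  have := P.pair
  rw [h, map_zero, LinearMap.zero_apply] at this
  exact zero_ne_one this

variable (S u u')

/-- The orthogonal of a pair. -/
def mid : Submodule K V where
  carrier := {w | S.h w u = 0 ∧ S.h w u' = 0}
  zero_mem' := ⟨by simp, by simp⟩
  add_mem' := fun {a b} ha hb => ⟨by simp [ha.1, hb.1], by simp [ha.2, hb.2]⟩
  smul_mem' := fun c {a} ha => ⟨by simp [ha.1], by simp [ha.2]⟩

/-- The projection to the orthogonal of a pair. -/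
def proj (x : V) : V := x - S.h x u' • u - S.h x u • u'

variable {S u u'}

theorem mem_mid {w : V} : w ∈ S.mid u u' ↔ S.h w u = 0 ∧ S.h w u' = 0 := Iff.rfl

theorem Frame.proj_mem (P : S.Frame u u') (x : V) : S.proj u u' x ∈ S.mid u u' := by
  constructor <;> simp [proj, P.uu, P.uu', P.pair, P.pair']

theorem decomp (x : V) : x = S.h x u' • u + S.proj u u' x + S.h x u • u' := by
  rw [proj]; abel

theorem Frame.mid_nondeg (P : S.Frame u u') {w : V} (hw : w ∈ S.mid u u')
    (h : ∀ z ∈ S.mid u u', S.h w z = 0) : w = 0 :=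
  S.nondeg w fun y => by
    rw [decomp (S := S) (u := u) (u' := u') y]
    simp [hw.1, hw.2, h _ (P.proj_mem y)]

theorem Frame.mid_comm (_P : S.Frame u u') : S.mid u' u = S.mid u u' := by
  ext w; exact and_comm

/-- The middle space has an anisotropic vector. -/
theorem Frame.exists_aniso (P : S.Frame u u') : ∃ z ∈ S.mid u u', S.h z z ≠ 0 := by
  by_contra hcon
  push Not at hcon
  have hzero : ∀ w ∈ S.mid u u', w = 0 := fun w hw => P.mid_nondeg hw fun z hz => by
    have h := hcon _ ((S.mid u u').add_mem hw hz)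
    rw [h_add_self, hcon w hw, hcon z hz, zero_add, add_zero] at h
    exact (mul_eq_zero.1 h).resolve_left S.twoK
  have hle : (⊤ : Submodule K V) ≤ Submodule.span K {u, u'} := fun x _ => by
    rw [decomp (S := S) (u := u) (u' := u') x, hzero _ (P.proj_mem x), add_zero]
    exact Submodule.mem_span_pair.2 ⟨_, _, rfl⟩
  haveI : FiniteDimensional K V := Module.Finite.of_finite
  have h1 := Submodule.finrank_mono hle
  have h2 := S.dim
  have h3 : finrank K (Submodule.span K ({u, u'} : Set V)) ≤ 2 := by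
    have : ({u, u'} : Set V) = Set.range ![u, u'] := by simp [Set.pair_comm]
    rw [this]
    exact (finrank_range_le_card _).trans (by simp)
  rw [finrank_top] at h1
  omega

/-- There is a hyperbolic pair. -/
theorem exists_frame (S : Setting F K ι) : ∃ u u', S.Frame u u' := by
  haveI : FiniteDimensional K V := Module.Finite.of_finite
  haveI : Invertible (2 : K) := invertibleOfNonzero S.twoK
  obtain ⟨b, hb⟩ := LinearMap.BilinForm.exists_orthogonal_basis (B := S.h) ⟨S.symm⟩
  have hne : ∀ i, S.h (b i) (b i) ≠ 0 := fun i hi => b.ne_zero i (S.nondeg _ fun y => by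
    rw [← b.sum_repr y, map_sum]
    refine Finset.sum_eq_zero fun j _ => ?_
    rcases eq_or_ne i j with rfl | hij
    · rw [map_smul, hi, smul_zero]
    · rw [map_smul, hb hij, smul_zero])
  have := Fintype.ofFinite K
  set i0 : Fin (finrank K V) := ⟨0, by have := S.dim; omega⟩
  set i1 : Fin (finrank K V) := ⟨1, by have := S.dim; omega⟩
  set i2 : Fin (finrank K V) := ⟨2, by have := S.dim; omega⟩
  have h01 : i0 ≠ i1 := by simp [i0, i1, Fin.ext_iff]
  have h02 : i0 ≠ i2 := by simp [i0, i2, Fin.ext_iff]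
  have h12 : i1 ≠ i2 := by simp [i1, i2, Fin.ext_iff]
  obtain ⟨x, y, hxy⟩ : ∃ x y : K, S.h (b i0) (b i0) * x ^ 2 + S.h (b i1) (b i1) * y ^ 2 = -S.h (b i2) (b i2) := by
    have hc : ringChar K ≠ 2 := fun e => S.twoK (by
      have : CharP K 2 := ringChar.eq_iff.mp e
      exact_mod_cast CharP.cast_eq_zero K 2)
    open Polynomial in
    obtain ⟨a, c, h⟩ := FiniteField.exists_root_sum_quadratic
      (f := C (S.h (b i0) (b i0)) * X ^ 2)
      (g := C (S.h (b i1) (b i1)) * X ^ 2 + C (S.h (b i2) (b i2)))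
      (degree_C_mul_X_pow 2 (hne i0))
      (by rw [degree_add_C (by rw [degree_C_mul_X_pow 2 (hne i1)]; decide)]; exact degree_C_mul_X_pow 2 (hne i1))
      (FiniteField.odd_card_of_char_ne_two hc)
    refine ⟨a, c, ?_⟩
    simp at h
    linear_combination h
  set v := x • b i0 + y • b i1 + b i2 with hv
  have o : ∀ i j, i ≠ j → S.h (b i) (b j) = 0 := fun i j h => hb h
  have hvv : S.h v v = 0 := by
    simp only [hv, map_add, LinearMap.add_apply, map_smul, LinearMap.smul_apply, smul_eq_mul,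
      o _ _ h01, o _ _ h01.symm, o _ _ h02, o _ _ h02.symm, o _ _ h12, o _ _ h12.symm]
    linear_combination hxy
  have hv2 : S.h v (b i2) ≠ 0 := by
    simp only [hv, map_add, LinearMap.add_apply, map_smul, LinearMap.smul_apply, smul_eq_mul,
      o _ _ h02, o _ _ h12]
    simpa using hne i2
  set t := (S.h v (b i2))⁻¹ • b i2 with ht
  have h1 : S.h v t = 1 := by rw [ht, map_smul, smul_eq_mul, inv_mul_cancel₀ hv2]
  refine ⟨v, t - (S.h t t / 2) • v, hvv, ?_, ?_⟩
  · simp only [map_sub, map_smul, LinearMap.sub_apply, LinearMap.smul_apply, smul_eq_mul, hvv,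
      S.symm t v, h1]
    field_simp [S.twoK]
    ring
  · rw [map_sub, h1, map_smul, hvv, smul_zero, sub_zero]

end Setting

end Cfsg.Agent.Lib.OrthExtOdd
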