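import Cfsg.Agent.Lib.OrthExtOdd.Nil
import Cfsg.Agent.Lib.OrthExtOdd.SLSemi
import Cfsg.Agent.Lib.OrthExtOdd.OfMatrix

/-!
All root elements in every odd prime degree at least five: the twist classes of the root elements in `M` are
spread by `SL(2)` over the commutative algebra of a generator of the Galois group.
Owner: helper93.
-/

set_option autoImplicit false
set_option linter.unusedSectionVars false
set_option linter.style.haveILetI false

namespace Cfsg.Agent.Lib.OrthExtOdd

open Matrix Module Cfsg.Agent.Lib.Subspaces.Transvection Cfsg.Agent.Lib.Subspaces.OrthForm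
  Cfsg.Agent.Lib.Subspaces.OmegaGL Cfsg.Agent.Lib.K41.ExtForm Cfsg.Agent.Lib.GeomSmallSp.OrthThree
  Cfsg.Agent.Lib.GeomSmallSp.OrthThree.SLTwo

namespace Setting

set_option maxHeartbeats 1600000

universe v

variable {F K : Type v} [Field F] [Field K] [Algebra F K] [Finite F] [Finite K] {ι : Type} [Fintype ι]
  [DecidableEq ι] [Module K (ι → F)] [IsScalarTower F K (ι → F)] {S : Setting F K ι} {u u' : ι → F}
  {M : Subgroup (GL ι F)}

/-- The additive group of the maps of root elements in `M`. -/
def Frame.roots (P : S.Frame u u') (M : Subgroup (GL ι F)) : AddSubgroup (Module.End F K) where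
  carrier := {τ | S.rt u τ ∈ M}
  zero_mem' := by show S.rt u 0 ∈ M; rw [rt_zero P.uu]; exact M.one_mem
  add_mem' := fun {a b} ha hb => by
    show S.rt u (a + b) ∈ M
    rw [← rt_add P.uu]
    exact M.mul_mem ha hb
  neg_mem' := fun {a} ha => by
    show S.rt u (-a) ∈ M
    rw [← rt_neg P.uu]
    exact M.inv_mem ha

theorem Frame.mem_roots (P : S.Frame u u') {τ : Module.End F K} : τ ∈ P.roots M ↔ S.rt u τ ∈ M := Iff.rfl

theorem Frame.roots_separate (P : S.Frame u u') (hM : S.Over M) {σ : K ≃ₐ[F] K} (hσ : σ ≠ 1) {j : ℕ}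
    (hj : 2 * j + 1 = finrank F K) {c : Fin j → K}
    (hc : ∑ l, twist (σ ^ (l.val + 1)) (c l) ∈ P.roots M) {i : Fin j} (hi : c i ≠ 0) (x : K) :
    twist (σ ^ (i.val + 1)) x ∈ P.roots M :=
  twist_separate S.two S.prime hσ hj (P.roots M) (fun a ha τ hτ => P.rt_torus hM hτ ha) hc hi x

/-- Scalars of the ground field act. -/
theorem Frame.roots_smul (P : S.Frame u u') (hM : S.Over M) {σ : K ≃ₐ[F] K} (hσ : σ ≠ 1) {j : ℕ}
    (hj : 2 * j + 1 = finrank F K) (t : F) {τ : Module.End F K} (hτ : τ ∈ P.roots M) :
    t • τ ∈ P.roots M := by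
  obtain ⟨c, hc⟩ := exists_twist_sum S.two S.prime hσ hj (P.rt_mem_iso hM.le hτ)
  rw [← hc] at hτ ⊢
  rw [Finset.smul_sum]
  refine sum_mem fun l _ => ?_
  rcases eq_or_ne (c l) 0 with h | h
  · rw [h, twist_zero, smul_zero]; exact zero_mem _
  have e : t • twist (σ ^ (l.val + 1)) (c l) = twist (σ ^ (l.val + 1)) (algebraMap F K t * c l) :=
    LinearMap.ext fun x => by
      simp only [LinearMap.smul_apply, twist_apply, smul_sub, map_mul, AlgEquiv.commutes]
      simp only [Algebra.smul_def]
      ring
  rw [e]
  exact P.roots_separate hM hσ hj hτ h _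

/-- A class at one line occurs at the other. -/
theorem Frame.exists_class_symm (P : S.Frame u u') (hM : S.Over M) {σ : K ≃ₐ[F] K}
    (h : ∀ x, twist σ x ∈ P.roots M) (x : K) : twist σ x ∈ P.symm.roots M := by
  obtain ⟨d, hdO, hdl, ⟨c, hc0, hdu⟩, -, -⟩ := P.exists_weyl
  have hinv : ∀ y, S.h (((d⁻¹ : GL ι F) : Matrix ι ι F) *ᵥ y) u = c * S.h y u' := fun y => by
    have := S.h_semi hdO (σ := 1) (fun k z => hdl k z) (((d⁻¹ : GL ι F) : Matrix ι ι F) *ᵥ y) u
    rw [gl_mulVec_inv, hdu, AlgEquiv.one_apply, map_smul, smul_eq_mul] at this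
    exact this.symm
  have key : ∀ τ : Module.End F K, d * S.rt u τ * d⁻¹ =
      S.rt u' (LinearMap.mulLeft F c * τ * LinearMap.mulLeft F c) := fun τ => gl_ext fun y => by
    rw [gl_mul_mulVec, gl_mul_mulVec, rt_mulVec P.uu, rt_mulVec P.uu', mulVec_add, gl_mulVec_inv, hdl, hdu, hinv,
      smul_smul, Module.End.mul_apply, Module.End.mul_apply, LinearMap.mulLeft_apply, LinearMap.mulLeft_apply,
      mul_comm (τ _)]
  have hne : c * σ c ≠ 0 := mul_ne_zero hc0 (by simpa using hc0)
  have h1 := M.mul_mem (M.mul_mem (hM.lin d hdO hdl) (h (x / (c * σ c)))) (M.inv_mem (hM.lin d hdO hdl))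
  rw [key, mulLeft_twist, div_mul_cancel₀ _ hne] at h1
  exact h1

/-- The powers of a generator, from an action of an algebra on a complement of the ground field. -/
theorem Frame.classes_aux (P : S.Frame u u') (hM : S.Over M) {σ : K ≃ₐ[F] K} (hσ : σ ≠ 1) {j : ℕ}
    (hj : 2 * j + 1 = finrank F K) (hj2 : 2 ≤ j) {p : ℕ} [Fact p.Prime] [CharP F p] (hpr : p ≠ finrank F K)
    (hu : ∀ x, twist σ x ∈ P.roots M) (hu' : ∀ x, twist σ x ∈ P.symm.roots M) {W : Type v} [AddCommGroup W]
    [Module F W] [Finite W] [Nontrivial W] (Λ : Module.End F W →ₗ[F] Module.End F K)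
    (hΛ : ∀ a b, Λ a * Λ b = Λ (a * b)) (s : Module.End F W) (hsr : s ^ finrank F K = 1)
    (hfix : ∀ (k : ℕ) (w : W), ¬ finrank F K ∣ k → (s ^ k) w = w → w = 0)
    (hTΛ : ∀ k : ℕ, Λ (s ^ k - (s ^ (finrank F K - 1)) ^ k) = twist (σ ^ k) 1) (m : ℕ) :
    twist (σ ^ m) 1 ∈ P.roots M := by
  classical
  haveI : FiniteDimensional F K := Module.Finite.of_finite
  haveI := Fintype.ofFinite F
  have hr := S.prime
  set r := finrank F K with hr'
  have hrF : (r : F) ≠ 0 := fun e => by
    rw [CharP.cast_eq_zero_iff F p] at e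
    exact hpr ((Nat.prime_dvd_prime_iff_eq Fact.out hr).1 e)
  set si : Module.End F W := s ^ (r - 1)
  have hssi : s * si = 1 := by rw [← pow_succ', show r - 1 + 1 = r by omega, hsr]
  have hsis : si * s = 1 := by rw [← pow_succ, show r - 1 + 1 = r by omega, hsr]
  set t : Module.End F W := s - si with ht
  set z : Module.End F W := t * t with hz
  have hzsum : z + (1 + 1) = s ^ 2 + si ^ 2 := by
    rw [hz, ht, sub_mul, mul_sub, mul_sub, hssi, hsis, ← pow_two, ← pow_two]
    abel
  have htinj : Function.Injective t := by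
    rw [injective_iff_map_eq_zero]
    intro w hw
    refine hfix 2 w (fun h => by have := Nat.le_of_dvd (by omega) h; omega) ?_
    have e : s w = si w := sub_eq_zero.1 hw
    rw [pow_two, Module.End.mul_apply, e, ← Module.End.mul_apply, hssi, Module.End.one_apply]
  let te : W ≃ₗ[F] W := LinearEquiv.ofBijective t ⟨htinj, Finite.surjective_of_injective htinj⟩
  let ti : Module.End F W := te.symm.toLinearMap
  have htti : t * ti = 1 := LinearMap.ext fun w => te.apply_symm_apply w
  have htit : ti * t = 1 := LinearMap.ext fun w => te.symm_apply_apply w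
  let R := Algebra.adjoin F ({z} : Set (Module.End F W))
  letI : CommRing R := { (inferInstance : Ring R) with
    mul_comm := fun a b => Subtype.ext ((Algebra.commute_of_mem_adjoin_singleton_of_commute a.2
      (Algebra.commute_of_mem_adjoin_self b.2).symm).symm.eq) }
  haveI : Finite (Module.End F W) := Finite.of_injective _ DFunLike.coe_injective
  haveI : Finite R := Finite.of_injective _ Subtype.val_injective
  have hct : ∀ a : R, t * (a : Module.End F W) = a * t := fun a =>
    (Algebra.commute_of_mem_adjoin_singleton_of_commute a.2 (show Commute t z from (Commute.refl t).mul_right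
      (Commute.refl t))).eq
  have hcti : ∀ a : R, ti * (a : Module.End F W) = a * ti := fun a => by
    calc ti * (a : Module.End F W) = ti * (a * t) * ti := by rw [mul_assoc, mul_assoc, htti, mul_one]
      _ = ti * (t * a) * ti := by rw [hct]
      _ = _ := by rw [← mul_assoc ti t, htit, one_mul]
  haveI : Nontrivial R := ⟨0, 1, fun e => zero_ne_one (α := Module.End F W) (congrArg Subtype.val e)⟩
  haveI : CharP R p := charP_of_injective_algebraMap (algebraMap F R).injective p
  -- the representation
  let ψ : Matrix.SpecialLinearGroup (Fin 2) R →* Matrix (Fin 2) (Fin 2) (Module.End F K) :=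
    { toFun := fun g => !![1 + Λ ((g 0 0 : R) - 1), Λ ((g 0 1 : R) * t); Λ ((g 1 0 : R) * ti),
        1 + Λ ((g 1 1 : R) - 1)]
      map_one' := by
        refine Matrix.ext fun a b => ?_
        fin_cases a <;> fin_cases b <;> simp
      map_mul' := fun g g' => by
        refine Matrix.ext fun a b => ?_
        have e1 : ∀ x y : R, ((x : Module.End F W) * t) * ((y : Module.End F W) * ti) = x * y := fun x y => by
          rw [mul_assoc, ← mul_assoc t, hct, mul_assoc (y : Module.End F W), htti, mul_one]
        have e2 : ∀ x y : R, ((x : Module.End F W) * ti) * ((y : Module.End F W) * t) = x * y := fun x y => by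
          rw [mul_assoc, ← mul_assoc ti, hcti, mul_assoc (y : Module.End F W), htit, mul_one]
        have e3 : ∀ x y : R, ((x : Module.End F W) * t) * (y : Module.End F W) = x * y * t := fun x y => by
          rw [mul_assoc, hct, ← mul_assoc]
        have e4 : ∀ x y : R, ((x : Module.End F W) * ti) * (y : Module.End F W) = x * y * ti := fun x y => by
          rw [mul_assoc, hcti, ← mul_assoc]
        fin_cases a <;> fin_cases b <;>
          simp only [Matrix.SpecialLinearGroup.coe_mul, Matrix.mul_apply, Fin.sum_univ_two, Matrix.of_apply,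
            Matrix.cons_val', Matrix.cons_val_zero, Matrix.cons_val_one, Matrix.cons_val_fin_one, Fin.zero_eta,
            Fin.mk_one, Fin.isValue, mul_add, add_mul, mul_one, one_mul, hΛ, sub_mul, mul_sub, map_add, map_sub,
            Subalgebra.coe_add, Subalgebra.coe_mul, e1, e2, e3, e4, ← mul_assoc] <;>
          abel }
  let T : Submodule F R :=
    { carrier := {x | Λ ((x : Module.End F W) * t) ∈ P.roots M}
      zero_mem' := by simpa using zero_mem (P.roots M)
      add_mem' := fun {a b} ha hb => by
        simp only [Set.mem_setOf_eq, Subalgebra.coe_add, add_mul, map_add]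
        exact add_mem ha hb
      smul_mem' := fun c a ha => by
        simp only [Set.mem_setOf_eq, SetLike.val_smul, smul_mul_assoc, map_smul]
        exact P.roots_smul hM hσ hj c ha }
  let zR : R := ⟨z, Algebra.subset_adjoin rfl⟩
  have hup : ∀ x : R, P.hom ψ (SLTwo.uu x) = S.rt u (Λ ((x : Module.End F W) * t)) := fun x =>
    P.hom_upper ψ (by
      refine Matrix.ext fun a b => ?_
      fin_cases a <;> fin_cases b <;> simp [ψ, coe_uu])
  have hT1 : Λ t = twist σ 1 := by
    have := hTΛ 1
    rwa [pow_one, pow_one, pow_one] at this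
  -- reduced
  set N : ℕ := Fintype.card F ^ (r - 1) with hN
  obtain ⟨n, -, hn⟩ := FiniteField.card F p
  have hN' : N = p ^ ((n : ℕ) * (r - 1)) := by rw [hN, hn, ← pow_mul]
  have hN1 : N % r = 1 := by
    haveI : Fact r.Prime := ⟨hr⟩
    have h0 : ((Fintype.card F : ℕ) : ZMod r) ≠ 0 := by
      rw [Ne, ZMod.natCast_eq_zero_iff, hn]
      exact fun h => hpr.symm ((Nat.prime_dvd_prime_iff_eq hr Fact.out).1 (hr.dvd_of_dvd_pow h))
    have h1 := ZMod.pow_card_sub_one_eq_one h0
    rw [← Nat.cast_pow, ← hN, ← Nat.cast_one, ZMod.natCast_eq_natCast_iff'] at h1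
    rw [h1, Nat.mod_eq_of_lt hr.one_lt]
  have hzN : z ^ N = z := by
    haveI : CharP (Module.End F W) p := charP_of_injective_algebraMap (algebraMap F (Module.End F W)).injective p
    have hs : s ^ N = s := by
      rw [← Nat.mod_add_div N r, hN1, pow_add, pow_one, pow_mul, hsr, one_pow, mul_one]
    have htN : t ^ N = t := by
      rw [ht, hN', sub_pow_char_pow_of_commute _ _ (Commute.pow_right (Commute.refl s) _), ← hN', hs]
      simp only [si]
      rw [← pow_mul, mul_comm, pow_mul, hs]
    rw [hz, (Commute.refl t).mul_pow, htN]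
  have hRN : ∀ x : R, x ^ N = x := by
    rintro ⟨x, hx⟩
    induction hx using Algebra.adjoin_induction with
    | mem y hy => obtain rfl := Set.mem_singleton_iff.1 hy; exact Subtype.ext (by simpa using hzN)
    | algebraMap c => exact Subtype.ext (by
        simp only [SubmonoidClass.coe_pow]
        rw [← map_pow, hN, FiniteField.pow_card_pow])
    | add a b ha hb iha ihb =>
      show ((⟨a, ha⟩ : R) + ⟨b, hb⟩) ^ N = _
      rw [hN', add_pow_char_pow, ← hN', iha, ihb]
      rfl
    | mul a b ha hb iha ihb =>
      show ((⟨a, ha⟩ : R) * ⟨b, hb⟩) ^ N = _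
      rw [mul_pow, iha, ihb]
      rfl
  haveI : IsReduced R := ⟨fun x ⟨k, hk⟩ => by
    have e : ∀ i, x ^ (N ^ i) = x := fun i => by
      induction i with
      | zero => rw [pow_zero, pow_one]
      | succ i ih => rw [pow_succ, pow_mul, ih, hRN]
    have h2 : 2 ≤ N := le_trans Fintype.one_lt_card (Nat.le_self_pow (by omega) _)
    rw [← e k, ← Nat.sub_add_cancel (Nat.lt_pow_self h2 (n := k)).le, pow_add, hk, mul_zero]⟩
  have hunit : ∀ x : R, Function.Injective (x : Module.End F W) → IsUnit x := by
    intro x hx
    have hinj : Function.Injective fun y : R => x * y := fun a b e =>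
      Subtype.ext (LinearMap.ext fun w => hx (LinearMap.congr_fun (congrArg Subtype.val e) w))
    obtain ⟨y, hy⟩ := Finite.surjective_of_injective hinj 1
    exact IsUnit.of_mul_eq_one y hy
  have hzinj : Function.Injective z := by rw [hz, Module.End.coe_mul]; exact htinj.comp htinj
  have hgen : Algebra.adjoin F ({zR} : Set R) = ⊤ := by
    refine eq_top_iff.2 fun x hx' => ?_
    clear hx'
    obtain ⟨x, hx⟩ := x
    induction hx using Algebra.adjoin_induction with
    | mem y hy => exact Algebra.subset_adjoin (Subtype.ext (Set.mem_singleton_iff.1 hy))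
    | algebraMap c => exact Subalgebra.algebraMap_mem _ c
    | add a b ha hb iha ihb => exact Subalgebra.add_mem _ iha ihb
    | mul a b ha hb iha ihb => exact Subalgebra.mul_mem _ iha ihb
  have htop : T = ⊤ := by
    refine SLSemi.upper_top (M.comap (P.hom ψ)) zR S.two (hunit zR hzinj) hgen (fun c => ?_) (fun c => ?_) T
      (fun x => by rw [Subgroup.mem_comap, hup]; rfl) ?_
    · rw [Subgroup.mem_comap, hup]
      have : ((algebraMap F R c : R) : Module.End F W) * t = c • t := by
        rw [show ((algebraMap F R c : R) : Module.End F W) = algebraMap F (Module.End F W) c from rfl,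
          ← Algebra.smul_def]
      rw [this, map_smul, hT1]
      exact P.roots_smul hM hσ hj c (hu 1)
    · rw [Subgroup.mem_comap, P.hom_lower ψ (τ := c • Λ t) (by
        refine Matrix.ext fun a b => ?_
        fin_cases a <;> fin_cases b <;> simp [ψ, coe_ll, zR, hz, mul_assoc, htti, map_smul]), hT1]
      exact P.symm.roots_smul hM hσ hj c (hu' 1)
    · intro I hI h3
      haveI := hI
      obtain rfl : p = 3 := (Nat.prime_dvd_prime_iff_eq Fact.out Nat.prime_three).1
        ((CharP.cast_eq_zero_iff F p 3).1 (h3 ▸ FiniteField.cast_card_eq_zero F))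
      letI : Field (R ⧸ I) := Ideal.Quotient.field I
      have h3R : (3 : R) = 0 := by exact_mod_cast CharP.cast_eq_zero R 3
      have h3W : ∀ w : W, (3 : ℕ) • w = 0 := fun w => by
        rw [← Nat.cast_smul_eq_nsmul F, CharP.cast_eq_zero, zero_smul]
      have hnmem : ∀ (x : R), (∀ w : W, (x : Module.End F W) w = 0 → w = 0) → x ∉ I := fun x hx hxI =>
        hI.ne_top (Ideal.eq_top_of_isUnit_mem _ hxI (hunit x ((injective_iff_map_eq_zero _).2 hx)))
      have hz2 : z + 2 = s ^ 2 + si ^ 2 := by
        rw [show (2 : Module.End F W) = 1 + 1 from (one_add_one_eq_two).symm]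
        exact hzsum
      have hs4 : ∀ k, k ≤ 4 → s ^ 4 * si ^ k = s ^ (4 - k) := fun k hk => by
        conv_lhs => rw [← Nat.sub_add_cancel hk, pow_add]
        rw [mul_assoc, ← (show Commute s si from hssi.trans hsis.symm).mul_pow, hssi, one_pow, mul_one]
      have hP : ∀ (e : R), e = 1 ∨ e = -1 →
          s ^ 4 * (((zR + 2) ^ 2 + e * (zR + 2) - 1 : R) : Module.End F W) =
            s ^ 8 + (e : Module.End F W) * s ^ 6 + s ^ 4 + (e : Module.End F W) * s ^ 2 + 1 := by
        intro e he
        have hc : Commute s si := hssi.trans hsis.symm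
        have hv : (((zR + 2) ^ 2 + e * (zR + 2) - 1 : R) : Module.End F W) =
            s ^ 4 + si ^ 4 + 1 + (e : Module.End F W) * (s ^ 2 + si ^ 2) := by
          have h : ((zR + 2 : R) : Module.End F W) = s ^ 2 + si ^ 2 := by
            rw [Subalgebra.coe_add, show ((2 : R) : Module.End F W) = 2 from map_ofNat R.val 2]
            exact hz2
          rw [AddSubgroupClass.coe_sub, Subalgebra.coe_add, SubmonoidClass.coe_pow, Subalgebra.coe_mul,
            OneMemClass.coe_one, h]
          have e2 : (s ^ 2 + si ^ 2) ^ 2 = s ^ 4 + si ^ 4 + (1 + 1) := by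
            rw [pow_two, mul_add, add_mul, add_mul, ← pow_add, ← pow_add, ← hc.mul_pow, ← hc.symm.mul_pow,
              hssi, hsis, one_pow]
            abel
          rw [e2]
          abel
        rw [hv]
        rcases he with rfl | rfl <;>
          simp only [OneMemClass.coe_one, NegMemClass.coe_neg, one_mul, neg_one_mul, mul_add, mul_neg, mul_one,
            hs4 4 le_rfl, hs4 2 (by norm_num), ← pow_add, Nat.reduceAdd, Nat.reduceSub, pow_zero] <;>
          abel
      refine ⟨fun c hc => ?_, fun hic => ?_⟩
      · -- no value in the ground field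
        rcases eq_or_ne c 0 with rfl | hc0
        · rw [map_zero, sub_zero] at hc
          exact hnmem zR (fun w hw => hzinj (hw.trans (map_zero _).symm)) hc
        refine hnmem _ (fun w hw => ?_) hc
        have hw' : z w = c • w := by
          have : ((zR : R) : Module.End F W) w - c • w = 0 := hw
          exact sub_eq_zero.1 this
        have e : s (s (z w)) + (2 : ℕ) • s (s w) = (s ^ 4) w + w := by
          have h := LinearMap.congr_fun (congrArg (fun y => s ^ 2 * y) hz2) w
          rw [mul_add, mul_add, show (2 : Module.End F W) = 1 + 1 from (one_add_one_eq_two).symm, mul_add, mul_one,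
            ← pow_add, ← (show Commute s si from hssi.trans hsis.symm).mul_pow, hssi, one_pow] at h
          simpa [pow_two, Module.End.mul_apply, two_nsmul] using h
        rw [hw', map_smul, map_smul] at e
        have hs2 : ∀ a b, (s ^ (a + b)) w = (s ^ a) ((s ^ b) w) := fun a b => by rw [pow_add, Module.End.mul_apply]
        have hc12 : c = 1 ∨ c = 2 := by
          have hu : ∀ d : F, d = 0 ∨ d = 1 ∨ d = 2 := by
            have hinj : Function.Injective ![(0 : F), 1, 2] := by
              intro a b h
              have hne : (1 : F) ≠ 2 := fun h => one_ne_zero (α := F) (by linear_combination -h)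
              fin_cases a <;> fin_cases b <;> simp_all [S.two, S.two.symm, hne.symm]
            intro d
            obtain ⟨a, rfl⟩ := ((Fintype.bijective_iff_injective_and_card _).2 ⟨hinj, by simp [h3]⟩).2 d
            fin_cases a <;> simp
          exact (hu c).resolve_left hc0
        have hr12 : ¬ r ∣ 8 ∧ ¬ r ∣ 12 := by
          constructor <;> intro h
          · have := Nat.le_of_dvd (by omega) ((hr.dvd_of_dvd_pow (show r ∣ 2 ^ 3 from h)))
            omega
          · rcases (hr.dvd_mul.1 (show r ∣ 4 * 3 from h)) with h | h <;>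
              have := Nat.le_of_dvd (by omega) h <;> omega
        rcases hc12 with rfl | rfl
        · refine hfix 8 w hr12.1 ?_
          have e4 : (s ^ 4) w = -w := by
            rw [one_smul, ← succ_nsmul', h3W] at e
            exact eq_neg_of_add_eq_zero_left e.symm
          rw [hs2 4 4, e4, map_neg, e4, neg_neg]
        · refine hfix 12 w hr12.2 ?_
          have e4 : (s ^ 4) w = s (s w) - w := by
            rw [show (2 : F) • s (s w) = (2 : ℕ) • s (s w) from (Nat.cast_smul_eq_nsmul F 2 _), ← add_nsmul] at e
            rw [eq_sub_iff_add_eq, ← e, show (2 + 2 : ℕ) = 3 + 1 from rfl, add_nsmul, h3W, zero_add, one_nsmul]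
          have e6 : (s ^ 6) w = -w := by
            rw [hs2 2 4, e4, map_sub, pow_two, Module.End.mul_apply, Module.End.mul_apply]
            have : s (s (s (s w))) = (s ^ 4) w := by simp [pow_succ, Module.End.mul_apply]
            rw [this, e4]
            abel
          rw [hs2 6 6, e6, map_neg, e6, neg_neg]
      · -- the icosahedral values
        obtain ⟨heq, hsq⟩ := hic
        have hminus : (zR + 2) ^ 2 - (zR + 2) - 1 ∉ I := by
          refine hnmem _ (fun w hw => ?_)
          have h := LinearMap.congr_fun (hP (-1) (Or.inr rfl)) w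
          rw [Module.End.mul_apply, show (((zR + 2) ^ 2 + (-1) * (zR + 2) - 1 : R) : Module.End F W) =
            (((zR + 2) ^ 2 - (zR + 2) - 1 : R) : Module.End F W) by rw [neg_one_mul, ← sub_eq_add_neg], hw,
            map_zero] at h
          simp only [NegMemClass.coe_neg, OneMemClass.coe_one, neg_one_mul, LinearMap.add_apply, LinearMap.neg_apply,
            Module.End.one_apply] at h
          have h10 : (s ^ 10) w = -w := by
            have h' := congrArg (fun y => (s ^ 2) y + y) h
            simp only [map_add, map_neg, ← Module.End.mul_apply, ← pow_add, map_zero, add_zero] at h'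
            rw [eq_neg_iff_add_eq_zero, h']
            abel
          by_cases h5 : r = 5
          · have e : (s ^ 10) w = w := by
              rw [show (10 : ℕ) = r * 2 by omega, pow_mul, hsr, one_pow, Module.End.one_apply]
            rw [e, eq_neg_iff_add_eq_zero, ← two_smul F] at h10
            exact (smul_eq_zero.1 h10).resolve_left S.two
          · refine hfix 20 w (fun h20 => ?_) ?_
            · rcases hr.dvd_mul.1 (show r ∣ 4 * 5 from h20) with h | h <;>
                have := Nat.le_of_dvd (by omega) h
              · omega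
              · exact h5 ((Nat.prime_dvd_prime_iff_eq hr Nat.prime_five).1 h)
            · rw [show (20 : ℕ) = 10 + 10 from rfl, pow_add, Module.End.mul_apply, h10, map_neg, h10, neg_neg]
        have hplus : (zR + 2) ^ 2 + (zR + 2) - 1 ∈ I := by
          rcases heq with h | h
          · rw [← Ideal.Quotient.eq_zero_iff_mem, map_sub, map_add, map_pow, map_add, map_one, map_ofNat,
              add_comm (Ideal.Quotient.mk I zR)]
            exact h
          · refine absurd ?_ hminus
            rw [← Ideal.Quotient.eq_zero_iff_mem, map_sub, map_sub, map_pow, map_add, map_one, map_ofNat,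
              add_comm (Ideal.Quotient.mk I zR)]
            exact h
        set lam := Ideal.Quotient.mk I zR with hlam
        have h3L : (3 : R ⧸ I) = 0 := by rw [← map_ofNat (Ideal.Quotient.mk I), h3R, map_zero]
        have hl : lam * lam = lam + 1 := by
          have h := Ideal.Quotient.eq_zero_iff_mem.2 hplus
          rw [map_sub, map_add, map_pow, map_add, map_one, map_ofNat, ← hlam] at h
          linear_combination h - (2 * lam + 2) * h3L
        have hl4 : lam ^ 4 = -1 := by linear_combination (lam * lam + lam + 2) * hl + (lam + 1) * h3L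
        have hl9 : lam ^ 9 = lam := by linear_combination (lam * (lam ^ 4 - 1)) * hl4
        have hall : ∀ y : R ⧸ I, y ^ 9 = y := by
          intro y
          obtain ⟨x, rfl⟩ := Ideal.Quotient.mk_surjective y
          have hx : x ∈ Algebra.adjoin F ({zR} : Set R) := hgen ▸ Algebra.mem_top
          induction hx using Algebra.adjoin_induction with
          | mem y hy => rw [Set.mem_singleton_iff.1 hy]; exact hl9
          | algebraMap d =>
            rw [← map_pow, ← map_pow, show (9 : ℕ) = Fintype.card F ^ 2 by rw [h3]; norm_num,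
              FiniteField.pow_card_pow]
          | add a b _ _ ha hb =>
            haveI : CharP (R ⧸ I) 3 := charP_of_injective_algebraMap (algebraMap F (R ⧸ I)).injective 3
            rw [map_add, show (9 : ℕ) = 3 ^ 2 by norm_num, add_pow_char_pow]
            exact congrArg₂ (· + ·) ha hb
          | mul a b _ _ ha hb => rw [map_mul, mul_pow, ha, hb]
        have h2L : (2 : R ⧸ I) ≠ 0 := fun e => one_ne_zero (α := R ⧸ I) (by linear_combination h3L - e)
        have hlam0 : lam ≠ 0 := fun e => by rw [e] at hl4; simp at hl4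
        rcases hsq with ⟨c, hc⟩ | ⟨c, hc⟩
        · have h9 := hall c
          have hc0 : c ≠ 0 := fun e => hlam0 (by rw [hc, e, mul_zero])
          have hc8 : c ^ 8 = 1 := mul_left_cancel₀ hc0 (by linear_combination h9)
          rw [hc] at hl4
          exact h2L (by linear_combination hl4 - hc8)
        · have h9 := hall c
          have hc' : lam = -(c * c) := by linear_combination -hc
          have hc0 : c ≠ 0 := fun e => hlam0 (by rw [hc', e, mul_zero, neg_zero])
          have hc8 : c ^ 8 = 1 := mul_left_cancel₀ hc0 (by linear_combination h9)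
          rw [hc'] at hl4
          exact h2L (by linear_combination hl4 - hc8)
  -- the powers of the generator
  have hc : Commute s si := hssi.trans hsis.symm
  have h2k : ∀ k : ℕ, s ^ (2 * k) + si ^ (2 * k) ∈ R := by
    intro k
    induction k using Nat.strong_induction_on with
    | _ k ih =>
      match k with
      | 0 => simpa [one_add_one_eq_two] using R.add_mem R.one_mem R.one_mem
      | 1 =>
        rw [mul_one, ← hzsum]
        exact R.add_mem (Algebra.subset_adjoin rfl) (R.add_mem R.one_mem R.one_mem)
      | k + 2 =>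
        have h1 := ih 1 (by omega)
        rw [mul_one] at h1
        have h := R.sub_mem (R.mul_mem h1 (ih (k + 1) (by omega))) (ih k (by omega))
        convert h using 1
        have a1 : s ^ 2 * si ^ (2 * (k + 1)) = si ^ (2 * k) := by
          rw [show 2 * (k + 1) = 2 + 2 * k by ring, pow_add si 2, ← mul_assoc, ← hc.mul_pow, hssi, one_pow, one_mul]
        have a2 : si ^ 2 * s ^ (2 * (k + 1)) = s ^ (2 * k) := by
          rw [show 2 * (k + 1) = 2 + 2 * k by ring, pow_add s 2, ← mul_assoc, ← hc.symm.mul_pow, hsis, one_pow,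
            one_mul]
        rw [mul_add (s ^ 2 + si ^ 2), add_mul, add_mul, a1, a2, ← pow_add, ← pow_add]
        rw [show 2 + 2 * (k + 1) = 2 * (k + 2) by ring]
        abel
  have hη : s + si ∈ R := by
    have h := h2k (j + 1)
    have h1 : si ^ r = 1 := by simp only [si]; rw [← pow_mul, mul_comm, pow_mul, hsr, one_pow]
    rwa [show 2 * (j + 1) = r + 1 by omega, pow_succ, pow_succ, hsr, h1, one_mul, one_mul] at h
  have hd : ∀ k : ℕ, ∃ x : R, (x : Module.End F W) * t = s ^ k - si ^ k := by
    intro k
    induction k using Nat.strong_induction_on with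
    | _ k ih =>
      match k with
      | 0 => exact ⟨0, by simp⟩
      | 1 => exact ⟨1, by rw [OneMemClass.coe_one, one_mul, pow_one, pow_one, ht]⟩
      | k + 2 =>
        obtain ⟨a, ha⟩ := ih (k + 1) (by omega)
        obtain ⟨b, hb⟩ := ih k (by omega)
        refine ⟨⟨s + si, hη⟩ * a - b, ?_⟩
        rw [AddSubgroupClass.coe_sub, Subalgebra.coe_mul, sub_mul, mul_assoc, ha, hb, mul_sub, add_mul, add_mul]
        have a1 : s * si ^ (k + 1) = si ^ k := by rw [pow_succ', ← mul_assoc, hssi, one_mul]
        have a2 : si * s ^ (k + 1) = s ^ k := by rw [pow_succ', ← mul_assoc, hsis, one_mul]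
        rw [a1, a2, ← pow_succ', ← pow_succ']
        abel
  obtain ⟨x, hx⟩ := hd m
  have : x ∈ T := by rw [htop]; trivial
  rw [← hTΛ, ← hx]
  exact this

/-- The powers of a generator in degree prime to the characteristic. -/
theorem Frame.classes_of_coprime (P : S.Frame u u') (hM : S.Over M) {σ : K ≃ₐ[F] K} (hσ : σ ≠ 1) {j : ℕ}
    (hj : 2 * j + 1 = finrank F K) (hj2 : 2 ≤ j) {p : ℕ} [Fact p.Prime] [CharP F p] (hpr : p ≠ finrank F K)
    (hu : ∀ x, twist σ x ∈ P.roots M) (hu' : ∀ x, twist σ x ∈ P.symm.roots M) (m : ℕ) :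
    twist (σ ^ m) 1 ∈ P.roots M := by
  classical
  haveI : FiniteDimensional F K := Module.Finite.of_finite
  haveI := Fintype.ofFinite F
  have hr := S.prime
  set r := finrank F K with hr'
  have hrF : (r : F) ≠ 0 := fun e => by
    rw [CharP.cast_eq_zero_iff F p] at e
    exact hpr ((Nat.prime_dvd_prime_iff_eq Fact.out hr).1 e)
  let W : Submodule F K := LinearMap.ker (Algebra.trace F K)
  have htr1 : ∀ a : F, Algebra.trace F K (algebraMap F K a) = (r : F) * a := fun a => by
    rw [Algebra.trace_algebraMap, nsmul_eq_mul]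
  let π0 : K →ₗ[F] W := LinearMap.codRestrict W
    (LinearMap.id - (((r : F)⁻¹) • Algebra.trace F K).smulRight (1 : K)) fun x => by
      simp only [W, LinearMap.mem_ker, LinearMap.sub_apply, LinearMap.id_apply, LinearMap.smulRight_apply,
        LinearMap.smul_apply, smul_eq_mul]
      rw [← Algebra.algebraMap_eq_smul_one, map_sub, htr1]
      field_simp
      ring
  have hπ : ∀ x : K, (π0 x : K) = x - algebraMap F K ((r : F)⁻¹ * Algebra.trace F K x) := fun x => by
    simp [π0, Algebra.algebraMap_eq_smul_one]
  have hπw : ∀ w : W, π0 (w : K) = w := fun w => Subtype.ext (by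
    rw [hπ, show Algebra.trace F K (w : K) = 0 from w.2, mul_zero, map_zero, sub_zero])
  let Λ : Module.End F W →ₗ[F] Module.End F K :=
    { toFun := fun a => W.subtype.comp (a.comp π0)
      map_add' := fun a b => by rw [LinearMap.add_comp, LinearMap.comp_add]
      map_smul' := fun t a => by rw [RingHom.id_apply, LinearMap.smul_comp, LinearMap.comp_smul] }
  have hΛ : ∀ a b, Λ a * Λ b = Λ (a * b) := fun a b => LinearMap.ext fun x => by
    simp [Λ, Module.End.mul_apply, hπw]
  have hstab : ∀ x ∈ W, σ.toLinearMap x ∈ W := fun x hx => by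
    show Algebra.trace F K (σ x) = 0
    rw [Algebra.trace_eq_of_algEquiv]; exact hx
  let s : Module.End F W := σ.toLinearMap.restrict hstab
  let si : Module.End F W := s ^ (r - 1)
  have hsval : ∀ (k : ℕ) (w : W), (((s ^ k) w : W) : K) = (σ ^ k) (w : K) := by
    intro k
    induction k with
    | zero => intro w; simp
    | succ k ih => intro w; rw [pow_succ', Module.End.mul_apply, pow_succ', AlgEquiv.mul_apply, ← ih]; rfl
  have hσr : σ ^ r = 1 := by rw [hr', ← orderOf_gen hr hσ, pow_orderOf_eq_one]
  have hsr : s ^ r = 1 := LinearMap.ext fun w => Subtype.ext (by rw [hsval, hσr]; rfl)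
  have hssi : s * si = 1 := by rw [← pow_succ', show r - 1 + 1 = r by omega, hsr]
  have hsis : si * s = 1 := by rw [← pow_succ, show r - 1 + 1 = r by omega, hsr]
  have hfix : ∀ (k : ℕ) (w : W), ¬ r ∣ k → (s ^ k) w = w → w = 0 := by
    intro k w hk e
    have e' : (σ ^ k) (w : K) = w := by rw [← hsval, e]
    have hne : σ ^ k ≠ 1 := fun h => hk (by
      have := orderOf_dvd_of_pow_eq_one h
      rwa [orderOf_gen hr hσ] at this)
    obtain ⟨a, ha⟩ := mem_range_of_fixed hr hne e'
    have h0 : Algebra.trace F K (w : K) = 0 := w.2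
    rw [← ha, htr1] at h0
    exact Subtype.ext (by rw [← ha, (mul_eq_zero.1 h0).resolve_left hrF, map_zero]; rfl)
  have hTΛ : ∀ k : ℕ, Λ (s ^ k - si ^ k) = twist (σ ^ k) 1 := by
    intro k
    have e : σ ^ ((r - 1) * k) = (σ ^ k)⁻¹ := eq_inv_of_mul_eq_one_right (by
      rw [← pow_add, show k + (r - 1) * k = r * k by
        rw [add_comm, ← Nat.succ_mul, Nat.succ_eq_add_one, show r - 1 + 1 = r by omega],
        pow_mul, hσr, one_pow])
    refine LinearMap.ext fun x => ?_
    show ((((s ^ k - si ^ k) (π0 x)) : W) : K) = _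
    rw [LinearMap.sub_apply, Submodule.coe_sub, hsval, ← pow_mul, hsval, e, hπ, twist_apply, one_mul, one_mul]
    simp only [map_sub, AlgEquiv.commutes, AlgEquiv.aut_inv]
    ring
  haveI : Finite W := Finite.of_injective _ Subtype.val_injective
  haveI : Nontrivial W := by
    by_contra h
    rw [not_nontrivial_iff_subsingleton] at h
    have h1 := LinearMap.finrank_range_add_finrank_ker (Algebra.trace F K)
    have h2 := Submodule.finrank_le (LinearMap.range (Algebra.trace F K))
    rw [Module.finrank_self] at h2
    have h3 : finrank F (LinearMap.ker (Algebra.trace F K)) = 0 := Module.finrank_zero_of_subsingleton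
    omega
  exact P.classes_aux hM hσ hj hj2 hpr hu hu' Λ hΛ s hsr hfix hTΛ m

/-- All root elements. -/
theorem allRoots_odd (hM : S.Over M) {j : ℕ} (hj : 2 * j + 1 = finrank F K) (hj2 : 2 ≤ j)
    (hns : ∃ g ∈ M, ¬ Semi K g) : S.AllRoots M := by
  classical
  haveI : FiniteDimensional F K := Module.Finite.of_finite
  intro u u' P τ' hτ'
  obtain ⟨τ, hτ0, hτM⟩ := P.exists_root_of_not_semi hM hns
  obtain ⟨σ₀, hσ₀⟩ : ∃ σ : K ≃ₐ[F] K, σ ≠ 1 := by
    by_contra h
    push Not at h
    haveI : Subsingleton (K ≃ₐ[F] K) := ⟨fun a b => (h a).trans (h b).symm⟩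
    have h1 := IsGalois.card_aut_eq_finrank F K
    rw [Nat.card_of_subsingleton (1 : K ≃ₐ[F] K)] at h1
    omega
  obtain ⟨c, hc⟩ := exists_twist_sum S.two S.prime hσ₀ hj (P.rt_mem_iso hM.le hτM)
  obtain ⟨i, hi⟩ : ∃ i, c i ≠ 0 := by
    by_contra h
    push Not at h
    refine hτ0 ?_
    rw [← hc]
    exact Finset.sum_eq_zero fun l _ => by rw [h, twist_zero]
  set σ := σ₀ ^ (i.val + 1) with hσdef
  have hσ : σ ≠ 1 := fun e => by
    have := orderOf_dvd_of_pow_eq_one (hσdef ▸ e)
    rw [orderOf_gen S.prime hσ₀] at this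
    have := Nat.le_of_dvd (by omega) this
    have := i.2
    omega
  have hu : ∀ x, twist σ x ∈ P.roots M := fun x =>
    P.roots_separate hM hσ₀ hj (c := c) (by rw [hc]; exact hτM) hi x
  have hu' : ∀ x, twist σ x ∈ P.symm.roots M := fun x => P.exists_class_symm hM hu x
  have hall : ∀ (l : Fin j) (x : K), twist (σ ^ (l.val + 1)) x ∈ P.roots M := by
    obtain ⟨p, _⟩ := CharP.exists F
    haveI : Fact p.Prime := ⟨CharP.char_is_prime F p⟩
    by_cases hp : p = finrank F K
    · subst hp
      obtain ⟨c', hc', hne⟩ := P.exists_all_classes_nil hM hσ inferInstance hj hj2 (hu 1) (hu' 1)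
      exact fun l x => P.roots_separate hM hσ hj (c := c') hc' (hne l) x
    · intro l x
      refine P.roots_separate hM hσ hj (c := Pi.single l 1) ?_ (i := l) (by simp) x
      rw [Finset.sum_eq_single l (fun k _ hk => by rw [Pi.single_eq_of_ne hk, twist_zero])
        (fun h => absurd (Finset.mem_univ l) h), Pi.single_eq_same]
      exact P.classes_of_coprime hM hσ hj hj2 hp hu hu' _
  obtain ⟨c', hc'⟩ := exists_twist_sum S.two S.prime hσ hj hτ'
  rw [← hc', ← P.mem_roots]
  exact sum_mem fun l _ => hall l _

end Setting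

universe w

/-- Every odd prime degree. -/
theorem spreads_odd (F : Type w) [Field F] [Finite F] (ι : Type) [Fintype ι] [DecidableEq ι] {r : ℕ}
    (hr : r.Prime) (hr2 : r ≠ 2) : Spreads F r ι := by
  intro K _ _ _ _ _ h S M hM hns
  obtain ⟨j, hj⟩ := hr.odd_of_ne_two hr2
  rcases Nat.lt_or_ge j 2 with hlt | hge
  · have := hr.two_le
    exact Setting.allRoots_cubic hM (by omega) hns
  · exact Setting.allRoots_odd hM (j := j) (by omega) hge hns

/-- Self-adjoint field extensions of odd prime degree. -/
theorem maximal {ι : Type} [Fintype ι] [DecidableEq ι] {F : Type w} [Field F] [Finite F]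
    {Q : (ι → F) → F} (hQ : Cfsg.Geo.IsNondegenerateQuadraticForm Q) (h2 : (2 : F) ≠ 0) {r : ℕ} (hr : r.Prime)
    (hr2 : r ≠ 2) (hn : 3 * r ≤ Fintype.card ι) (K : Subalgebra F (Matrix ι ι F))
    (hK : Cfsg.Geo.IsFieldSubalgebra r K) (hsa : Cfsg.Geo.IsSelfAdjointFor (QuadraticMap.polar Q) K) :
    Cfsg.Geo.IsMaximalIn (Cfsg.Geo.omegaGL Q)
      (Cfsg.Geo.subalgebraNormalizer K ⊓ Cfsg.Geo.omegaGL Q) :=
  maximal_of_spreads hQ h2 hr hr2 hn K hK hsa (spreads_odd F ι hr hr2)

end Cfsg.Agent.Lib.OrthExtOdd
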