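import Cfsg.Agent.Lib.OrthExtOdd.Cubic
import Mathlib.FieldTheory.Finite.Trace
import Mathlib.Algebra.Module.ZMod

/-!
Alternating maps of an extension of odd prime degree: they are sums of twists by powers of a generator of the
Galois group, and an additive group of them stable under the tori contains each twist class that occurs in one of
its elements.
Owner: helper93.
-/

set_option autoImplicit false
set_option linter.unusedSectionVars false
set_option linter.style.haveILetI false

namespace Cfsg.Agent.Lib.OrthExtOdd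

open Matrix Module Cfsg.Agent.Lib.K41.ExtForm

/-- Two powers of a number determine their exponents. -/
theorem pow_add_pow_inj {p a b c d : ℕ} (hp : 2 ≤ p) (hab : a ≠ b) (hcd : c ≠ d)
    (h : p ^ a + p ^ b = p ^ c + p ^ d) : (a = c ∧ b = d) ∨ (a = d ∧ b = c) := by
  have key : ∀ a b c d : ℕ, a < b → c < d → p ^ a + p ^ b = p ^ c + p ^ d → a = c ∧ b = d := by
    have low : ∀ a b c d : ℕ, a < b → a < c → a < d → p ^ a + p ^ b ≠ p ^ c + p ^ d := by
      intro a b c d hb hc hd e
      have h1 : p ^ (a + 1) ∣ p ^ a + p ^ b := e ▸ dvd_add (pow_dvd_pow p hc) (pow_dvd_pow p hd)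
      have h2 := (Nat.dvd_add_iff_left (pow_dvd_pow p (show a + 1 ≤ b by omega))).2 h1
      have h3 := Nat.le_of_dvd (pow_pos (by omega) a) h2
      have := Nat.pow_lt_pow_right (show 1 < p by omega) (show a < a + 1 by omega)
      omega
    intro a b c d hb hd e
    rcases lt_trichotomy a c with h' | h' | h'
    · exact absurd e (low a b c d hb h' (h'.trans hd))
    · subst h'
      exact ⟨rfl, Nat.pow_right_injective hp (Nat.add_left_cancel e)⟩
    · exact absurd e.symm (low c d a b hd h' (h'.trans hb))
  rcases lt_or_gt_of_ne hab with h1 | h1 <;> rcases lt_or_gt_of_ne hcd with h2 | h2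
  · exact Or.inl (key a b c d h1 h2 h)
  · exact Or.inr (key a b d c h1 h2 (by omega))
  · exact Or.inr (and_comm.1 (key b a c d h1 h2 (by omega)))
  · exact Or.inl (and_comm.1 (key b a d c h1 h2 (by omega)))

variable {F K : Type*} [Field F] [Field K] [Algebra F K] [Finite F] [Finite K]

/-- Different automorphisms are independent. -/
theorem aut_indep {κ : Type*} [Fintype κ] {e : κ → K ≃ₐ[F] K} (he : Function.Injective e) (a : κ → K)
    (h : ∀ x, ∑ i, a i * e i x = 0) : a = 0 := by
  have hinj : Function.Injective fun i => ((e i : K →+* K).toMonoidHom : K →* K) := fun i i' h' =>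
    he (AlgEquiv.ext fun x => DFunLike.congr_fun h' x)
  have hli := (linearIndependent_monoidHom K K).comp _ hinj
  refine funext (Fintype.linearIndependent_iff.1 hli a (funext fun x => ?_))
  simp only [Finset.sum_apply, Pi.smul_apply, Function.comp_apply, Pi.zero_apply, smul_eq_mul]
  exact h x

theorem orderOf_gen (hr : (finrank F K).Prime) {σ : K ≃ₐ[F] K} (hσ : σ ≠ 1) : orderOf σ = finrank F K := by
  haveI : FiniteDimensional F K := Module.Finite.of_finite
  have h := orderOf_dvd_natCard σ
  rw [IsGalois.card_aut_eq_finrank] at h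
  exact ((Nat.dvd_prime hr).1 h).resolve_left fun h' => hσ (orderOf_eq_one_iff.1 h')

theorem pow_gen_inj (hr : (finrank F K).Prime) {σ : K ≃ₐ[F] K} (hσ : σ ≠ 1) {a b : ℕ} (ha : a < finrank F K)
    (hb : b < finrank F K) (h : σ ^ a = σ ^ b) : a = b :=
  pow_injOn_Iio_orderOf (by rw [orderOf_gen hr hσ]; exact ha) (by rw [orderOf_gen hr hσ]; exact hb) h

theorem pow_gen_symm (hr : (finrank F K).Prime) {σ : K ≃ₐ[F] K} (hσ : σ ≠ 1) {k : ℕ} (hk : k ≤ finrank F K)
    (x : K) : (σ ^ k).symm x = (σ ^ (finrank F K - k)) x := by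
  rw [AlgEquiv.symm_apply_eq, ← AlgEquiv.mul_apply, ← pow_add, Nat.add_sub_cancel' hk, ← orderOf_gen hr hσ,
    pow_orderOf_eq_one, AlgEquiv.one_apply]

theorem twist_zero (σ : K ≃ₐ[F] K) : twist σ (0 : K) = 0 := LinearMap.ext fun x => by simp [twist_apply]

/-- The twist classes are independent. -/
theorem twist_sum_injective (hr : (finrank F K).Prime) {σ : K ≃ₐ[F] K} (hσ : σ ≠ 1) {j : ℕ}
    (hj : 2 * j + 1 = finrank F K) (c : Fin j → K)
    (h : ∑ l, twist (σ ^ (l.val + 1)) (c l) = 0) : c = 0 := by
  let e : Fin j ⊕ Fin j → K ≃ₐ[F] K :=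
    Sum.elim (fun l => σ ^ (l.val + 1)) fun l => σ ^ (finrank F K - (l.val + 1))
  have he : Function.Injective e := by
    rintro (a | a) (b | b) h' <;> have ha := a.2 <;> have hb := b.2 <;>
      have h'' := pow_gen_inj hr hσ (by omega) (by omega) h'
    · exact congrArg Sum.inl (Fin.ext (by omega))
    · omega
    · omega
    · exact congrArg Sum.inr (Fin.ext (by omega))
  have h0 := aut_indep he (Sum.elim c fun l => -(σ ^ (finrank F K - (l.val + 1))) (c l)) fun x => by
    rw [Fintype.sum_sum_type]
    have hx := LinearMap.congr_fun h x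
    rw [LinearMap.sum_apply, LinearMap.zero_apply] at hx
    simp only [twist_apply, Finset.sum_sub_distrib] at hx
    rw [← hx, sub_eq_add_neg, ← Finset.sum_neg_distrib]
    congr 1
    refine Finset.sum_congr rfl fun l _ => ?_
    have := l.2
    rw [pow_gen_symm hr hσ (show l.val + 1 ≤ _ by omega), map_mul]
    simp [e]
  exact funext fun l => congrFun h0 (Sum.inl l)

/-- Every alternating map is a sum of twists. -/
theorem exists_twist_sum (h2 : (2 : F) ≠ 0) (hr : (finrank F K).Prime) {σ : K ≃ₐ[F] K} (hσ : σ ≠ 1) {j : ℕ}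
    (hj : 2 * j + 1 = finrank F K) {τ : Module.End F K} (hτ : IsSkew τ) :
    ∃ c : Fin j → K, ∑ l, twist (σ ^ (l.val + 1)) (c l) = τ := by
  classical
  haveI : FiniteDimensional F K := Module.Finite.of_finite
  haveI : Finite (Module.End F K) := Finite.of_injective _ DFunLike.coe_injective
  set r := finrank F K with hr'
  let b := Module.finBasisOfFinrankEq F K hr'.symm
  let Sk := {τ : Module.End F K // IsSkew τ}
  let m : Sk → Fin r → Fin r → F := fun τ i k => Algebra.trace F K (τ.1 (b i) * b k)
  have hm : ∀ τ : Sk, ∀ i k, m τ k i = -m τ i k := fun τ i k => by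
    have h := τ.2 (b i) (b k)
    rw [mul_comm (b i)] at h
    simp only [m]
    linear_combination h
  let φ : Sk × Sk × (Fin r → F) → Fin r → Fin r → F := fun t i k =>
    if i < k then m t.1 i k else if k < i then m t.2.1 i k else t.2.2 i
  have hφ : Function.Injective φ := by
    have ext' : ∀ τ τ' : Sk, (∀ i k, i < k → m τ i k = m τ' i k) → τ = τ' := by
      intro τ τ' h
      refine Subtype.ext (b.ext fun i => trace_ext (F := F) fun a => ?_)
      rw [← b.sum_repr a, Finset.sum_mul, Finset.sum_mul, map_sum, map_sum]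
      refine Finset.sum_congr rfl fun k _ => ?_
      rw [trace_smul_apply, trace_smul_apply, mul_comm (b k), mul_comm (b k)]
      congr 1
      rcases lt_trichotomy i k with hik | rfl | hik
      · exact h i k hik
      · have e1 := hm τ i i
        have e2 := hm τ' i i
        exact mul_left_cancel₀ h2 (by linear_combination e1 - e2)
      · have e1 := hm τ k i
        have e2 := hm τ' k i
        have e3 := h k i hik
        simp only [m] at e1 e2 e3 ⊢
        linear_combination e1 - e2 - e3
    intro t t' e
    refine Prod.ext (ext' _ _ fun i k hik => ?_) (Prod.ext (ext' _ _ fun i k hik => ?_) (funext fun i => ?_))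
    · simpa [φ, hik] using congrFun (congrFun e i) k
    · have := congrFun (congrFun e k) i
      simp only [φ, if_neg (asymm hik), if_pos hik, hm _ i k, neg_inj] at this
      exact this
    · simpa [φ] using congrFun (congrFun e i) i
  let ψ : (Fin j → K) → Sk := fun c => ⟨∑ l, twist (σ ^ (l.val + 1)) (c l), fun x y => by
    simp only [LinearMap.sum_apply, Finset.sum_mul, Finset.mul_sum, map_sum, ← Finset.sum_add_distrib]
    exact Finset.sum_eq_zero fun l _ => twist_skew _ _ x y⟩
  have hψ : Function.Injective ψ := fun c c' e => by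
    refine sub_eq_zero.1 (twist_sum_injective hr hσ hj (c - c') ?_)
    have e' := congrArg Subtype.val e
    simp only [ψ] at e'
    rw [← sub_eq_zero] at e'
    rw [← e', ← Finset.sum_sub_distrib]
    refine Finset.sum_congr rfl fun l _ => ?_
    rw [eq_sub_iff_add_eq, ← twist_add]
    simp
  have h1 := Nat.card_le_card_of_injective ψ hψ
  have hK : Nat.card K = Nat.card F ^ r := Module.natCard_eq_pow_finrank
  have h2' := Nat.card_le_card_of_injective φ hφ
  rw [Nat.card_prod, Nat.card_prod, Nat.card_fun, Nat.card_fun, Nat.card_fun, Nat.card_eq_fintype_card (α := Fin r),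
    Fintype.card_fin, ← pow_mul] at h2'
  rw [Nat.card_fun, Nat.card_eq_fintype_card (α := Fin j), Fintype.card_fin, hK, ← pow_mul] at h1
  have h3 : Nat.card Sk ≤ Nat.card F ^ (r * j) := by
    by_contra hlt
    push Not at hlt
    have h4 := Nat.mul_lt_mul'' hlt hlt
    rw [← pow_add] at h4
    have h5 : Nat.card F ^ (r * j + r * j) * Nat.card F ^ r <
        Nat.card Sk * Nat.card Sk * Nat.card F ^ r := Nat.mul_lt_mul_of_pos_right h4 (pow_pos Nat.card_pos r)
    rw [← pow_add, show r * j + r * j + r = r * r by rw [← hj]; ring, mul_assoc] at h5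
    omega
  obtain ⟨c, hc⟩ := ((Nat.bijective_iff_injective_and_card ψ).2 ⟨hψ, by
    rw [Nat.card_fun, Nat.card_eq_fintype_card (α := Fin j), Fintype.card_fin, hK, ← pow_mul]
    exact le_antisymm h1 h3⟩).2 ⟨τ, hτ⟩
  exact ⟨c, congrArg Subtype.val hc⟩

/-- Conjugation of a twist by a scalar. -/
theorem mulLeft_twist (σ : K ≃ₐ[F] K) (c b : K) :
    LinearMap.mulLeft F b * twist σ c * LinearMap.mulLeft F b = twist σ (c * (b * σ b)) :=
  LinearMap.ext fun x => by
    simp only [Module.End.mul_apply, LinearMap.mulLeft_apply, twist_apply, map_mul, AlgEquiv.symm_apply_apply,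
      mul_sub]
    ring

/-- An additive group stable under the tori contains the twist classes of its elements. -/
theorem twist_separate (h2 : (2 : F) ≠ 0) (hr : (finrank F K).Prime) {σ : K ≃ₐ[F] K} (hσ : σ ≠ 1) {j : ℕ}
    (hj : 2 * j + 1 = finrank F K) (A : AddSubgroup (Module.End F K))
    (hA : ∀ a : K, a ≠ 0 → ∀ τ ∈ A, LinearMap.mulLeft F (a * a) * τ * LinearMap.mulLeft F (a * a) ∈ A)
    {c : Fin j → K} (hc : ∑ l, twist (σ ^ (l.val + 1)) (c l) ∈ A) {i : Fin j} (hi : c i ≠ 0) (x : K) :
    twist (σ ^ (i.val + 1)) x ∈ A := by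
  classical
  haveI : FiniteDimensional F K := Module.Finite.of_finite
  obtain ⟨p, _⟩ := CharP.exists F
  haveI hp : Fact p.Prime := ⟨CharP.char_is_prime F p⟩
  haveI : CharP K p := charP_of_injective_algebraMap (algebraMap F K).injective p
  letI : Algebra (ZMod p) K := ZMod.algebra K p
  haveI : Algebra.IsSeparable (ZMod p) K := inferInstance
  haveI : FiniteDimensional (ZMod p) K := Module.Finite.of_finite
  have hp3 : 3 ≤ p := by
    have h := hp.out.two_le
    rcases Nat.lt_or_ge p 3 with h' | h'
    · obtain rfl : p = 2 := by omega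
      exact absurd (by simpa using CharP.cast_eq_zero F 2) h2
    · exact h'
  set N := finrank (ZMod p) K with hN
  have hcardK : Nat.card K = p ^ N := by rw [Module.natCard_eq_pow_finrank (K := ZMod p), Nat.card_zmod]
  have hN3 : 3 ≤ N := by
    have hq : Nat.card K = Nat.card F ^ finrank F K := Module.natCard_eq_pow_finrank
    haveI := Fintype.ofFinite F
    obtain ⟨n, -, hn⟩ := FiniteField.card F p
    rw [Nat.card_eq_fintype_card (α := F)] at hq
    rw [hn, ← pow_mul, hcardK] at hq
    have h' := Nat.pow_right_injective hp.out.two_le hq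
    have := n.pos
    have := hr.two_le
    rcases Nat.lt_or_ge (finrank F K) 3 with h'' | h''
    · omega
    · nlinarith
  have hfix : ∀ y : K, y ^ (p ^ N) = y := fun y => by
    haveI := Fintype.ofFinite K
    rw [← hcardK, Nat.card_eq_fintype_card, FiniteField.pow_card]
  have hmod : ∀ (m : ℕ) (y : K), y ^ (p ^ m) = y ^ (p ^ (m % N)) := by
    intro m y
    conv_lhs => rw [← Nat.div_add_mod m N, pow_add, pow_mul]
    generalize hd : m / N = d
    clear hd
    induction d with
    | zero => simp
    | succ d ih => rw [Nat.mul_succ, pow_add, pow_mul, hfix]; exact ih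
  -- the generator is a power of the Frobenius
  obtain ⟨e, he⟩ : ∃ e, ∀ y : K, σ y = y ^ (p ^ e) := by
    let σp : K ≃ₐ[ZMod p] K := AlgEquiv.ofRingEquiv (f := (σ : K ≃+* K)) fun t =>
      RingHom.congr_fun (RingHom.ext_zmod ((σ : K →+* K).comp (algebraMap (ZMod p) K)) (algebraMap (ZMod p) K)) t
    obtain ⟨n, hn⟩ := (FiniteField.bijective_frobeniusAlgEquivOfAlgebraic_pow (ZMod p) K).2 σp
    refine ⟨n, fun y => ?_⟩
    have := DFunLike.congr_fun hn y
    simp only [AlgEquiv.coe_pow, FiniteField.coe_frobeniusAlgEquivOfAlgebraic_iterate, ZMod.card] at this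
    exact this.symm
  have hek : ∀ (k : ℕ) (y : K), (σ ^ k) y = y ^ (p ^ (e * k)) := by
    intro k
    induction k with
    | zero => intro y; simp
    | succ k ih => intro y; rw [pow_succ', AlgEquiv.mul_apply, ih, he, ← pow_mul, ← pow_add, Nat.mul_succ]
  have hone : ∀ k, (∀ y : K, y ^ (p ^ (e * k)) = y) → finrank F K ∣ k := fun k hk => by
    rw [← orderOf_gen hr hσ]
    exact orderOf_dvd_of_pow_eq_one (AlgEquiv.ext fun y => by rw [hek, hk, AlgEquiv.one_apply])
  -- the characters
  let n : Fin j → K → K := fun l a => (a * a) * (σ ^ (l.val + 1)) (a * a)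
  let χ : Fin j × Fin N → (Kˣ →* K) := fun li =>
    { toFun := fun a => n li.1 a ^ (p ^ li.2.val)
      map_one' := by simp [n]
      map_mul' := fun a a' => by simp only [n, Units.val_mul, map_mul]; ring }
  let mm : Fin j → Fin N → ℕ := fun l i => (i.val + e * (l.val + 1)) % N
  have hχ : ∀ (li : Fin j × Fin N) (a : Kˣ),
      χ li a = ((a ^ (2 * (p ^ li.2.val + p ^ mm li.1 li.2)) : Kˣ) : K) := by
    intro li a
    show n li.1 a ^ (p ^ li.2.val) = _
    simp only [n, mm]
    rw [hek, mul_pow, ← pow_mul _ (p ^ (e * _)), ← pow_add p, add_comm (e * _), hmod (li.2.val + _),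
      Units.val_pow_eq_pow_val, ← pow_add, ← sq, ← pow_mul]
  have hne : ∀ (l : Fin j) (i : Fin N), i.val ≠ mm l i := by
    intro l i h
    have h' : finrank F K ∣ l.val + 1 := hone _ fun y => by
      refine (iterateFrobenius_inj K p i.val) ?_
      simp only [iterateFrobenius_def]
      rw [← pow_mul, ← pow_add, add_comm, hmod, ← show i.val = (i.val + e * (l.val + 1)) % N from h]
    have := Nat.le_of_dvd (by omega) h'
    have := l.2
    omega
  obtain ⟨g, hg⟩ := IsCyclic.exists_generator (α := Kˣ)
  have hgo : orderOf g = p ^ N - 1 := by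
    rw [orderOf_eq_card_of_forall_mem_zpowers hg, ← hcardK]
    haveI := Fintype.ofFinite K
    rw [Nat.card_eq_fintype_card, Nat.card_eq_fintype_card, Fintype.card_units]
  have hbound : ∀ (l : Fin j) (i : Fin N), 2 * (p ^ i.val + p ^ mm l i) < p ^ N - 1 := by
    intro l i
    have hb : mm l i < N := Nat.mod_lt _ (by omega)
    have hi' := i.2
    have h := hne l i
    have hle : p ^ i.val + p ^ mm l i ≤ p ^ (N - 1) + p ^ (N - 2) := by
      rcases lt_or_gt_of_ne h with h' | h'
      · rw [add_comm]
        exact add_le_add (Nat.pow_le_pow_right hp.out.pos (by omega)) (Nat.pow_le_pow_right hp.out.pos (by omega))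
      · exact add_le_add (Nat.pow_le_pow_right hp.out.pos (by omega)) (Nat.pow_le_pow_right hp.out.pos (by omega))
    have e1 : p ^ (N - 1) = p ^ (N - 2) * p := by rw [← pow_succ]; congr 1; omega
    have e2 : p ^ N = p ^ (N - 2) * (p * p) := by rw [← sq, ← pow_add]; congr 1; omega
    have h3 : 2 ≤ p ^ (N - 2) := le_trans hp.out.two_le (Nat.le_self_pow (by omega) p)
    have h4 : p ^ (N - 2) * (2 * p + 3) ≤ p ^ (N - 2) * (p * p) := Nat.mul_le_mul le_rfl (by nlinarith)
    rw [Nat.mul_add, ← e2] at h4
    have e3 : p ^ (N - 2) * (2 * p) = 2 * p ^ (N - 1) := by rw [e1]; ring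
    omega
  have hχinj : Function.Injective χ := by
    rintro ⟨l, i⟩ ⟨l', i'⟩ hh
    have h1 := DFunLike.congr_fun hh g
    rw [hχ, hχ, Units.val_inj] at h1
    have h2' := pow_injOn_Iio_orderOf (x := g) (by rw [Set.mem_Iio, hgo]; exact hbound l i)
      (by rw [Set.mem_Iio, hgo]; exact hbound l' i') h1
    dsimp only at h2'
    rcases pow_add_pow_inj hp.out.two_le (hne l i) (hne l' i') (by omega) with ⟨hi1, hm⟩ | ⟨hi1, hm⟩
    · have hi2 : i = i' := Fin.ext hi1
      subst hi2
      have hl : σ ^ (l.val + 1) = σ ^ (l'.val + 1) := AlgEquiv.ext fun y => by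
        refine (iterateFrobenius_inj K p i.val) ?_
        simp only [iterateFrobenius_def]
        rw [hek, hek, ← pow_mul, ← pow_mul, ← pow_add, ← pow_add, add_comm _ i.val, add_comm _ i.val, hmod,
          show (i.val + e * (l.val + 1)) % N = (i.val + e * (l'.val + 1)) % N from hm, ← hmod]
      have := pow_gen_inj hr hσ (by omega) (by omega) hl
      exact Prod.ext (Fin.ext (by simpa using this)) rfl
    · exfalso
      have h' : finrank F K ∣ (l.val + 1) + (l'.val + 1) := hone _ fun y => by
        refine (iterateFrobenius_inj K p i.val) ?_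
        simp only [iterateFrobenius_def]
        rw [← pow_mul, ← pow_add,
          show e * (l.val + 1 + (l'.val + 1)) + i.val = i.val + e * (l.val + 1) + e * (l'.val + 1) by ring,
          hmod, Nat.add_mod, show (i.val + e * (l.val + 1)) % N = i'.val from hm, ← Nat.mod_eq_of_lt i'.2,
          ← Nat.add_mod, show (i'.val + e * (l'.val + 1)) % N = i.val from hi1.symm]
      have := Nat.le_of_dvd (by omega) h'
      omega
  -- the group of multipliers
  let D : (Fin j → K) →+ Module.End F K :=
    { toFun := fun y => ∑ l, twist (σ ^ (l.val + 1)) (c l * y l)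
      map_zero' := by simp [twist_zero]
      map_add' := fun a b => by simp [mul_add, twist_add, Finset.sum_add_distrib] }
  let B : Submodule (ZMod p) (Fin j → K) := AddSubgroup.toZModSubmodule p (A.comap D)
  have hn : ∀ a : K, a ≠ 0 → (fun l => n l a) ∈ B := by
    intro a ha
    show D _ ∈ A
    have h := hA a ha _ hc
    rw [Finset.mul_sum, Finset.sum_mul] at h
    simp only [mulLeft_twist] at h
    exact h
  have htop : B = ⊤ := by
    by_contra hne'
    obtain ⟨f, hf0, hfB⟩ := Submodule.exists_le_ker_of_lt_top B (lt_top_iff_ne_top.2 hne')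
    have hnd := traceForm_nondegenerate (ZMod p) K
    choose t ht using fun l : Fin j =>
      (LinearMap.BilinForm.toDual (Algebra.traceForm (ZMod p) K) hnd).surjective
        (f.comp (LinearMap.single (ZMod p) (fun _ => K) l))
    have hft : ∀ y : Fin j → K, f y = ∑ l, Algebra.trace (ZMod p) K (t l * y l) := by
      intro y
      conv_lhs => rw [← Finset.univ_sum_single y, map_sum]
      exact Finset.sum_congr rfl fun l _ => (DFunLike.congr_fun (ht l) (y l)).symm
    have h0 : ∀ a : Kˣ, ∑ li : Fin j × Fin N, t li.1 ^ (p ^ li.2.val) * χ li a = 0 := by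
      intro a
      have h := congrArg (algebraMap (ZMod p) K) (LinearMap.mem_ker.1 (hfB (hn a a.ne_zero)))
      rw [hft, map_sum, map_zero] at h
      rw [← h, Fintype.sum_prod_type]
      refine Finset.sum_congr rfl fun l _ => ?_
      rw [FiniteField.algebraMap_trace_eq_sum_pow, Nat.card_zmod, Finset.sum_range]
      exact Finset.sum_congr rfl fun i _ => (mul_pow _ _ _).symm
    have hli := (linearIndependent_monoidHom Kˣ K).comp _ hχinj
    have ht0 := Fintype.linearIndependent_iff.1 hli (fun li => t li.1 ^ (p ^ li.2.val)) (funext fun a => by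
      simp only [Finset.sum_apply, Pi.smul_apply, Function.comp_apply, Pi.zero_apply, smul_eq_mul]
      exact h0 a)
    refine hf0 (LinearMap.ext fun y => ?_)
    rw [hft, LinearMap.zero_apply]
    refine Finset.sum_eq_zero fun l _ => ?_
    rw [eq_zero_of_pow_eq_zero (ht0 (l, ⟨0, by omega⟩)), zero_mul, map_zero]
  have hmem : (Pi.single i (x / c i) : Fin j → K) ∈ B := by rw [htop]; trivial
  have h' : ∑ l, twist (σ ^ (l.val + 1)) (c l * (Pi.single i (x / c i) : Fin j → K) l) ∈ A := hmem
  rw [Finset.sum_eq_single i (fun l _ hl => by rw [Pi.single_eq_of_ne hl, mul_zero, twist_zero])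
    (fun h => absurd (Finset.mem_univ i) h), Pi.single_eq_same, mul_div_cancel₀ _ hi] at h'
  exact h'

end Cfsg.Agent.Lib.OrthExtOdd
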